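import Groth.Agent.Lib.AttrBorel21.AlmostSimple
import Groth.Agent.Lib.AttrBorel21.GeomBC
import Groth.Agent.Lib.AttrBorel21.MaxTori
import Groth.Agent.Lib.RedLR15.Converse
import Groth.Agent.Lib.TorusHom19.Basic

/-!
# The geometric fibres of a split reductive group are split
-/

set_option autoImplicit false
set_option linter.style.haveILetI false
set_option backward.isDefEq.respectTransparency false
set_option backward.isDefEq.respectTransparency.types false

universe u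

open CategoryTheory CategoryTheory.Limits MonoidalCategory CartesianMonoidalCategory MonObj AlgebraicGeometry

noncomputable section

namespace Groth.Agent.RedCell16

open DiagGL

section GaBc

variable {S S' : Scheme.{u}} (ψ : S' ⟶ S)

/-- The base change of the additive group. -/
def gaBc : Red.bc ψ (Red.Ga S) ≅ Red.Ga S' :=
  Over.isoMk (pullbackLeftPullbackSndIso Red.GaZ.hom (IsTerminal.from specULiftZIsTerminal S) ψ ≪≫
      pullback.congrHom rfl (IsTerminal.hom_ext specULiftZIsTerminal _ _))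
    (by simp [pullback.map])

theorem gaFn_gaBc {X : Over S'} (x : X ⟶ Red.bc ψ (Red.Ga S)) :
    Red.gaFn (x ≫ (gaBc ψ).hom) = Red.gaFn (fl ψ (Red.Ga S) x) := by
  have e : (x ≫ (gaBc ψ).hom).left ≫ pullback.fst _ _ =
      (fl ψ (Red.Ga S) x).left ≫ pullback.fst _ _ := by
    simp only [fl, Adjunction.homEquiv_counit, Over.comp_left, Category.assoc]
    simp [gaBc, pullback.map]
  exact congrArg (fun f => Scheme.Hom.appTop f Red.gaCoord) e

instance isMonHom_gaBc : IsMonHom (gaBc ψ).hom :=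
  TorsorSch25.isMonHom_of_points _ fun X x y => GaPts.gaFn_eq_iff.1 (by
    rw [GaPts.gaFn_mul, gaFn_gaBc ψ, gaFn_gaBc ψ, gaFn_gaBc ψ, fl_mul ψ (Red.Ga S) x y, GaPts.gaFn_mul])

instance isMonHom_gaBc_inv : IsMonHom (gaBc ψ).inv :=
  TorsorSch25.isMonHom_of_points (gaBc ψ).inv fun X x y => by
    haveI := isMonHom_gaBc ψ
    rw [← cancel_mono (gaBc ψ).hom, MonObj.mul_comp (g := (gaBc ψ).hom)]
    simp

theorem gaFn_fl_inv {X : Over S'} (x : X ⟶ Red.Ga S') :
    Red.gaFn (fl ψ (Red.Ga S) (x ≫ (gaBc ψ).inv)) = Red.gaFn x := by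
  rw [← gaFn_gaBc, Category.assoc, Iso.inv_hom_id, Category.comp_id]

end GaBc

section Geom

variable {S : Scheme.{u}} {G : Over S} [GrpObj G] (D : Red.SplitRed G)

/-- The character coordinates of the torus of a splitting. -/
def chars : Chars D.M D.T := (charsDS S D.M).transport D.split

theorem chars_chi {X : Over S} (x : X ⟶ D.T) (m : D.M) :
    Red.gmFn (x ≫ D.split.hom.hom.hom ≫ Red.chi S m) = (chars D).ch x (Multiplicative.ofAdd m) := by
  rw [← Category.assoc, AttrBorel21.gmFn_chi]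
  rfl

variable {S' : Scheme.{u}} (ψ : S' ⟶ S)

/-- The character coordinates after base change. -/
def charsBc : Chars D.M (Red.bc ψ D.T) := (chars D).baseChange ψ _

theorem exists_splitBc : ∃ e : Grp.mk (Red.bc ψ D.T) ≅ Grp.mk (Red.DS S' D.M),
    ∀ {X : Over S'} (x : X ⟶ Red.bc ψ D.T) (a : Multiplicative D.M),
      (charsDS S' D.M).ch (x ≫ e.hom.hom.hom) a = (charsBc D ψ).ch x a := by
  let C := charsBc D ψ
  let E := charsDS S' D.M
  obtain ⟨f, hf⟩ := E.surj (C.ch (𝟙 (Red.bc ψ D.T)))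
  obtain ⟨g, hg⟩ := C.surj (E.ch (𝟙 (Red.DS S' D.M)))
  let F : Red.bc ψ D.T ≅ Red.DS S' D.M := ⟨f, g, C.inj fun a => by rw [C.nat, hg, ← E.nat, Category.comp_id, hf],
    E.inj fun a => by rw [E.nat, hf, ← C.nat, Category.comp_id, hg]⟩
  have hch : ∀ {T : Over S'} (x : T ⟶ Red.bc ψ D.T) (a : Multiplicative D.M), E.ch (x ≫ f) a = C.ch x a :=
    fun {T} x a => by rw [E.nat, hf, ← C.nat, Category.comp_id]
  haveI : IsMonHom F.hom := TorsorSch25.isMonHom_of_points f fun T x y => E.inj fun a => by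
    rw [hch, C.mul, E.mul, hch, hch]
  exact ⟨Grp.mkIso' F, hch⟩

/-- The splitting of the torus after base change. -/
def splitBc : Grp.mk (Red.bc ψ D.T) ≅ Grp.mk (Red.DS S' D.M) := (exists_splitBc D ψ).choose

theorem splitBc_ch {X : Over S'} (x : X ⟶ Red.bc ψ D.T) (a : Multiplicative D.M) :
    (charsDS S' D.M).ch (x ≫ (splitBc D ψ).hom.hom.hom) a = (charsBc D ψ).ch x a :=
  (exists_splitBc D ψ).choose_spec x a

omit [GrpObj G] in
theorem fl_inv [GrpObj G] {X : Over S'} (z : X ⟶ Red.bc ψ G) : fl ψ G z⁻¹ = (fl ψ G z)⁻¹ :=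
  map_inv (MonoidHom.mk' (fun z : X ⟶ Red.bc ψ G => fl ψ G z) (fl_mul ψ G)) z

/-- The base change of a root homomorphism. -/
def uBc (a : D.idx) : Red.Ga S' ⟶ Red.bc ψ G := (gaBc ψ).inv ≫ (Over.pullback ψ).map (D.u a)

theorem fl_uBc {X : Over S'} (x : X ⟶ Red.Ga S') (a : D.idx) :
    fl ψ G (x ≫ uBc D ψ a) = fl ψ (Red.Ga S) (x ≫ (gaBc ψ).inv) ≫ D.u a := by
  rw [uBc, ← Category.assoc, TorPts21.fl_comp_map]

theorem isRootHom_bc (a : D.idx) :
    Red.IsRootHom ((Over.pullback ψ).map D.i) ((splitBc D ψ).hom.hom.hom ≫ Red.chi S' (D.P.root a))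
      (uBc D ψ a) := by
  obtain ⟨hm, hc, hconj⟩ := D.rootHom a
  haveI := hm
  haveI := hc
  haveI := D.maximalTorus.1
  haveI h2 : IsClosedImmersion ((Over.pullback ψ).map (D.u a)).left :=
    MorphismProperty.overPullbackMap (P := @IsClosedImmersion) ψ (D.u a) hc
  refine ⟨by unfold uBc; infer_instance, ?_, fun X t x => ?_⟩
  · haveI : IsIso (gaBc ψ).inv.left := inferInstanceAs (IsIso ((Over.forget _).map (gaBc ψ).inv))
    show IsClosedImmersion ((gaBc ψ).inv.left ≫ ((Over.pullback ψ).map (D.u a)).left)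
    infer_instance
  · obtain ⟨y₀, hy₀, hyv⟩ := hconj _ (fl ψ D.T t) (fl ψ (Red.Ga S) (x ≫ (gaBc ψ).inv))
    obtain ⟨y₁, hy₁⟩ := fl_surjective ψ (Red.Ga S) (T := X) y₀
    refine ⟨y₁ ≫ (gaBc ψ).hom, fl_injective ψ G ?_, ?_⟩
    · rw [fl_uBc, Category.assoc, Iso.hom_inv_id, Category.comp_id, hy₁, hy₀, fl_mul, fl_mul, fl_inv,
        TorPts21.fl_comp_map, fl_uBc]
    · rw [gaFn_gaBc, hy₁, hyv, gaFn_fl_inv, chars_chi, ← Category.assoc t, AttrBorel21.gmFn_chi, splitBc_ch]
      rfl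

theorem DSmap_ch {M N : Type} [AddCommGroup M] [AddCommGroup N] {X : Over S} (x : X ⟶ Red.DS S N) (φ : M →+ N)
    (a : Multiplicative M) : (charsDS S M).ch (x ≫ Red.DSmap S φ) a = (charsDS S N).ch x (AddMonoidHom.toMultiplicative φ a) :=
  AttrBorel21.gmFn_DSmap x φ a.toAdd

end Geom

section Fibre

variable {S : Scheme.{u}} {G : Over S} [GrpObj G] (D : Red.SplitRed G) (s : S)

set_option maxHeartbeats 800000 in
include D in
theorem isReductive_geomFibre : Red.IsReductive (Red.geomFibre s G) := by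
  obtain ⟨ha, hs, hc, hu⟩ := id (D.reductive.2.2 s)
  haveI := ha
  haveI := hs
  refine ⟨inferInstance, hs, fun p => ?_⟩
  haveI : IsIso (Red.geomPt p) := TorPts21.isIso_geomPt p
  exact RedLR15.isReductiveOver_bc_of_isIso (Red.geomPt p) (D.reductive.2.2 s)

theorem isMaximalTorus_geomFibre : Red.IsMaximalTorus ((Over.pullback (Red.geomPt s)).map D.i) := by
  haveI := D.maximalTorus.1
  haveI := D.maximalTorus.2.1
  exact AttrBorel21.isMaximalTorus_of_isMaxTorus ⟨inferInstance, inferInstance,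
    TorusHom19.isTorus_bc D.maximalTorus.2.2.1 _,
    fun T' _ j _ _ f hT' hf => D.maximalTorus.2.2.2 s T' j f hT' hf⟩

set_option maxHeartbeats 800000 in
theorem refl_bc {S' : Scheme.{u}} (ψ : S' ⟶ S) (a : D.idx) : ∃ n : 𝟙_ (Over S') ⟶ Red.bc ψ G,
    ∀ (X : Over S') (t : X ⟶ Red.bc ψ D.T),
      (toUnit X ≫ n) * (t ≫ (Over.pullback ψ).map D.i) * (toUnit X ≫ n)⁻¹ =
        t ≫ (splitBc D ψ).hom.hom.hom ≫ Red.DSmap S' (D.P.reflection a).toLinearMap.toAddMonoidHom ≫
          (splitBc D ψ).inv.hom.hom ≫ (Over.pullback ψ).map D.i := by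
  obtain ⟨n, hn⟩ := D.refl a
  obtain ⟨n', hn'⟩ := fl_surjective ψ G (T := 𝟙_ (Over S')) (toUnit _ ≫ n)
  refine ⟨n', fun X t => fl_injective ψ G ?_⟩
  let t' : X ⟶ Red.bc ψ D.T := t ≫ (splitBc D ψ).hom.hom.hom ≫
    Red.DSmap S' (D.P.reflection a).toLinearMap.toAddMonoidHom ≫ (splitBc D ψ).inv.hom.hom
  have hflinv : ∀ z : X ⟶ Red.bc ψ G, fl ψ G z⁻¹ = (fl ψ G z)⁻¹ := fun z =>
    map_inv (MonoidHom.mk' (fun z : X ⟶ Red.bc ψ G => fl ψ G z) (fl_mul ψ G)) z
  have hRHS : fl ψ D.T t' = fl ψ D.T t ≫ D.split.hom.hom.hom ≫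
      Red.DSmap S (D.P.reflection a).toLinearMap.toAddMonoidHom ≫ D.split.inv.hom.hom := by
    refine (chars D).inj fun m => ?_
    have e1 : (chars D).ch (fl ψ D.T t') m = (charsBc D ψ).ch t' m := rfl
    rw [e1, ← splitBc_ch]
    have e2 : t' ≫ (splitBc D ψ).hom.hom.hom =
        t ≫ (splitBc D ψ).hom.hom.hom ≫ Red.DSmap S' (D.P.reflection a).toLinearMap.toAddMonoidHom := by
      simp [t', ← Grp.comp', ← Mon.comp_hom']
    rw [e2, ← Category.assoc t, DSmap_ch, splitBc_ch]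
    show _ = (charsDS S D.M).ch ((fl ψ D.T t ≫ D.split.hom.hom.hom ≫ _ ≫ D.split.inv.hom.hom) ≫
      D.split.hom.hom.hom) m
    have e3 : D.split.inv.hom.hom ≫ D.split.hom.hom.hom = 𝟙 _ := by simp [← Grp.comp', ← Mon.comp_hom']
    simp only [Category.assoc, e3, Category.comp_id]
    rw [← Category.assoc, DSmap_ch]
    rfl
  rw [fl_mul, fl_mul, hflinv, TorPts21.fl_comp_map, fl_comp, hn', ← Category.assoc,
    show (Over.map ψ).map (toUnit X) ≫ toUnit _ = toUnit _ from Subsingleton.elim _ _, hn]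
  rw [show t ≫ (splitBc D ψ).hom.hom.hom ≫ Red.DSmap S' (D.P.reflection a).toLinearMap.toAddMonoidHom ≫
          (splitBc D ψ).inv.hom.hom ≫ (Over.pullback ψ).map D.i = t' ≫ (Over.pullback ψ).map D.i by
    simp [t'], TorPts21.fl_comp_map, hRHS]
  simp

set_option maxHeartbeats 800000 in
/-- The splitting of a geometric fibre. -/
@[reducible] def geomSplit : Red.SplitRed (Red.geomFibre s G) where
  T := Red.bc (Red.geomPt s) D.T
  i := (Over.pullback (Red.geomPt s)).map D.i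
  M := D.M
  idx := D.idx
  P := D.P
  pairing_eq := D.pairing_eq
  u := uBc D (Red.geomPt s)
  reductive := isReductive_geomFibre D s
  maximalTorus := isMaximalTorus_geomFibre D s
  split := splitBc D (Red.geomPt s)
  rootHom := isRootHom_bc D (Red.geomPt s)
  refl := refl_bc D (Red.geomPt s)
  dim_fibre p := by
    haveI : IsIso (Red.geomPt p) := TorPts21.isIso_geomPt p
    haveI : IsIso (pullback.fst (Red.geomFibre s G).hom (Red.geomPt p)) := inferInstance
    rw [← D.dim_fibre s]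
    exact (pullback.fst (Red.geomFibre s G).hom (Red.geomPt p)).homeomorph.isHomeomorph.topologicalKrullDim_eq

end Fibre

end Groth.Agent.RedCell16
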