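import Groth.Agent.Lib.RedCell16.PairA2

/-!
# Rank two computations: type G₂
-/

set_option autoImplicit false
set_option linter.style.haveILetI false
set_option linter.unusedSimpArgs false
set_option linter.unusedSectionVars false
set_option backward.isDefEq.respectTransparency false
set_option backward.isDefEq.respectTransparency.types false

universe u

open CategoryTheory CategoryTheory.Limits MonoidalCategory CartesianMonoidalCategory MonObj AlgebraicGeometry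

noncomputable section

namespace Groth.Agent.RedCell16

open DiagGL RootDLib
open RankOne (P A)

variable {S : Scheme.{u}} {G : Over S} [GrpObj G] {D : Red.SplitRed G} [D.P.IsReduced] {a b : D.idx}
  (h : PairSys D.P a b 3) (b₀ : D.P.Base) (Ea : DualPair D a) (Eb : DualPair D b)

/-- The four root groups of the pinned system of type G₂. -/
abbrev g11 (a b : D.idx) (X : Over S) (x : Γ(X.left, ⊤)) : X ⟶ G := cj (Wy D b X) (P (D.u a) x)

/-- `u_{2a+b}` -/
abbrev g21 (a b : D.idx) (X : Over S) (x : Γ(X.left, ⊤)) : X ⟶ G := cj (Wy D a X) (g11 a b X x)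

/-- `u_{3a+b}` -/
abbrev g31 (a b : D.idx) (X : Over S) (x : Γ(X.left, ⊤)) : X ⟶ G := cj (Wy D a X) (P (D.u b) (-x))

/-- `u_{3a+2b}` -/
abbrev g32 (a b : D.idx) (X : Over S) (x : Γ(X.left, ⊤)) : X ⟶ G := cj (Wy D b X) (g31 a b X x)

include h b₀ Ea Eb

set_option maxHeartbeats 1600000 in
/-- **The relations in type G₂.** -/
theorem G2_main (X : Over S) (x y : Γ(X.left, ⊤)) :
    comm D b a y x = g11 a b X (x * y) * g21 a b X (-(x ^ 2 * y)) * g31 a b X (x ^ 3 * y) *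
        g32 a b X (-(x ^ 3 * y ^ 2)) ∧
    g11 a b X y * P (D.u a) x * (g11 a b X y)⁻¹ * (P (D.u a) x)⁻¹ =
      g21 a b X (2 * x * y) * g31 a b X (-(3 * x ^ 2 * y)) * g32 a b X (-(3 * x * y ^ 2)) ∧
    g21 a b X y * P (D.u a) x * (g21 a b X y)⁻¹ * (P (D.u a) x)⁻¹ = g31 a b X (3 * x * y) ∧
    P (D.u b) y * g31 a b X x * (P (D.u b) y)⁻¹ * (g31 a b X x)⁻¹ = g32 a b X (x * y) ∧
    g21 a b X y * g11 a b X x * (g21 a b X y)⁻¹ * (g11 a b X x)⁻¹ = g32 a b X (3 * x * y) := by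
  haveI := D.fintypeIdx
  haveI := fun c => (D.rootHom c).1
  set c := D.P.reflectionPerm b a with hc
  set e := D.P.reflectionPerm a c with he
  set d := D.P.reflectionPerm a b with hd
  set f := D.P.reflectionPerm b d with hf
  set na := ng D.P a with hna
  set nb := ng D.P b with hnb
  have ra := root_coords_a a b
  have rb := root_coords_b a b
  have rc : D.P.root c = (1 : ℤ) • D.P.root a + (1 : ℤ) • D.P.root b := (h.root_refl_b ra).trans (by norm_num)
  have re : D.P.root e = (2 : ℤ) • D.P.root a + (1 : ℤ) • D.P.root b := (h.root_refl_a rc).trans (by norm_num)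
  have rd : D.P.root d = (3 : ℤ) • D.P.root a + (1 : ℤ) • D.P.root b := (h.root_refl_a rb).trans (by norm_num)
  have rf : D.P.root f = (3 : ℤ) • D.P.root a + (2 : ℤ) • D.P.root b := (h.root_refl_b rd).trans (by norm_num)
  have rna : D.P.root na = (-1 : ℤ) • D.P.root a + (0 : ℤ) • D.P.root b := (root_coords_ng ra).trans (by norm_num)
  have rnb : D.P.root nb = (0 : ℤ) • D.P.root a + (-1 : ℤ) • D.P.root b := (root_coords_ng rb).trans (by norm_num)
  obtain ⟨ν1, hν1n, hν1⟩ := exists_cj_coeff D b₀ Eb a c hc.symm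
  obtain ⟨q, hqn, hq⟩ := exists_cj_coeff D b₀ Ea c e he.symm
  obtain ⟨ρ, hρn, hρ⟩ := exists_cj_coeff D b₀ Ea b d hd.symm
  obtain ⟨l4, hl4n, hl4⟩ := exists_cj_coeff D b₀ Eb d f hf.symm
  obtain ⟨m1, -, hm1⟩ := exists_cj_coeff D b₀ Ea e c (eq_of_coords ((h.root_refl_a re).trans (by norm_num)) rc)
  obtain ⟨m2, -, hm2⟩ := exists_cj_coeff D b₀ Ea f f (eq_of_coords ((h.root_refl_a rf).trans (by norm_num)) rf)
  obtain ⟨m3, -, hm3⟩ := exists_cj_coeff D b₀ Ea d b (eq_of_coords ((h.root_refl_a rd).trans (by norm_num)) rb)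
  obtain ⟨B, hBn, hB⟩ := h.exists_comm b₀ 1 1 (x := b) (y := a) (0, 1) (1, 0) rb ra (by decide) (by decide)
    ![c, e, f, d] ![(1, 1), (2, 1), (3, 2), (3, 1)] (fun l => by fin_cases l; exacts [rc, re, rf, rd]) (by decide)
    ![1, 1, 2, 1] ![1, 2, 3, 3] (by decide) (by decide) (by decide)
  obtain ⟨C, -, hC⟩ := h.exists_comm b₀ 2 (-1) (x := c) (y := nb) (1, 1) (0, -1) rc rnb (by decide) (by decide)
    ![e, f, d, a] ![(2, 1), (3, 2), (3, 1), (1, 0)] (fun l => by fin_cases l; exacts [re, rf, rd, ra]) (by decide)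
    ![2, 3, 3, 1] ![1, 1, 2, 1] (by decide) (by decide) (by decide)
  obtain ⟨K, hKn, hK⟩ := h.exists_comm b₀ 1 1 (x := c) (y := a) (1, 1) (1, 0) rc ra (by decide) (by decide) ![e, d, f]
    ![(2, 1), (3, 1), (3, 2)] (fun l => by fin_cases l; exacts [re, rd, rf]) (by decide) ![1, 1, 2] ![1, 2, 1]
    (by decide) (by decide) (by decide)
  obtain ⟨N, hNn, hN⟩ := h.exists_comm b₀ 1 1 (x := e) (y := a) (2, 1) (1, 0) re ra (by decide) (by decide) ![d]
    ![(3, 1)] (fun l => by fin_cases l; exact rd) (by decide) ![1] ![1] (by decide) (by decide) (by decide)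
  obtain ⟨R, hRn, hR⟩ := h.exists_comm b₀ 1 1 (x := e) (y := c) (2, 1) (1, 1) re rc (by decide) (by decide) ![f]
    ![(3, 2)] (fun l => by fin_cases l; exact rf) (by decide) ![1] ![1] (by decide) (by decide) (by decide)
  have hBx : ∀ (Y : Over S) (u w : Γ(Y.left, ⊤)), comm D b a u w = P (D.u c) (B Y 0 * u * w) *
      (P (D.u e) (B Y 1 * u * w ^ 2) * (P (D.u f) (B Y 2 * u ^ 2 * w ^ 3) * P (D.u d) (B Y 3 * u * w ^ 3))) :=
    fun Y u w => by rw [hB, rp_four]; simp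
  have cm : ∀ {p r : D.idx} {p1 p2 r1 r2 : ℤ} (Y : Over S), D.P.root p = p1 • D.P.root a + p2 • D.P.root b →
      D.P.root r = r1 • D.P.root a + r2 • D.P.root b → (p1 + r1, p2 + r2) ≠ (0 : ℤ × ℤ) →
      (p1 + r1, p2 + r2) ∉ pairList 3 → ∀ s t, Commute (P (D.u p) s : Y ⟶ G) (P (D.u r) t) :=
    fun Y hp hr h0 hn s t => h.commute_root b₀ hp hr h0 hn Y s t
  -- first coefficient
  have hB0 : ∀ Y : Over S, B Y 0 = ν1 Y := fun Y => by
    have e1 := comm_identity D (a := b) (b := a) (c := c) Y (1 : Γ(Y.left, ⊤)) (ν1 Y)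
      (fun u => cm Y rb rc (by decide) (by decide) u _) (by rw [hν1, _root_.mul_one])
    rw [hBx, hC] at e1
    have e2 : rp (X := Y) D ![c, e, f, d, a] ![B Y 0, B Y 1, B Y 2, B Y 3, 1] = rp (X := Y) D ![c, e, f, d, a]
        ![ν1 Y, C Y 0 * (-ν1 Y) ^ 2, C Y 1 * (-ν1 Y) ^ 3, C Y 2 * (-ν1 Y) ^ 3, C Y 3 * -ν1 Y] := by
      simp [rp_four, rp_five, _root_.mul_assoc] at e1 ⊢; exact e1
    have e3 := congrFun (h.rp_inj b₀ 1 0 _ ![(1, 1), (2, 1), (3, 2), (3, 1), (1, 0)]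
      (fun l => by fin_cases l; exacts [rc, re, rf, rd, ra]) (by decide) (by decide) (by decide) e2) 0
    simpa using e3
  -- second and fourth coefficient
  have hI : ∀ Y : Over S, B Y 1 = -(q Y * ν1 Y) ∧ B Y 3 = -ρ Y := fun Y => by
    have e1 := comm_identity D (a := a) (b := b) (c := d) Y (1 : Γ(Y.left, ⊤)) (ρ Y)
      (fun u => cm Y ra rd (by decide) (by decide) u _) (by rw [hρ, _root_.mul_one])
    have e2 : comm D a b (1 : Γ(Y.left, ⊤)) 1 = (comm D b a (1 : Γ(Y.left, ⊤)) 1)⁻¹ := by simp only [comm]; group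
    have e3 : comm D d na (-ρ Y) (1 : Γ(Y.left, ⊤)) = cj (Wy D a Y) (comm D b a (-1 : Γ(Y.left, ⊤)) (-1)) := by
      simp only [comm, cj_comm, (cj_self D Ea Y _).1, hρ, neg_neg]
      congr 4 <;> simp
    rw [e2, e3, hBx, hBx, cj_mul, cj_mul, cj_mul, hq, hm1, hm2, hm3] at e1
    simp only [_root_.mul_inv_rev, ← RankOne.P_neg, hB0] at e1
    simp only [_root_.mul_one, one_pow, neg_one_sq, show (-1 : Γ(Y.left, ⊤)) ^ 3 = -1 by ring, _root_.mul_neg, neg_neg] at e1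
    simp only [← _root_.mul_neg] at e1
    simp only [_root_.mul_assoc] at e1
    rw [← _root_.mul_assoc (P (D.u c) (m1 Y * -B Y 1)), ← (cm Y rf rc (by decide) (by decide) (m2 Y * -B Y 2) (m1 Y * -B Y 1)).eq,
      _root_.mul_assoc, ← _root_.mul_assoc (P (D.u e) (q Y * ν1 Y)), ← (cm Y rf re (by decide) (by decide) (m2 Y * -B Y 2) _).eq,
      _root_.mul_assoc] at e1
    have e7 : rp (X := Y) D ![d, f, e, c, b] ![-B Y 3, -B Y 2, -B Y 1, -ν1 Y, 1] =
        rp (X := Y) D ![d, f, e, c, b] ![ρ Y, m2 Y * -B Y 2, q Y * ν1 Y, m1 Y * -B Y 1, m3 Y * B Y 3] := by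
      simp [rp_five, _root_.mul_assoc] at e1 ⊢; exact e1
    have e8 := h.rp_inj b₀ 0 1 _ ![(3, 1), (3, 2), (2, 1), (1, 1), (0, 1)]
      (fun l => by fin_cases l; exacts [rd, rf, re, rc, rb]) (by decide) (by decide) (by decide) e7
    have f0 := congrFun e8 0
    have f2 := congrFun e8 2
    simp at f0 f2
    exact ⟨by rw [← f2, neg_neg], by rw [← f0, neg_neg]⟩
  -- normal form in the group of positive roots of height at least two
  let Nf : ∀ Y : Over S, Γ(Y.left, ⊤) → Γ(Y.left, ⊤) → Γ(Y.left, ⊤) → Γ(Y.left, ⊤) → (Y ⟶ G) := fun Y x1 x2 x3 x4 =>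
    rp D ![c, e, d, f] ![x1, x2, x3, x4]
  have hNf : ∀ (Y : Over S) x1 x2 x3 x4, Nf Y x1 x2 x3 x4 =
      P (D.u c) x1 * P (D.u e) x2 * P (D.u d) x3 * P (D.u f) x4 := fun Y x1 x2 x3 x4 => by
    simp [Nf, rp_four, _root_.mul_assoc]
  have hinj : ∀ (Y : Over S) x1 x2 x3 x4 z1 z2 z3 z4, Nf Y x1 x2 x3 x4 = Nf Y z1 z2 z3 z4 →
      x1 = z1 ∧ x2 = z2 ∧ x3 = z3 ∧ x4 = z4 := fun Y x1 x2 x3 x4 z1 z2 z3 z4 hh => by
    have e2 : rp (X := Y) D ![c, e, d, f, a] ![x1, x2, x3, x4, 0] = rp (X := Y) D ![c, e, d, f, a] ![z1, z2, z3, z4, 0] := by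
      rw [hNf, hNf] at hh
      simp [rp_five, RankOne.P_zero, ← _root_.mul_assoc] at hh ⊢
      exact hh
    have e3 := h.rp_inj b₀ 1 0 _ ![(1, 1), (2, 1), (3, 1), (3, 2), (1, 0)]
      (fun l => by fin_cases l; exacts [rc, re, rd, rf, ra]) (by decide) (by decide) (by decide) e2
    exact ⟨by simpa using congrFun e3 0, by simpa using congrFun e3 1, by simpa using congrFun e3 2,
      by simpa using congrFun e3 3⟩
  have hmul : ∀ (Y : Over S) x1 x2 x3 x4 z1 z2 z3 z4, Nf Y x1 x2 x3 x4 * Nf Y z1 z2 z3 z4 =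
      Nf Y (x1 + z1) (x2 + z2) (x3 + z3) (x4 + z4 + R Y 0 * x2 * z1) := fun Y x1 x2 x3 x4 z1 z2 z3 z4 => by
    have hec : P (D.u e) x2 * P (D.u c) z1 = P (D.u c) z1 * P (D.u e) x2 * P (D.u f) (R Y 0 * x2 * z1) := by
      have h1 := hR Y x2 z1
      simp [rp_one] at h1
      have h2 : P (D.u e) x2 * P (D.u c) z1 = P (D.u f) (R Y 0 * x2 * z1) * P (D.u c) z1 * P (D.u e) x2 := by
        rw [← h1]; simp only [comm]; group
      rw [h2, _root_.mul_assoc, ((cm Y rf rc (by decide) (by decide) (R Y 0 * x2 * z1) z1).mul_right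
        (cm Y rf re (by decide) (by decide) (R Y 0 * x2 * z1) x2)).eq]
    have c1 := fun s t => (cm Y rf rc (by decide) (by decide) s t).eq
    have c2 := fun s t => (cm Y rd rc (by decide) (by decide) s t).eq
    have c3 := fun s t => (cm Y rf re (by decide) (by decide) s t).eq
    have c4 := fun s t => (cm Y rd re (by decide) (by decide) s t).eq
    have c5 := fun s t => (cm Y rf rd (by decide) (by decide) s t).eq
    have ga : ∀ g1 g2 g3 : Y ⟶ G, g1 * g2 * g3 = g1 * (g2 * g3) := fun g1 g2 g3 => _root_.mul_assoc g1 g2 g3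
    simp only [hNf, RankOne.P_add, ga]
    rw [← ga (P (D.u f) x4), c1, ga, ← ga (P (D.u d) x3), c2, ga,
      ← ga (P (D.u f) x4), c3, ga, ← ga (P (D.u d) x3), c4, ga,
      ← ga (P (D.u e) x2) (P (D.u c) z1), hec]
    simp only [ga]
    rw [← ga (P (D.u f) (R Y 0 * x2 * z1)), c3, ga,
      ← ga (P (D.u f) (R Y 0 * x2 * z1)), c5, ga,
      ← ga (P (D.u f) x4) (P (D.u d) z3), c5, ga,
      ← ga (P (D.u f) (R Y 0 * x2 * z1)) (P (D.u d) z3), c5, ga]
    congr 5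
    simp only [← RankOne.P_add]
    congr 1
    ring
  have hΦ : ∀ (Y : Over S) (u w : Γ(Y.left, ⊤)), comm D b a u w = Nf Y (B Y 0 * u * w) (B Y 1 * u * w ^ 2)
      (B Y 3 * u * w ^ 3) (B Y 2 * u ^ 2 * w ^ 3) := fun Y u w => by
    rw [hBx, hNf, (cm Y rf rd (by decide) (by decide) (B Y 2 * u ^ 2 * w ^ 3) (B Y 3 * u * w ^ 3)).eq]
    simp only [_root_.mul_assoc]
  -- additivity in x
  have ja : ∀ (Y : Over S) (x1 x2 x3 x4 : Γ(Y.left, ⊤)), cj (P (D.u a) (1 : Γ(Y.left, ⊤))) (Nf Y x1 x2 x3 x4) =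
      Nf Y x1 (-(K Y 0 * x1)) (-(K Y 1 * x1)) (K Y 2 * x1 ^ 2) * Nf Y 0 x2 (-(N Y 0 * x2)) 0 * Nf Y 0 0 x3 x4 := by
    intro Y x1 x2 x3 x4
    have j1 : cj (P (D.u a) (1 : Γ(Y.left, ⊤))) (P (D.u c) x1) = P (D.u c) x1 * comm D c a (-x1) 1 := by
      simp only [cj, comm, RankOne.P_neg]; group
    have j2 : cj (P (D.u a) (1 : Γ(Y.left, ⊤))) (P (D.u e) x2) = P (D.u e) x2 * comm D e a (-x2) 1 := by
      simp only [cj, comm, RankOne.P_neg]; group
    have j3 : cj (P (D.u a) (1 : Γ(Y.left, ⊤))) (P (D.u d) x3) = P (D.u d) x3 := by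
      rw [cj, (cm Y ra rd (by decide) (by decide) _ _).eq, mul_inv_cancel_right]
    have j4 : cj (P (D.u a) (1 : Γ(Y.left, ⊤))) (P (D.u f) x4) = P (D.u f) x4 := by
      rw [cj, (cm Y ra rf (by decide) (by decide) _ _).eq, mul_inv_cancel_right]
    simp only [hNf, cj_mul, j1, j2, j3, j4, hK, hN, rp_three, rp_one]
    simp [RankOne.P_zero, _root_.mul_assoc]
  have hx : ∀ (Y : Over S) (v : Γ(Y.left, ⊤)),
      B Y 1 * (1 + v) ^ 2 = B Y 1 - K Y 0 * B Y 0 * v + B Y 1 * v ^ 2 ∧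
      B Y 3 * (1 + v) ^ 3 = B Y 3 - K Y 1 * B Y 0 * v - N Y 0 * B Y 1 * v ^ 2 + B Y 3 * v ^ 3 ∧
      B Y 2 * (1 + v) ^ 3 = B Y 2 + R Y 0 * B Y 1 * B Y 0 * v + K Y 2 * (B Y 0) ^ 2 * v ^ 2 + B Y 2 * v ^ 3 := by
    intro Y v
    have e0 : comm D b a (1 : Γ(Y.left, ⊤)) (1 + v) =
        comm D b a (1 : Γ(Y.left, ⊤)) 1 * cj (P (D.u a) 1) (comm D b a (1 : Γ(Y.left, ⊤)) v) := by
      simp only [comm, cj, RankOne.P_add]; group
    rw [hΦ, hΦ, hΦ, ja, hmul, hmul, hmul] at e0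
    obtain ⟨-, h2, h3, h4⟩ := hinj _ _ _ _ _ _ _ _ _ e0
    exact ⟨by linear_combination h2, by linear_combination h3, by linear_combination h4⟩
  have hK0 : K X 0 * ν1 X = 2 * (q X * ν1 X) := by
    have := (hx X 1).1
    rw [hB0, (hI X).1] at this
    linear_combination this
  have q3 := quad_eq_zero (fun Y => 3 * B Y 3 + K Y 1 * B Y 0) (fun Y => 3 * B Y 3 + N Y 0 * B Y 1)
    (fun Y Y' g => by simp only [map_add, map_mul, map_ofNat, hBn, hKn])
    (fun Y Y' g => by simp only [map_add, map_mul, map_ofNat, hBn, hNn])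
    (fun Y v => by linear_combination (hx Y v).2.1) X
  have q4 := quad_eq_zero (fun Y => 3 * B Y 2 - R Y 0 * B Y 1 * B Y 0) (fun Y => 3 * B Y 2 - K Y 2 * (B Y 0) ^ 2)
    (fun Y Y' g => by simp only [map_sub, map_mul, map_ofNat, hBn, hRn])
    (fun Y Y' g => by simp only [map_sub, map_mul, map_pow, map_ofNat, hBn, hKn])
    (fun Y v => by linear_combination (hx Y v).2.2) X
  -- additivity in y
  have h' : PairSys D.P d b 1 := by
    have hdb : D.P.pairing d b = -1 := by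
      rw [← RootPairing.root_coroot'_eq_pairing, rd, (h.coroot_eval 3 1).2]; norm_num
    refine ⟨Or.inl rfl, hdb, ?_, ?_⟩
    · rw [hd, RootPairing.pairing_reflectionPerm, ← hd, hdb]
    · have e1 : D.P.root b - D.P.root d = (-3 : ℤ) • D.P.root a + (0 : ℤ) • D.P.root b := by
        rw [rd]; simp only [neg_smul, zero_smul, one_smul]; abel
      rw [e1]; exact h.notMem (by decide)
  have hbd : ∀ (Y : Over S) (s t : Γ(Y.left, ⊤)), comm D b d s t = P (D.u f) (l4 Y * (t * s)) := fun Y s t => by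
    rw [A2_comm h' b₀ Eb, hl4]
  have hB2 : B X 2 = -(l4 X * -ρ X) := by
    have e0 : comm D b a (1 + 1 : Γ(X.left, ⊤)) 1 =
        cj (P (D.u b) 1) (comm D b a (1 : Γ(X.left, ⊤)) 1) * comm D b a (1 : Γ(X.left, ⊤)) 1 := by
      simp only [comm, cj, RankOne.P_add]; group
    have jb : ∀ x1 x2 x3 x4 : Γ(X.left, ⊤),
        cj (P (D.u b) (1 : Γ(X.left, ⊤))) (Nf X x1 x2 x3 x4) = Nf X x1 x2 x3 (x4 + l4 X * x3) := fun x1 x2 x3 x4 => by
      have j1 : cj (P (D.u b) (1 : Γ(X.left, ⊤))) (P (D.u c) x1) = P (D.u c) x1 := by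
        rw [cj, (cm X rb rc (by decide) (by decide) _ _).eq, mul_inv_cancel_right]
      have j2 : cj (P (D.u b) (1 : Γ(X.left, ⊤))) (P (D.u e) x2) = P (D.u e) x2 := by
        rw [cj, (cm X rb re (by decide) (by decide) _ _).eq, mul_inv_cancel_right]
      have j3 : cj (P (D.u b) (1 : Γ(X.left, ⊤))) (P (D.u d) x3) = P (D.u d) x3 * P (D.u f) (l4 X * x3) := by
        rw [show cj (P (D.u b) (1 : Γ(X.left, ⊤))) (P (D.u d) x3) = comm D b d 1 x3 * P (D.u d) x3 by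
          simp only [cj, comm]; group, hbd, _root_.mul_one, (cm X rf rd (by decide) (by decide) _ _).eq]
      have j4 : cj (P (D.u b) (1 : Γ(X.left, ⊤))) (P (D.u f) x4) = P (D.u f) x4 := by
        rw [cj, (cm X rb rf (by decide) (by decide) _ _).eq, mul_inv_cancel_right]
      rw [hNf, hNf, cj_mul, cj_mul, cj_mul, j1, j2, j3, j4, add_comm x4, RankOne.P_add]
      group
    rw [hΦ, hΦ, jb, hmul] at e0
    obtain ⟨-, -, -, h4⟩ := hinj _ _ _ _ _ _ _ _ _ e0
    linear_combination -h4 + q4.1 - l4 X * (hI X).2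
  have e11 : ∀ z, g11 a b X z = P (D.u c) (ν1 X * z) := fun z => hν1 X z
  have e21 : ∀ z, g21 a b X z = P (D.u e) (q X * ν1 X * z) := fun z => by
    rw [g21, e11, hq, _root_.mul_assoc]
  have e31 : ∀ z, g31 a b X z = P (D.u d) (-ρ X * z) := fun z => by rw [g31, hρ]; congr 1; ring
  have e32 : ∀ z, g32 a b X z = P (D.u f) (l4 X * -ρ X * z) := fun z => by rw [g32, e31, hl4, _root_.mul_assoc]
  obtain ⟨q31, q32⟩ := q3
  obtain ⟨q41, q42⟩ := q4
  rw [hB0, (hI X).2] at q31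
  rw [(hI X).1, (hI X).2] at q32
  rw [hB0, (hI X).1, hB2] at q41
  rw [hB0, hB2] at q42
  refine ⟨?_, ?_, ?_, ?_, ?_⟩
  · rw [hΦ, hNf, e11, e21, e31, e32, hB0, (hI X).1, (hI X).2, hB2]
    congr 1
    · congr 1
      · congr 1 <;> (congr 1; ring)
      · congr 1; ring
    · congr 1; ring
  · rw [e11, e21, e31, e32, show P (D.u c) (ν1 X * y) * P (D.u a) x * (P (D.u c) (ν1 X * y))⁻¹ * (P (D.u a) x)⁻¹ =
      comm D c a (ν1 X * y) x from rfl, hK, rp_three]
    simp [_root_.mul_assoc]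
    congr 1
    · congr 1; linear_combination (x * y) * hK0
    congr 1
    · congr 1; linear_combination (x ^ 2 * y) * q31
    · congr 1; linear_combination (-(x * y ^ 2)) * q42
  · rw [e21, e31, show P (D.u e) (q X * ν1 X * y) * P (D.u a) x * (P (D.u e) (q X * ν1 X * y))⁻¹ * (P (D.u a) x)⁻¹ =
      comm D e a (q X * ν1 X * y) x from rfl, hN, rp_one]
    simp
    congr 1
    linear_combination -(x * y) * q32
  · rw [e31, e32, show P (D.u b) y * P (D.u d) (-ρ X * x) * (P (D.u b) y)⁻¹ * (P (D.u d) (-ρ X * x))⁻¹ =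
      comm D b d y (-ρ X * x) from rfl, hbd]
    congr 1
    ring
  · rw [e21, e11, e32, show P (D.u e) (q X * ν1 X * y) * P (D.u c) (ν1 X * x) * (P (D.u e) (q X * ν1 X * y))⁻¹ *
      (P (D.u c) (ν1 X * x))⁻¹ = comm D e c (q X * ν1 X * y) (ν1 X * x) from rfl, hR, rp_one]
    simp
    congr 1
    linear_combination (x * y) * q41

end Groth.Agent.RedCell16
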