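import Groth.Agent.Lib.RedCell16.WordSign
import Groth.Agent.Lib.RedCell16.PairG2

/-!
# A word carrying a simple root to a simple root carries the pinning to the pinning up to sign
-/

set_option autoImplicit false
set_option linter.style.haveILetI false
set_option linter.unusedSimpArgs false
set_option linter.unusedSectionVars false
set_option backward.isDefEq.respectTransparency false
set_option backward.isDefEq.respectTransparency.types false

universe u

open CategoryTheory CategoryTheory.Limits MonoidalCategory CartesianMonoidalCategory MonObj AlgebraicGeometry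

noncomputable section

namespace Groth.Agent.RedCell16

open DiagGL RootDLib
open RankOne (P A)

variable {S : Scheme.{u}} {G : Over S} [GrpObj G]

section Fix

variable {D : Red.SplitRed G} [D.P.IsReduced] {a b : D.idx} {p : ℤ}

/-- A Weyl element fixes the root groups of the orthogonal roots of the span. -/
theorem PairSys.fix (h : PairSys D.P a b p) (b₀ : D.P.Base) {x y : D.idx} (cx cy : ℤ × ℤ)
    (hx : D.P.root x = cx.1 • D.P.root a + cx.2 • D.P.root b) (hy : D.P.root y = cy.1 • D.P.root a + cy.2 • D.P.root b)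
    (h1 : (cx.1 + cy.1, cx.2 + cy.2) ∉ pairList p) (h2 : (cy.1 - cx.1, cy.2 - cx.2) ∉ pairList p)
    (h3 : (cx.1 + cy.1, cx.2 + cy.2) ≠ 0) (h4 : (cy.1 - cx.1, cy.2 - cx.2) ≠ 0)
    (X : Over S) (z : Γ(X.left, ⊤)) : cj (Wy D x X) (P (D.u y) z) = P (D.u y) z := by
  haveI := D.fintypeIdx
  have ep : D.P.root x + D.P.root y = (cx.1 + cy.1) • D.P.root a + (cx.2 + cy.2) • D.P.root b := by
    rw [hx, hy]; module
  have em : D.P.root y - D.P.root x = (cy.1 - cx.1) • D.P.root a + (cy.2 - cx.2) • D.P.root b := by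
    rw [hx, hy]; module
  refine commute_Wy D b₀ ?_ ?_ (fun e => h3 ?_) (fun e => h4 ?_) X z
  · rw [ep]; exact h.notMem h1
  · rw [em]; exact h.notMem h2
  · obtain ⟨e1, e2⟩ := h.coords_inj (ep.symm.trans e)
    rw [e1, e2]; rfl
  · obtain ⟨e1, e2⟩ := h.coords_inj (em.symm.trans e)
    rw [e1, e2]; rfl

end Fix

variable (D : Red.Pinning G)
  (avc : D.idx → (Red.Gm S ⟶ D.T))
  (havc : ∀ a, avc a = Red.DSmap S (D.P.coroot a).toAddMonoidHom ≫ D.split.inv.hom.hom)
  (hpair : ∀ a ∈ D.base.support, ∀ (X : Over S) (x y : X ⟶ Red.Ga S), IsUnit (1 + Red.gaFn x * Red.gaFn y) →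
      ∃ (x' y' : X ⟶ Red.Ga S) (z : X ⟶ Red.Gm S), Red.gmFn z = 1 + Red.gaFn x * Red.gaFn y ∧
        Red.gaFn x' * Red.gmFn z = Red.gaFn x ∧ Red.gaFn y' * Red.gmFn z = Red.gaFn y ∧
        (x ≫ D.u a) * (y ≫ D.u (D.P.reflectionPerm a a)) = (y' ≫ D.u (D.P.reflectionPerm a a)) * (z ≫ avc a ≫ D.i) * (x' ≫ D.u a))

variable [D.P.IsReduced]

/-- The possible pairings of two simple roots. -/
theorem exists_pairs {a b : D.idx} (ha : a ∈ D.base.support) (hb : b ∈ D.base.support) (hne : a ≠ b) :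
    ∃ p q : ℤ, D.P.pairing b a = -p ∧ D.P.pairing a b = -q ∧ Pairs p q := by
  haveI := D.fintypeIdx
  have h1 : D.P.root b ≠ D.P.root a := fun e => hne (D.P.root.injective e).symm
  have h2 : D.P.root b ≠ -D.P.root a := fun e => by
    obtain ⟨e1, -⟩ := Prod.ext_iff.1 (coords_eq (D := D.toSplitRed) D.base ha hb hne (i := 1) (j := 1) (i' := 0) (j' := 0)
      (by rw [e]; simp))
    omega
  obtain ⟨b1, b2, b3⟩ := abs_pairing_le h1 h2
  obtain ⟨a1, -, -⟩ := abs_pairing_le (P := D.P) (c := a) (d := b) h1.symm (fun e => h2 (by rw [e, neg_neg]))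
  have hle : ∀ {i j : D.idx}, i ≠ j → i ∈ D.base.support → j ∈ D.base.support → D.P.pairing i j ≤ 0 := fun h hi hj => by
    have := D.base.pairingIn_le_zero_of_ne h hi hj
    rwa [pairingIn_eq] at this
  have n1 := hle hne.symm hb ha
  have n2 := hle hne ha hb
  have hiff := pairing_neg_comm (P := D.P) b a
  refine ⟨-D.P.pairing b a, -D.P.pairing a b, (neg_neg _).symm, (neg_neg _).symm, ?_⟩
  obtain ⟨x, hx⟩ : ∃ x, D.P.pairing b a = x := ⟨_, rfl⟩
  obtain ⟨y, hy⟩ : ∃ y, D.P.pairing a b = y := ⟨_, rfl⟩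
  simp only [hx, hy, abs_le] at a1 b1 b2 b3 n1 n2 hiff ⊢
  unfold Pairs
  obtain ⟨x1, x2⟩ : -3 ≤ x ∧ x ≤ 0 := ⟨b1.1, n1⟩
  obtain ⟨y1, y2⟩ : -3 ≤ y ∧ y ≤ 0 := ⟨a1.1, n2⟩
  interval_cases x <;> interval_cases y <;> omega

include havc hpair in
/-- The powers of the products of two Weyl elements. -/
theorem braid_mem {a b : D.idx} (ha : a ∈ D.base.support) (hb : b ∈ D.base.support) (hne : a ≠ b) {p q : ℤ}
    (hp : D.P.pairing b a = -p) (hq : D.P.pairing a b = -q) (h : Pairs p q) :
    (W₁ D.toSplitRed a * W₁ D.toSplitRed b) ^ braidLen p q ∈ sgnGrp D.toSplitRed := by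
  let e₁ : 𝟙_ (Over S) ⟶ Red.Ga S := GaPts.ptOfFn 1
  have he₁ : Red.gaFn e₁ = 1 := GaPts.gaFn_ptOfFn _
  let w : D.idx → (𝟙_ (Over S) ⟶ G) := fun c =>
    (e₁ ≫ D.u c) * (e₁ ≫ D.u (D.P.reflectionPerm c c))⁻¹ * (e₁ ≫ D.u c)
  have hw : ∀ c, w c = (e₁ ≫ D.u c) * (e₁ ≫ D.u (D.P.reflectionPerm c c))⁻¹ * (e₁ ≫ D.u c) := fun c => rfl
  have hw0 : ∀ c, W₁ D.toSplitRed c = w c := fun c => by
    rw [W₁, ← pinned_Wy D e₁ he₁ w hw c, show toUnit (𝟙_ (Over S)) = 𝟙 _ from Subsingleton.elim _ _, Category.id_comp]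
  let m₁ : 𝟙_ (Over S) ⟶ Red.Gm S := GmPts.ptOfUnit (-1)
  have hm₁ : Red.gmFn m₁ = -1 := by rw [← GmPts.val_unitOfPt, GmPts.unitOfPt_ptOfUnit]; simp
  have hm : ∀ c, m₁ ≫ avc c ≫ D.i = Ac D.toSplitRed c (-1) := fun c => by rw [havc]; rfl
  have hk : ∀ c, m₁ ≫ avc c ≫ D.i ∈ sgnGrp D.toSplitRed := fun c => hm c ▸ ac_mem D.toSplitRed c
  rw [hw0, hw0]
  rcases h with ⟨rfl, rfl⟩ | ⟨rfl, rfl⟩ | ⟨rfl, rfl⟩ | ⟨rfl, rfl⟩ | ⟨rfl, rfl⟩ | ⟨rfl, rfl⟩
  · rw [show braidLen 0 0 = 2 from rfl, (S8459.result S e₁ he₁ G D avc havc hpair w hw m₁ hm₁ a b ha hb hne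
      (by simpa using hp) (by simpa using hq)).1]
    exact mul_mem (hk a) (hk b)
  · rw [show braidLen 1 1 = 3 from rfl, (S8460.result S e₁ he₁ G D avc havc hpair w hw a b ha hb hne hp hq).1]
    exact Subgroup.one_mem _
  · rw [show braidLen 2 1 = 4 from rfl, (S8461.result S e₁ he₁ G D avc havc hpair w hw m₁ hm₁ a b ha hb hne hp hq).1]
    exact hk a
  · rw [show braidLen 1 2 = 4 from rfl,
      (S8461.result S e₁ he₁ G D avc havc hpair w hw m₁ hm₁ b a hb ha hne.symm hq hp).2]
    exact hk b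
  · rw [show braidLen 3 1 = 6 from rfl, (S8462.result S e₁ he₁ G D avc havc hpair w hw a b ha hb hne hp hq).1]
    exact Subgroup.one_mem _
  · rw [show braidLen 1 3 = 6 from rfl, (S8462.result S e₁ he₁ G D avc havc hpair w hw b a hb ha hne.symm hq hp).2]
    exact Subgroup.one_mem _

include havc hpair in
/-- **Words with the same Weyl group element agree up to signs.** -/
theorem word_mod (l l' : List D.idx) (hl : ∀ c ∈ l, c ∈ D.base.support) (hl' : ∀ c ∈ l', c ∈ D.base.support)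
    (he : wprod D.P l = wprod D.P l') :
    (Wd D.toSplitRed l)⁻¹ * Wd D.toSplitRed l' ∈ sgnGrp D.toSplitRed := by
  haveI := D.fintypeIdx
  obtain ⟨C, cs, hcs, hC⟩ := TitsDecH28.exists_coxeterSystem (P := D.P) D.base
  let K := sgnGrp D.toSplitRed
  let N := Subgroup.normalizer (K : Set (𝟙_ (Over S) ⟶ G))
  let wn : ↥D.base.support → N := fun j =>
    ⟨W₁ D.toSplitRed j, W₁_mem_normalizer D.toSplitRed D.base (pinned_dualPair D avc havc hpair j.2)⟩
  let π : N →* N ⧸ K.subgroupOf N := QuotientGroup.mk' _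
  let f : ↥D.base.support → N ⧸ K.subgroupOf N := fun j => π (wn j)
  have hf : C.IsLiftable f := fun j k => by
    show (π (wn j) * π (wn k)) ^ C.M j k = 1
    rw [← map_mul, ← map_pow, QuotientGroup.mk'_apply, QuotientGroup.eq_one_iff, Subgroup.mem_subgroupOf, hC]
    show (W₁ D.toSplitRed j * W₁ D.toSplitRed k) ^ _ ∈ K
    by_cases hjk : (j : D.idx) = k
    · rw [hjk, refl_mul_self, orderOf_one, pow_one, RankOne16.W_mul_W (pinned_dualPair D avc havc hpair k.2)]
      exact ac_mem D.toSplitRed (k : D.idx)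
    · obtain ⟨p, q, hp, hq, h⟩ := exists_pairs D j.2 k.2 hjk
      obtain ⟨t, ht⟩ := braidLen_dvd (D := D.toSplitRed) D.base j.2 k.2 hjk hp hq h (pow_orderOf_eq_one _)
      rw [ht, pow_mul]
      exact pow_mem (braid_mem D avc havc hpair j.2 k.2 hjk hp hq h) _
  have key : ∀ l : List D.idx, (∀ c ∈ l, c ∈ D.base.support) → ∃ (g : D.P.weylGroup) (n : N),
      (g : D.P.Aut) = wprod D.P l ∧ (n : 𝟙_ (Over S) ⟶ G) = Wd D.toSplitRed l ∧ cs.lift ⟨f, hf⟩ g = π n := by
    intro l hl
    induction l with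
    | nil => exact ⟨1, 1, rfl, rfl, by rw [map_one, map_one]⟩
    | cons c l ih =>
      obtain ⟨g, n, hg, hn, e⟩ := ih fun x hx => hl x (List.mem_cons_of_mem c hx)
      refine ⟨cs.simple ⟨c, hl c List.mem_cons_self⟩ * g, wn ⟨c, hl c List.mem_cons_self⟩ * n, ?_, ?_, ?_⟩
      · rw [Subgroup.coe_mul, hcs, hg, wprod_cons]
      · rw [Subgroup.coe_mul, hn]; simp only [wn, Wd, List.map_cons, List.prod_cons]
      · rw [map_mul, map_mul, e, cs.lift_apply_simple]
  obtain ⟨g, n, hg, hn, e⟩ := key l hl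
  obtain ⟨g', n', hg', hn', e'⟩ := key l' hl'
  have hgg : g = g' := Subtype.ext (hg.trans (he.trans hg'.symm))
  subst hgg
  have := QuotientGroup.eq.1 (e.symm.trans e')
  rw [Subgroup.mem_subgroupOf] at this
  simpa [hn, hn'] using this

include havc hpair in
/-- The words fixing a simple root. -/
theorem sgn_fixWord {a b : D.idx} (ha : a ∈ D.base.support) (hb : b ∈ D.base.support) (hne : a ≠ b) {p q : ℤ}
    (hp : D.P.pairing b a = -p) (hq : D.P.pairing a b = -q) (h : Pairs p q) (h1 : p * q ≠ 1) :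
    Sgn D.toSplitRed (Wd D.toSplitRed (nm a b (fixWord p q))) a a := by
  haveI := D.fintypeIdx
  let D' := D.toSplitRed
  have Ea := pinned_dualPair D avc havc hpair ha
  have Eb := pinned_dualPair D avc havc hpair hb
  refine ⟨1, Or.inl rfl, fun X x => ?_⟩
  rcases h with ⟨rfl, rfl⟩ | ⟨rfl, rfl⟩ | ⟨rfl, rfl⟩ | ⟨rfl, rfl⟩ | ⟨rfl, rfl⟩ | ⟨rfl, rfl⟩
  · have n1 : D.P.root b + D.P.root a ≠ 0 := fun e => by
      have := congrArg (D.P.coroot' b) e
      simp [hq] at this
    have n2 : D.P.root a - D.P.root b ≠ 0 := fun e => hne (D.P.root.injective (sub_eq_zero.1 e))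
    have n3 := D.base.sub_notMem_range_root ha hb
    have n4 : D.P.root b + D.P.root a ∉ Set.range D.P.root := fun ⟨c, hc⟩ => n3 ⟨D.P.reflectionPerm b c, by
      rw [root_refl, show D.P.pairing c b = 2 by
        rw [← RootPairing.root_coroot'_eq_pairing, hc, map_add, RootPairing.root_coroot'_eq_pairing,
          RootPairing.root_coroot'_eq_pairing, RootPairing.pairing_same, hq, neg_zero, add_zero], hc, two_smul]
      abel⟩
    rw [show fixWord 0 0 = [true] from rfl]
    simp only [Wd, nm, List.map_cons, List.map_nil, List.prod_cons, List.prod_nil, _root_.mul_one, if_true, comp_W₁]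
    rw [commute_Wy D' D.base n4 n3 n1 n2, Int.cast_one, _root_.one_mul]
  · exact absurd rfl h1
  · have hs := pinned_pairSys D a b ha hb (p := 2) (Or.inr (Or.inl rfl)) hp hq
    rw [show fixWord 2 1 = [true, false, true] from rfl]
    simp only [Wd, nm, List.map_cons, List.map_nil, List.prod_cons, List.prod_nil, _root_.mul_one, if_true, Bool.false_eq_true,
      if_false, MonObj.comp_mul, comp_W₁, ← cj_cj]
    rw [(B2_main hs D.base Ea Eb X).2.2 x, cj_Wy_Wy D' Eb a X _ (-1) hq]
    congr 1; simp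
  · have hs := pinned_pairSys D b a hb ha (p := 2) (Or.inr (Or.inl rfl)) hq hp
    rw [show fixWord 1 2 = [true, false, true] from rfl]
    simp only [Wd, nm, List.map_cons, List.map_nil, List.prod_cons, List.prod_nil, _root_.mul_one, if_true, Bool.false_eq_true,
      if_false, MonObj.comp_mul, comp_W₁, ← cj_cj]
    obtain ⟨ν, -, hν⟩ := exists_cj_coeff D' D.base Eb a _ rfl
    have rd := (hs.root_refl_a (root_coords_b b a)).trans
      (show _ = (2 : ℤ) • D.P.root b + (1 : ℤ) • D.P.root a by norm_num)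
    rw [hν, hs.fix D.base (0, 1) (2, 1) (root_coords_b b a) rd (by decide) (by decide) (by decide) (by decide),
      ← hν, cj_Wy_Wy D' Eb a X _ (-2) hq]
    congr 1; simp
  · have hs := pinned_pairSys D a b ha hb (p := 3) (Or.inr (Or.inr rfl)) hp hq
    rw [show fixWord 3 1 = [true, false, true, false, true] from rfl]
    simp only [Wd, nm, List.map_cons, List.map_nil, List.prod_cons, List.prod_nil, _root_.mul_one, if_true, Bool.false_eq_true,
      if_false, MonObj.comp_mul, comp_W₁, ← cj_cj]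
    set c := D.P.reflectionPerm b a with hc
    have rc : D.P.root c = (1 : ℤ) • D.P.root a + (1 : ℤ) • D.P.root b :=
      (hs.root_refl_b (root_coords_a a b)).trans (by norm_num)
    have re := (hs.root_refl_a rc).trans (show _ = (2 : ℤ) • D.P.root a + (1 : ℤ) • D.P.root b by norm_num)
    obtain ⟨ν, -, hν⟩ := exists_cj_coeff D' D.base Eb a c hc.symm
    obtain ⟨ρ, -, hρ⟩ := exists_cj_coeff D' D.base Ea c _ rfl
    rw [hν, hρ, hs.fix D.base (0, 1) (2, 1) (root_coords_b a b) re (by decide) (by decide) (by decide) (by decide),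
      ← hρ, cj_Wy_Wy D' Ea c X _ (-1) (by
        rw [← RootPairing.root_coroot'_eq_pairing, rc, (hs.coroot_eval 1 1).1]; norm_num),
      ← mul_left_comm (ν X), ← hν, cj_Wy_Wy D' Eb a X _ (-1) hq]
    congr 1; simp
  · have hs := pinned_pairSys D b a hb ha (p := 3) (Or.inr (Or.inr rfl)) hq hp
    rw [show fixWord 1 3 = [true, false, true, false, true] from rfl]
    simp only [Wd, nm, List.map_cons, List.map_nil, List.prod_cons, List.prod_nil, _root_.mul_one, if_true, Bool.false_eq_true,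
      if_false, MonObj.comp_mul, comp_W₁, ← cj_cj]
    set d := D.P.reflectionPerm b a with hd
    have rd : D.P.root d = (3 : ℤ) • D.P.root b + (1 : ℤ) • D.P.root a :=
      (hs.root_refl_a (root_coords_b b a)).trans (by norm_num)
    have rf := (hs.root_refl_b rd).trans (show _ = (3 : ℤ) • D.P.root b + (2 : ℤ) • D.P.root a by norm_num)
    obtain ⟨ν, -, hν⟩ := exists_cj_coeff D' D.base Eb a d hd.symm
    obtain ⟨ρ, -, hρ⟩ := exists_cj_coeff D' D.base Ea d _ rfl
    rw [hν, hρ, hs.fix D.base (1, 0) (3, 2) (root_coords_a b a) rf (by decide) (by decide) (by decide) (by decide),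
      ← hρ, cj_Wy_Wy D' Ea d X _ (-1) (by
        rw [← RootPairing.root_coroot'_eq_pairing, rd, (hs.coroot_eval 3 1).2]; norm_num),
      ← mul_left_comm (ν X), ← hν, cj_Wy_Wy D' Eb a X _ (-3) hq]
    congr 1; simp [zpow_neg, pow_succ]

include havc hpair in
/-- The word `[a, b]` in type A₂. -/
theorem sgn_swap {a b : D.idx} (ha : a ∈ D.base.support) (hb : b ∈ D.base.support)
    (hp : D.P.pairing b a = -1) (hq : D.P.pairing a b = -1) :
    Sgn D.toSplitRed (Wd D.toSplitRed [a, b]) a b := by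
  haveI := D.fintypeIdx
  let D' := D.toSplitRed
  have Ea := pinned_dualPair D avc havc hpair ha
  have Eb := pinned_dualPair D avc havc hpair hb
  have h := pinned_pairSys D a b ha hb (p := 1) (Or.inl rfl) hp hq
  refine ⟨1, Or.inl rfl, fun X x => ?_⟩
  simp only [Wd, nm, List.map_cons, List.map_nil, List.prod_cons, List.prod_nil, _root_.mul_one, MonObj.comp_mul, comp_W₁,
    ← cj_cj]
  have := A2_cj_a h D.base Ea Eb X (-x)
  rw [neg_neg] at this
  rw [← this, cj_Wy_Wy D' Ea b X _ (-1) hp]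
  congr 1
  simp

include havc hpair in
/-- A rank two step. -/
theorem sgn_step {a b : D.idx} (ha : a ∈ D.base.support) (hb : b ∈ D.base.support) {v : D.P.Aut}
    (hv : v ∈ Subgroup.closure {RootPairing.Equiv.reflection D.P a, RootPairing.Equiv.reflection D.P b}) {c : D.idx}
    (hc : c ∈ D.base.support) (hvc : v • a = c) (hcb : c = a ∨ c = b) :
    ∃ l : List D.idx, (∀ x ∈ l, x ∈ D.base.support) ∧ wprod D.P l = v ∧ Sgn D.toSplitRed (Wd D.toSplitRed l) a c := by
  haveI := D.fintypeIdx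
  let D' := D.toSplitRed
  rw [← Set.image_pair (fun i => RootPairing.Equiv.reflection D.P i) a b] at hv
  obtain ⟨l₀, hl₀, rfl⟩ := exists_word hv
  obtain ⟨z, hz⟩ := dihedral_form (D := D') a b l₀ fun x hx => by simpa using hl₀ x hx
  by_cases hne : a = b
  · subst hne
    rw [refl_mul_self, one_zpow, _root_.one_mul] at hz
    have hca : c = a := hcb.elim id id
    subst hca
    rcases hz with hz | hz
    · exact ⟨[], by simp, hz.symm, by simpa [Wd] using Sgn.one c⟩
    · rw [hz, refl_smul] at hvc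
      exact absurd hvc fun e => ng_ne D.P c e
  obtain ⟨p, q, hp, hq, h⟩ := exists_pairs D ha hb hne
  set k := braidLen p q with hk
  set n := (z % (k : ℤ)).toNat with hn'
  have hk0 : (0 : ℤ) < k := by exact_mod_cast braidLen_pos p q
  have hn : n < k := by
    have := Int.emod_lt_of_pos z hk0
    have := Int.emod_nonneg z hk0.ne'
    omega
  have hzn : (RootPairing.Equiv.reflection D.P a * RootPairing.Equiv.reflection D.P b) ^ z =
      (RootPairing.Equiv.reflection D.P a * RootPairing.Equiv.reflection D.P b) ^ n := by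
    conv_lhs => rw [← Int.mul_ediv_add_emod z k, zpow_add, zpow_mul, zpow_natCast, hk,
      braid_pow (D := D') hp hq h, one_zpow, _root_.one_mul, ← Int.toNat_of_nonneg (Int.emod_nonneg z hk0.ne')]
    rw [zpow_natCast]
  obtain ⟨s, hs⟩ : ∃ s : Bool, wprod D.P l₀ = wprod D.P (nm a b (alt n s)) := by
    rcases hz with hz | hz <;> rw [hz, hzn]
    · exact ⟨false, (alt_succ (D := D') a b n).symm⟩
    · exact ⟨true, (alt_true (D := D') a b n).symm⟩
  rw [hs] at hvc
  set v := fl p q 0 0 (alt n s) (1, 0) with hv'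
  have hca : D.P.root c = v.1 • D.P.root a + v.2 • D.P.root b := by
    rw [← hvc]
    have hc1 : D.P.root a = 0 + ((1, 0) : ℤ × ℤ).1 • D.P.root a + ((1, 0) : ℤ × ℤ).2 • D.P.root b := by simp
    have e := coords_word (D := D') hp hq 0 hc1 (alt n s)
    rwa [map_zero, map_zero, zero_add] at e
  have hv2 : v = (1, 0) ∨ v = (0, 1) := by
    rcases hcb with rfl | rfl
    · exact Or.inl (coords_eq (D := D') D.base ha hb hne (i := v.1) (j := v.2) (i' := 1) (j' := 0)
        (by rw [← hca]; simp; rfl))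
    · exact Or.inr (coords_eq (D := D') D.base ha hb hne (i := v.1) (j := v.2) (i' := 0) (j' := 1)
        (by rw [← hca]; simp; rfl))
  have hmem : ∀ l : List Bool, ∀ x ∈ nm (D := D') a b l, x ∈ D.base.support := fun l x hx => by
    obtain ⟨y, -, rfl⟩ := List.mem_map.1 hx
    cases y <;> assumption
  have hroot : ∀ x : D.idx, D.P.root c = D.P.root x → c = x := fun x e => D.P.root.injective e
  rcases image_table h n hn s hv2 with ⟨h0, rfl⟩ | ⟨h1, hn1, rfl, hvv⟩ | ⟨h1, hn1, rfl, hvv⟩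
  · have hv0 : v = (1, 0) := by rw [hv', h0]; rfl
    obtain rfl : c = a := hroot a (by rw [hca, hv0]; simp)
    refine ⟨[], by simp, ?_, by simpa [Wd] using Sgn.one c⟩
    rw [hs, h0]
    rfl
  · obtain rfl : c = b := hroot b (by rw [hca, show v = _ from hvv]; simp)
    obtain ⟨rfl, rfl⟩ : p = 1 ∧ q = 1 := by
      rcases h with ⟨rfl, rfl⟩ | ⟨rfl, rfl⟩ | ⟨rfl, rfl⟩ | ⟨rfl, rfl⟩ | ⟨rfl, rfl⟩ | ⟨rfl, rfl⟩ <;> omega
    refine ⟨[a, c], by simp [ha, hb], ?_, sgn_swap D avc havc hpair ha hb hp hq⟩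
    rw [hs, hn1]
    rfl
  · obtain rfl : c = a := hroot a (by rw [hca, show v = _ from hvv]; simp)
    refine ⟨nm c b (fixWord p q), hmem _, ?_, sgn_fixWord D avc havc hpair ha hb hne hp hq h h1⟩
    rw [hs, hn1]
    exact (wprod_nm_ext (D := D') hp hq fun A B => fix_table h A B h1).symm

include havc hpair in
theorem sgn_chain : ∀ (m : ℕ) (a : Fin (m + 1) → D.idx) (ws : Fin m → D.P.Aut),
    (∀ i, a i ∈ D.base.support) → (∀ i : Fin m, ws i • a i.castSucc = a i.succ) →
    (∀ i : Fin m, ∃ c' ∈ D.base.support,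
      ws i ∈ Subgroup.closure {RootPairing.Equiv.reflection D.P (a i.castSucc), RootPairing.Equiv.reflection D.P c'} ∧
      (a i.castSucc ≠ a i.succ → c' = a i.succ)) →
    ∃ l : List D.idx, (∀ x ∈ l, x ∈ D.base.support) ∧
      wprod D.P l = (List.ofFn fun i : Fin m => ws i.rev).prod ∧
      Sgn D.toSplitRed (Wd D.toSplitRed l) (a 0) (a (Fin.last m)) := by
  intro m
  induction m with
  | zero => exact fun a ws _ _ _ => ⟨[], by simp, by simp, by simpa [Wd] using Sgn.one (a 0)⟩
  | succ m ih =>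
    intro a ws ha hstep hcl
    obtain ⟨l, hl, hlp, hls⟩ := ih (fun i => a i.castSucc) (fun i => ws i.castSucc) (fun i => ha _)
      (fun i => by simpa using hstep i.castSucc) (fun i => by simpa using hcl i.castSucc)
    obtain ⟨c', hc', hv, hne⟩ := hcl (Fin.last m)
    obtain ⟨l', hl', hlp', hls'⟩ := sgn_step D avc havc hpair (ha _) hc' hv (ha _) (hstep (Fin.last m))
      (or_iff_not_imp_left.2 fun e => (hne (Ne.symm e)).symm)
    refine ⟨l' ++ l, by simpa [or_imp, forall_and] using ⟨hl', hl⟩, ?_, ?_⟩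
    · rw [wprod_append, hlp', hlp, List.ofFn_succ, List.prod_cons]
      simp [Fin.rev_succ, Fin.rev_zero]
    · rw [Wd, List.map_append, List.prod_append]
      rw [Fin.succ_last] at hls'
      exact hls'.mul (by simpa using hls)

include havc hpair in
/-- **A word carrying a simple root to a simple root.** -/
theorem word_sign (l : List D.idx) (hl : ∀ c ∈ l, c ∈ D.base.support) {a a₀ : D.idx} (ha : a ∈ D.base.support)
    (ha₀ : a₀ ∈ D.base.support) (he : wprod D.P l • a = a₀) : Sgn D.toSplitRed (Wd D.toSplitRed l) a a₀ := by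
  haveI := D.fintypeIdx
  obtain ⟨m, f, ws, hf, hf0, hlast, -, hprod, hstep, hcl⟩ :=
    TitsDecH28.decomposition D.base _ _ a a₀ (wprod_mem_weyl (D := D.toSplitRed) l) rfl ha ha₀ he
  obtain ⟨l', hl', hlp', hls'⟩ := sgn_chain D avc havc hpair m f ws hf hstep hcl
  rw [hf0, hlast] at hls'
  exact sgn_congr D.toSplitRed (word_mod D avc havc hpair l' l hl' hl (hlp'.trans hprod.symm)) hls'

end Groth.Agent.RedCell16
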