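import Groth.Agent.Lib.RedCell16.Base
import Groth.Agent.S8069
import Groth.Agent.Lib.RootClosed19.Basic

/-!
# The root datum of a split reductive group over a non-empty base is reduced and has bases
-/

set_option autoImplicit false
set_option linter.style.haveILetI false

universe u

open CategoryTheory MonoidalCategory CartesianMonoidalCategory MonObj AlgebraicGeometry

noncomputable section

namespace Groth.Agent.RedCell16

variable {S : Scheme.{u}} {G : Over S} [GrpObj G] (D : Red.SplitRed G)

/-- The root datum of a split reductive group over a non-empty base is reduced. -/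
theorem isReduced (s : S) : D.P.IsReduced :=
  Groth.Agent.S8069.result (AlgebraicClosure (S.residueField s)) (Red.geomFibre s G) (geomSplit D s)

/-- The root datum of a split reductive group over a non-empty base has a base. -/
theorem nonempty_base (s : S) : Nonempty D.P.Base := by
  haveI := D.fintypeIdx
  haveI := isReduced D s
  exact RootClosed19.nonempty_base

/-- Enumerations of the negative and positive roots of a base. -/
theorem exists_enum (b : D.P.Base) : ∃ (n m : ℕ) (eneg : Fin n → D.idx) (epos : Fin m → D.idx),
    RedSub.Enumerates (RedSub.negRoots D.P b) eneg ∧ RedSub.Enumerates (RedSub.posRoots D.P b) epos := by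
  classical
  haveI := D.fintypeIdx
  have : ∀ A : Set D.idx, ∃ (n : ℕ) (e : Fin n → D.idx), RedSub.Enumerates A e := fun A => by
    refine ⟨_, fun i => ((Fintype.equivFin A).symm i).1,
      Subtype.val_injective.comp (Equiv.injective _), ?_⟩
    ext x
    exact ⟨fun ⟨i, hi⟩ => hi ▸ ((Fintype.equivFin A).symm i).2,
      fun hx => ⟨Fintype.equivFin A ⟨x, hx⟩, by simp⟩⟩
  obtain ⟨n, eneg, hn⟩ := this (RedSub.negRoots D.P b)
  obtain ⟨m, epos, hm⟩ := this (RedSub.posRoots D.P b)
  exact ⟨n, m, eneg, epos, hn, hm⟩

/-- Morphisms out of a scheme over an empty base. -/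
theorem hom_subsingleton [IsEmpty S] (X Y : Over S) : Nonempty (X ⟶ Y) ∧ Subsingleton (X ⟶ Y) := by
  haveI : IsEmpty X.left := Function.isEmpty X.hom.base
  refine ⟨⟨Over.homMk ((isInitialOfIsEmpty (X := X.left)).to _) (isInitialOfIsEmpty.hom_ext _ _)⟩,
    ⟨fun f g => Over.OverMorphism.ext (isInitialOfIsEmpty.hom_ext _ _)⟩⟩

end Groth.Agent.RedCell16
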