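import Groth.Agent.Lib.RootComb21.Exchange
import Groth.Agent.Lib.RootD.Sub

/-!
# The roots in the span of a rank two base
-/

set_option autoImplicit false
set_option linter.style.haveILetI false

namespace Groth.Agent.RedCell16

open RootPairing Set Function Groth.Agent.RootDLib

variable {ι M N : Type} [AddCommGroup M] [AddCommGroup N] (P : RootPairing ι ℤ M N)

/-- Coordinates of the roots in the span of `a`, `b`. -/
def pairList : ℤ → List (ℤ × ℤ)
  | 1 => [(1, 0), (-1, 0), (0, 1), (0, -1), (1, 1), (-1, -1)]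
  | 2 => [(1, 0), (-1, 0), (0, 1), (0, -1), (1, 1), (-1, -1), (2, 1), (-2, -1)]
  | _ => [(1, 0), (-1, 0), (0, 1), (0, -1), (1, 1), (-1, -1), (2, 1), (-2, -1), (3, 1), (-3, -1), (3, 2), (-3, -2)]

/-- The extra candidates allowed by the arithmetic. -/
def pairExtra : ℤ → List (ℤ × ℤ)
  | 1 => [(1, -1), (-1, 1), (2, 1), (-2, -1), (1, 2), (-1, -2)]
  | 2 => [(2, 2), (-2, -2)]
  | _ => []

def qForm (p i j : ℤ) : ℤ := i * i - p * i * j + p * j * j

/-- The arithmetic conditions on `A = ⟨d, a⟩`, `B = ⟨d, b⟩`. -/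
def Admissible (p A B : ℤ) : Prop :=
  (4 - p) ∣ 2 * A + p * B → (4 - p) ∣ A + 2 * B →
    let i := (2 * A + p * B) / (4 - p)
    let j := (A + 2 * B) / (4 - p)
    i ≠ 0 → j ≠ 0 → qForm p i j ∣ A → qForm p i j ∣ p * B → A * A ≤ 3 * qForm p i j → p * B * B ≤ 3 * qForm p i j →
      (i, j) ∈ pairList p ++ pairExtra p

instance (p A B : ℤ) : Decidable (Admissible p A B) := by
  unfold Admissible
  infer_instance

theorem admissible_all : ∀ A : Fin 7, ∀ B : Fin 7,
    Admissible 1 ((A : ℤ) - 3) ((B : ℤ) - 3) ∧ Admissible 2 ((A : ℤ) - 3) ((B : ℤ) - 3) ∧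
      Admissible 3 ((A : ℤ) - 3) ((B : ℤ) - 3) := by
  decide

theorem admissible {p A B : ℤ} (hp : p = 1 ∨ p = 2 ∨ p = 3) (hA : |A| ≤ 3) (hB : |B| ≤ 3) : Admissible p A B := by
  obtain ⟨hA1, hA2⟩ := abs_le.1 hA
  obtain ⟨hB1, hB2⟩ := abs_le.1 hB
  have h := admissible_all ⟨(A + 3).toNat, by omega⟩ ⟨(B + 3).toNat, by omega⟩
  simp only [Int.toNat_of_nonneg (show 0 ≤ A + 3 by omega), Int.toNat_of_nonneg (show 0 ≤ B + 3 by omega),
    add_sub_cancel_right] at h
  rcases hp with rfl | rfl | rfl
  exacts [h.1, h.2.1, h.2.2]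

/-- Roots `a`, `b` forming a base of a rank two system, with `a` short. -/
structure PairSys (a b : ι) (p : ℤ) : Prop where
  hp : p = 1 ∨ p = 2 ∨ p = 3
  hab : P.pairing a b = -1
  hba : P.pairing b a = -p
  hsub : P.root b - P.root a ∉ range P.root

variable {P} {a b : ι} {p : ℤ}

theorem root_refl (c d : ι) : P.root (P.reflectionPerm c d) = P.root d - P.pairing d c • P.root c := by
  rw [root_reflectionPerm, reflection_apply_root]

variable [Finite ι]

omit [Finite ι] in
theorem PairSys.coroot_eval (h : PairSys P a b p) (i j : ℤ) :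
    P.coroot' a (i • P.root a + j • P.root b) = 2 * i - p * j ∧
      P.coroot' b (i • P.root a + j • P.root b) = 2 * j - i := by
  constructor <;>
  · simp only [map_add, map_zsmul, root_coroot'_eq_pairing, pairing_same, h.hab, h.hba, smul_eq_mul]
    ring

theorem PairSys.form_eq' (h : PairSys P a b p) :
    form P (P.root b) (P.root b) = p * form P (P.root a) (P.root a) ∧
      2 * form P (P.root a) (P.root b) = -p * form P (P.root a) (P.root a) := by
  have h1 := pairing_mul_form P b a
  rw [h.hab, h.hba] at h1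
  refine ⟨by linarith, ?_⟩
  rw [two_form_root_root, h.hab]
  linarith

theorem abs_pairing_le [P.IsReduced] {c d : ι} (h1 : P.root c ≠ P.root d) (h2 : P.root c ≠ -P.root d) :
    |P.pairing c d| ≤ 3 ∧ 0 ≤ P.pairing c d * P.pairing d c ∧ P.pairing c d * P.pairing d c ≤ 3 := by
  have := torsionFree P
  have h := P.pairingIn_pairingIn_mem_set_of_isCrystal_of_isRed' (i := c) (j := d) h1 h2
  rw [pairingIn_eq, pairingIn_eq] at h
  simp only [Set.mem_insert_iff, Set.mem_singleton_iff, Prod.mk.injEq] at h
  rcases h with h | h | h | h | h | h | h | h | h | h | h <;> (obtain ⟨e1, e2⟩ := h; rw [e1, e2]; norm_num)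

theorem PairSys.coords_inj (h : PairSys P a b p) {i j : ℤ} (he : i • P.root a + j • P.root b = 0) : i = 0 ∧ j = 0 := by
  obtain ⟨h1, h2⟩ := h.coroot_eval i j
  rw [he, map_zero] at h1 h2
  rcases h.hp with rfl | rfl | rfl <;> omega

theorem PairSys.coords_ext (h : PairSys P a b p) {i j i' j' : ℤ}
    (he : i • P.root a + j • P.root b = i' • P.root a + j' • P.root b) : i = i' ∧ j = j' := by
  obtain ⟨h1, h2⟩ := h.coords_inj (i := i - i') (j := j - j') (by
    rw [sub_smul, sub_smul, sub_add_sub_comm, he, sub_self])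
  omega

theorem PairSys.mem_list [P.IsReduced] (h : PairSys P a b p) {d : ι} {i j : ℤ}
    (hd : P.root d = i • P.root a + j • P.root b) : (i, j) ∈ pairList p := by
  have htf := torsionFree P
  have hmul : ∀ (c : ι) (z : ℤ), P.root d = z • P.root c → z = 1 ∨ z = -1 := fun c z hz => by
    rcases IsReduced.eq_or_eq_neg (P := P) d c (fun hli => by
      have := LinearIndependent.pair_iff.1 hli 1 (-z) (by rw [one_smul, hz, neg_smul, add_neg_cancel])
      omega) with h' | h'
    · left
      rw [hz, ← sub_eq_zero, show z • P.root c - P.root c = (z - 1) • P.root c by rw [sub_smul, one_smul],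
        smul_eq_zero] at h'
      exact h'.elim (fun h => by omega) fun h => absurd h (root_ne_zero P c)
    · right
      rw [hz, ← add_eq_zero_iff_eq_neg, show z • P.root c + P.root c = (z + 1) • P.root c by rw [add_smul, one_smul],
        smul_eq_zero] at h'
      exact h'.elim (fun h => by omega) fun h => absurd h (root_ne_zero P c)
  by_cases hj : j = 0
  · subst hj
    rcases hmul a i (by rw [hd, zero_smul, add_zero]) with rfl | rfl <;>
      rcases h.hp with rfl | rfl | rfl <;> decide
  by_cases hi : i = 0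
  · subst hi
    rcases hmul b j (by rw [hd, zero_smul, zero_add]) with rfl | rfl <;>
      rcases h.hp with rfl | rfl | rfl <;> decide
  obtain ⟨hA, hB⟩ := h.coroot_eval i j
  rw [← hd, root_coroot'_eq_pairing] at hA hB
  obtain ⟨hbb, hab⟩ := h.form_eq'
  set L := form P (P.root a) (P.root a)
  have hL : 0 < L := form_root_pos P a
  have hdd : form P (P.root d) (P.root d) = qForm p i j * L := by
    rw [hd]
    simp only [map_add, map_zsmul, LinearMap.add_apply, LinearMap.smul_apply, smul_eq_mul,
      form_comm P (P.root b) (P.root a), hbb, qForm]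
    linear_combination (i * j) * hab
  have ne1 : ∀ c : ℤ, P.root d ≠ c • P.root a := fun c hc => hj (h.coords_ext (i' := c) (j' := 0)
    (by rw [← hd, hc, zero_smul, add_zero])).2
  have ne2 : ∀ c : ℤ, P.root d ≠ c • P.root b := fun c hc => hi (h.coords_ext (i' := 0) (j' := c)
    (by rw [← hd, hc, zero_smul, zero_add])).1
  obtain ⟨a1, a2, a3⟩ := abs_pairing_le (P := P) (c := d) (d := a) (by simpa using ne1 1) (by simpa using ne1 (-1))
  obtain ⟨b1, b2, b3⟩ := abs_pairing_le (P := P) (c := d) (d := b) (by simpa using ne2 1) (by simpa using ne2 (-1))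
  have hq : 0 < qForm p i j := by
    have := form_root_pos P d
    rw [hdd] at this
    exact pos_of_mul_pos_left this hL.le
  have ea := pairing_mul_form P d a
  have eb := pairing_mul_form P d b
  rw [hdd] at ea eb
  rw [hbb] at eb
  have ea' : 2 * i - p * j = P.pairing a d * qForm p i j := by
    rw [← hA]; exact mul_right_cancel₀ hL.ne' (by linear_combination ea)
  have eb' : p * (2 * j - i) = P.pairing b d * qForm p i j := by
    rw [← hB]; exact mul_right_cancel₀ hL.ne' (by linear_combination eb)
  rw [hA] at a1 a3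
  rw [hB] at b1 b3
  have hdet : (4 : ℤ) - p ≠ 0 := by rcases h.hp with rfl | rfl | rfl <;> norm_num
  have ei : 2 * (2 * i - p * j) + p * (2 * j - i) = (4 - p) * i := by ring
  have ej : (2 * i - p * j) + 2 * (2 * j - i) = (4 - p) * j := by ring
  have hadm := admissible h.hp a1 b1 (ei ▸ dvd_mul_right _ _) (ej ▸ dvd_mul_right _ _)
  simp only [ei, ej, Int.mul_ediv_cancel_left _ hdet] at hadm
  have hmem := hadm hi hj ⟨P.pairing a d, by linear_combination ea'⟩ ⟨P.pairing b d, by linear_combination eb'⟩
    (by nlinarith [mul_le_mul_of_nonneg_right a3 hq.le,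
          congrArg ((2 * i - p * j) * ·) ea'])
    (by nlinarith [mul_le_mul_of_nonneg_right b3 hq.le,
          congrArg ((2 * j - i) * ·) eb'])
  rw [List.mem_append] at hmem
  refine hmem.resolve_right fun hx => ?_
  have hno1 : ∀ d', P.root d' = (1 : ℤ) • P.root a + (-1 : ℤ) • P.root b → False := fun d' hd' =>
    h.hsub ⟨ng P d', by rw [root_ng, hd']; simp [sub_eq_add_neg]⟩
  have hno2 : ∀ d', P.root d' = (-1 : ℤ) • P.root a + (1 : ℤ) • P.root b → False := fun d' hd' =>
    h.hsub ⟨d', by rw [hd']; simp [sub_eq_add_neg, add_comm]⟩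
  rcases h.hp with rfl | rfl | rfl
  · simp only [pairExtra, List.mem_cons, Prod.mk.injEq, List.not_mem_nil, or_false] at hx
    have sa : ∀ i j : ℤ, P.root d = i • P.root a + j • P.root b →
        P.root (P.reflectionPerm a d) = (j - i) • P.root a + j • P.root b := fun i j e => by
      rw [root_refl, show P.pairing d a = 2 * i - 1 * j by
        rw [← root_coroot'_eq_pairing, e, (h.coroot_eval i j).1], e]
      simp only [sub_smul, one_mul, two_mul, add_smul]; abel
    have sb : ∀ i j : ℤ, P.root d = i • P.root a + j • P.root b →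
        P.root (P.reflectionPerm b d) = i • P.root a + (i - j) • P.root b := fun i j e => by
      rw [root_refl, show P.pairing d b = 2 * j - i by
        rw [← root_coroot'_eq_pairing, e, (h.coroot_eval i j).2], e]
      simp only [sub_smul, two_mul, add_smul]; abel
    rcases hx with hx | hx | hx | hx | hx | hx <;> obtain ⟨rfl, rfl⟩ := hx
    · exact hno1 d hd
    · exact hno2 d hd
    · exact hno2 _ (sa _ _ hd)
    · exact hno1 _ (sa _ _ hd)
    · exact hno1 _ (sb _ _ hd)
    · exact hno2 _ (sb _ _ hd)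
  · simp only [pairExtra, List.mem_cons, Prod.mk.injEq, List.not_mem_nil, or_false] at hx
    set c := P.reflectionPerm b a
    have hc : P.root c = P.root a + P.root b := by rw [root_refl, h.hab]; simp
    rcases hx with hx | hx <;> obtain ⟨rfl, rfl⟩ := hx
    · have := hmul c 2 (by rw [hd, hc, smul_add]); omega
    · have := hmul c (-2) (by rw [hd, hc, smul_add]); omega
  · simp [pairExtra] at hx

theorem exists_base_pos (b₀ : P.Base) (f : M →+ ℤ) :
    ∃ b' : P.Base, ∀ z : ι, 0 < f (P.root z) → z ∈ RedSub.posRoots P b' := by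
  obtain ⟨g, hg⟩ := exists_hom_root_ne_zero (P := P)
  set F : M →+ ℚ := (Int.castAddHom ℚ).comp f
  set S := {i | 0 < F (P.root i) ∨ (F (P.root i) = 0 ∧ 0 < g (P.root i))}
  have hS : RootD.IsPosSys P S := isPosSys_lex fun i _ => hg i
  obtain ⟨b', hb'⟩ := RootComb21.exists_posRoots_subset b₀ (IsPosSys.closed hS) hS.cover
  have key : ∀ z, 0 < f (P.root z) → z ∈ RedSub.posRoots P b' := fun z hz => by
    by_contra hn
    have h1 := (RootComb21.mem_negRoots_iff b' z).2 hn
    have h2 := hb' ((RootComb21.mem_negRoots_iff_ng b' z).1 h1)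
    exact hS.disjoint (i := z) (Or.inl (by simp only [F, AddMonoidHom.comp_apply, Int.coe_castAddHom]; exact_mod_cast hz)) h2
  exact ⟨b', key⟩

end Groth.Agent.RedCell16
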