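import Groth.Agent.Lib.AttrBorel21.Prod
import Groth.Agent.Lib.AttrBorel21.Orth
import Groth.Agent.Lib.AttrBorel21.RootRed
import Groth.Agent.Lib.AttrBorel21.AlmostSimple
import Groth.Agent.Lib.RootComb21.Basic
import Groth.Agent.Lib.GrpNeutral20.Gen
import Groth.Agent.Lib.MTRigid29.MonoClosedGlobal
import Groth.Agent.Lib.FlatH4.SmoothFibres
import Groth.Agent.S4993
import Mathlib.RingTheory.Localization.Integer
import Mathlib.LinearAlgebra.Basis.VectorSpace

/-!
# The big cell of a split reductive group over a field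
-/

set_option autoImplicit false
set_option linter.style.haveILetI false
set_option backward.isDefEq.respectTransparency.types false

universe u

open CategoryTheory Limits MonoidalCategory CartesianMonoidalCategory MonObj AlgebraicGeometry

noncomputable section

namespace Groth.Agent.RedCell16

open InvRing21 DiagGL TorPts21 BigCell21 AttrBorel21

attribute [local instance] InvRing21.gamAlg

theorem exists_dual_pos {J : Type} [Finite J] {d : ℕ} (v : J → Fin d → ℤ) (hv : LinearIndependent ℤ v) :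
    ∃ φ : Fin d → ℤ, ∀ j, 0 < pairing (v j) φ := by
  classical
  haveI := Fintype.ofFinite J
  let cst : (Fin d → ℤ) →ₗ[ℤ] (Fin d → ℚ) :=
    { toFun := fun x i => (x i : ℚ)
      map_add' := fun x y => funext fun i => Int.cast_add _ _
      map_smul' := fun m x => funext fun i => by simp }
  have hcst : Function.Injective cst := fun x y h => funext fun i => Int.cast_injective (congrFun h i)
  have hQ : LinearIndependent ℚ (cst ∘ v) :=
    (LinearIndependent.iff_fractionRing (R := ℤ) (K := ℚ)).1 (hv.map' cst (LinearMap.ker_eq_bot.2 hcst))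
  obtain ⟨P, hP⟩ := (Fintype.linearCombination ℚ (cst ∘ v)).exists_leftInverse_of_injective
    (Fintype.linearIndependent_iff.1 hQ |> fun h => LinearMap.ker_eq_bot'.2 fun c hc =>
      funext (h c (by simpa [Fintype.linearCombination_apply] using hc)))
  let g : (Fin d → ℚ) →ₗ[ℚ] ℚ := (∑ j, LinearMap.proj j) ∘ₗ P
  have hg : ∀ j, g (cst (v j)) = 1 := fun j => by
    have h1 : P (cst (v j)) = Pi.single j 1 := by
      have := DFunLike.congr_fun hP (Pi.single j 1)
      simpa [Fintype.linearCombination_apply_single] using this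
    simp [g, h1]
  obtain ⟨N, hN⟩ := IsLocalization.exist_integer_multiples_of_finite (nonZeroDivisors ℤ)
    (fun i : Fin d => g (Pi.single i 1))
  choose z hz using hN
  refine ⟨fun i => (N : ℤ) * z i, fun j => ?_⟩
  have key : (pairing (v j) (fun i => (N : ℤ) * z i) : ℚ) = (N : ℚ) * (N : ℚ) := by
    have e : g (cst (v j)) = ∑ i, (v j i : ℚ) * g (Pi.single i 1) := by
      conv_lhs => rw [pi_eq_sum_univ' (cst (v j))]
      simp [cst]
    rw [hg] at e
    simp only [pairing, Int.cast_sum, Int.cast_mul]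
    have hz' : ∀ i, (z i : ℚ) = (N : ℚ) * g (Pi.single i 1) := fun i => by
      have := hz i
      simpa [Algebra.smul_def] using this
    simp only [hz']
    calc (∑ i, (v j i : ℚ) * ((N : ℚ) * ((N : ℚ) * g (Pi.single i 1)))) =
        (N : ℚ) * (N : ℚ) * ∑ i, (v j i : ℚ) * g (Pi.single i 1) := by
          rw [Finset.mul_sum]; exact Finset.sum_congr rfl fun i _ => by ring
      _ = _ := by rw [← e, _root_.mul_one]
  have hN0 : (N : ℚ) ≠ 0 := by simpa using nonZeroDivisors.coe_ne_zero N
  have : (0 : ℚ) < (pairing (v j) fun i => (N : ℤ) * z i : ℤ) := by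
    rw [key]; exact mul_self_pos.2 hN0
  exact_mod_cast this

/-- A monomorphism does not decrease the dimension. -/
theorem dim_le_of_mono' {k : Type u} [Field k] {X Y : Scheme.{u}} (f : X ⟶ Y) [Mono f]
    (q : Y ⟶ Spec (CommRingCat.of k)) [LocallyOfFiniteType q] [QuasiCompact q]
    [LocallyOfFiniteType f] [QuasiCompact f] : topologicalKrullDim X ≤ topologicalKrullDim Y := by
  rw [VarDim.dim_eq_iSup_sdim (f ≫ q), VarDim.dim_eq_iSup_sdim q]
  refine iSup_le fun x => ?_
  have hsub : Subsingleton (f ⁻¹' {f x} : Set X) := ⟨fun y z => Subtype.ext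
    (f.injective ((show f y.1 = f x from y.2).trans (show f z.1 = f x from z.2).symm))⟩
  have h0 : topologicalKrullDim (f ⁻¹' {f x} : Set X) ≤ ((0 : ℕ) : WithBot ℕ∞) := by
    have : Subsingleton (TopologicalSpace.IrreducibleCloseds (f ⁻¹' {f x} : Set X)) := ⟨fun A B => by
      refine SetLike.coe_injective ?_
      rw [Subsingleton.eq_univ_of_nonempty A.isIrreducible.nonempty,
        Subsingleton.eq_univ_of_nonempty B.isIrreducible.nonempty]⟩
    exact Order.krullDim_nonpos_of_subsingleton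
  have h := (VarDim.dim_preimage_singleton_le_iff q f (f x) 0).1 h0 x rfl
  rw [zero_add] at h
  exact le_trans (by exact_mod_cast h) (le_iSup _ (f x))

variable {k : Type u} [Field k] {G : Over (Spec (CommRingCat.of k))} [GrpObj G] (D : Red.SplitRed G)

/-- A cocharacter positive exactly on the positive roots. -/
theorem exists_pos_cochar (b : D.P.Base) : ∃ φ : Fin (Module.finrank ℤ D.M) → ℤ,
    ∀ c, c ∈ RedSub.posRoots D.P b → 0 < pairing ((Module.finBasis ℤ D.M).equivFun (D.P.root c)) φ := by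
  let e := (Module.finBasis ℤ D.M).equivFun
  obtain ⟨φ, hφ⟩ := exists_dual_pos (fun c : (b.support : Set D.idx) => e (D.P.root c))
    (b.linearIndepOn_root.map' e.toLinearMap (LinearEquiv.ker e))
  refine ⟨φ, fun c hc => ?_⟩
  have key : ∀ x ∈ AddSubmonoid.closure (D.P.root '' (b.support : Set D.idx)), x = 0 ∨ 0 < pairing (e x) φ := by
    intro x hx
    refine AddSubmonoid.closure_induction (fun y hy => ?_) (Or.inl rfl) (fun y z _ _ hy hz => ?_) hx
    · obtain ⟨c, hc, rfl⟩ := hy
      exact Or.inr (hφ ⟨c, hc⟩)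
    · have hadd : pairing (e (y + z)) φ = pairing (e y) φ + pairing (e z) φ := by
        simp [pairing, add_mul, Finset.sum_add_distrib]
      rcases hy with rfl | hy
      · rw [zero_add]; exact hz
      · rcases hz with rfl | hz
        · rw [add_zero]; exact Or.inr hy
        · exact Or.inr (by omega)
  exact (key _ hc).resolve_left (D.P.ne_zero c)

variable {n : ℕ} {r : G ⟶ GLs k n} {a : Fin n → Fin (Module.finrank ℤ D.M) → ℤ}

set_option maxHeartbeats 800000 in
/-- The ordered products of positive root groups are the contracted subgroup. -/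
theorem exists_prod_iso [IsMonHom D.i] [IsClosedImmersion D.i.left] [IsAffine G.left] [Smooth G.hom]
    [IsMonHom r] [IsClosedImmersion r.left]
    (hdiag : ∀ (X : Over (Spec (CommRingCat.of k))) (x : X ⟶ D.T),
      mat ((x ≫ D.i) ≫ r) = Matrix.diagonal fun j => (splitChars D).ch x (Multiplicative.ofAdd (a j)))
    {b : Fin (Module.finrank ℤ D.M) → ℤ}
    (hmeet : ∀ (X : Over (Spec (CommRingCat.of k))) (x : X ⟶ G), Blk (wt a b) (mat (x ≫ r)) →
      Blk (wt a (-b)) (mat (x ≫ r)) → ∃ τ : X ⟶ D.T, τ ≫ D.i = x) :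
    ∃ (U : Over (Spec (CommRingCat.of k))) (iU : U ⟶ G), Mono iU ∧ Unp (wt a b) (mat (iU ≫ r)) ∧
      ∀ (m : ℕ) (e : Fin m → D.idx),
        RedSub.Enumerates {c | 0 < pairing ((Module.finBasis ℤ D.M).equivFun (D.P.root c)) b} e →
          ∃ ψ : RedSub.pow (Red.Ga (Spec (CommRingCat.of k))) m ≅ U,
            ψ.hom ≫ iU = RedSub.prodMap (Red.Ga (Spec (CommRingCat.of k))) m (fun i => D.u (e i)) := by
  haveI : Mono D.i := Over.mono_of_mono_left _
  obtain ⟨V⟩ := exists_unipData hdiag (rootGroups D) b hmeet (dim_eq_of_split D)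
  letI := V.grpU
  haveI := V.isMonHom
  haveI := V.closed
  haveI := V.smooth
  have hU : Unp (wt a b) (mat (V.iU ≫ r)) := (V.fac _ _).1 ⟨𝟙 _, Category.id_comp _⟩
  obtain ⟨-, hiso⟩ := prod_rootGroups hdiag (rootGroups D) V (root_multiple D) V.iU
    (fun X => ⟨1, MonObj.one_comp _⟩) (fun X x y => ⟨x * y, MonObj.mul_comp _ _ _⟩) hU
    (tStab_unip hdiag b V.iU V.fac)
  refine ⟨V.U, V.iU, Over.mono_of_mono_left _, hU, fun m e he => hiso m e ?_⟩
  have hset : {c : D.idx | ∃ v : Red.Ga (Spec (CommRingCat.of k)) ⟶ V.U, v ≫ V.iU = (rootGroups D).u c} =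
      {c | 0 < pairing ((Module.finBasis ℤ D.M).equivFun (D.P.root c)) b} := by
    ext c
    haveI := (rootGroups D).isMonHom c
    constructor
    · rintro ⟨v, hv⟩
      rcases lt_trichotomy 0 (pairing ((rootGroups D).e c) b) with h | h | h
      · exact h
      · exact absurd h.symm (pairing_root_ne_zero hdiag (rootGroups D) b hmeet c)
      · exfalso
        have h1 : Blk (wt a b) (mat ((rootGroups D).u c ≫ r)) := by
          rw [← hv, Category.assoc, mat_comp]; exact hU.1.map _
        have h2 : Blk (wt a (-b)) (mat ((rootGroups D).u c ≫ r)) :=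
          blk_of_nonneg hdiag _ ((rootGroups D).conj c) (-b) (by rw [pairing_neg]; omega)
        obtain ⟨τ, hτ⟩ := hmeet _ _ h1 h2
        haveI := (rootGroups D).closed c
        haveI : Mono ((rootGroups D).u c) := Over.mono_of_mono_left _
        exact (rootGroups D).ne_zero c (eq_zero_of_factors (C := splitChars D) _ ((rootGroups D).conj c) hτ)
    · intro h
      exact (V.fac _ _).2 (unp_root hdiag _ ((rootGroups D).conj c) b h)
  rw [hset]
  exact he

/-- Points of powers of the additive group. -/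
theorem powPt_inj {X : Over (Spec (CommRingCat.of k))} {m : ℕ} {f g : Fin m → Γ(X.left, ⊤)}
    (h : (powPt m f : X ⟶ RedSub.pow (Red.Ga (Spec (CommRingCat.of k))) m) = powPt m g) : f = g := by
  rw [← powFn_powPt (S := Spec (CommRingCat.of k)) m f, h, powFn_powPt]

theorem lft_pow : ∀ m : ℕ, LocallyOfFiniteType (RedSub.pow (Red.Ga (Spec (CommRingCat.of k))) m).hom ∧
    Smooth (RedSub.pow (Red.Ga (Spec (CommRingCat.of k))) m).hom ∧
    IsAffine (RedSub.pow (Red.Ga (Spec (CommRingCat.of k))) m).left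
  | 0 => ⟨inferInstanceAs (LocallyOfFiniteType (𝟙 _)), inferInstanceAs (Smooth (𝟙 _)),
      inferInstanceAs (IsAffine (Spec _))⟩
  | m + 1 => by
    obtain ⟨h1, h2, h3⟩ := lft_pow m
    haveI := h1
    haveI := h2
    haveI := h3
    obtain ⟨ha, hs, -⟩ := smooth_affine_Ga k
    haveI := ha
    haveI := hs
    exact ⟨inferInstanceAs (LocallyOfFiniteType (pullback.fst _ (RedSub.pow _ m).hom ≫ _)),
      inferInstanceAs (Smooth (pullback.fst _ (RedSub.pow _ m).hom ≫ _)),
      inferInstanceAs (IsAffine (pullback _ (RedSub.pow _ m).hom))⟩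

/-- Powers of the additive group are groups. -/
@[reducible] def grpPow : ∀ m : ℕ, GrpObj (RedSub.pow (Red.Ga (Spec (CommRingCat.of k))) m)
  | 0 => inferInstanceAs (GrpObj (𝟙_ _))
  | m + 1 =>
    letI := grpPow m
    inferInstanceAs (GrpObj (Red.Ga (Spec (CommRingCat.of k)) ⊗ RedSub.pow _ m))

set_option maxHeartbeats 3200000 in
/-- The domain of the big cell has at least the dimension of the group. -/
theorem exists_mono_dom (n m : ℕ) : ∃ (L : Type u) (_ : CommRing L) (_ : Algebra k L)
    (q : VecGrp.pt k L ⟶ RedSub.pow (Red.Ga (Spec (CommRingCat.of k))) n ⊗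
      (D.T ⊗ RedSub.pow (Red.Ga (Spec (CommRingCat.of k))) m)),
    Mono q ∧ IrreducibleSpace (VecGrp.pt k L).left ∧ LocallyOfFiniteType (VecGrp.pt k L).hom ∧
      ((n + m + Module.finrank ℤ D.M : ℕ) : WithBot ℕ∞) ≤ topologicalKrullDim (VecGrp.pt k L).left := by
  classical
  let d := Module.finrank ℤ D.M
  let C := splitChars D
  let R : Type u := MvPolynomial (Fin n ⊕ Fin m ⊕ Fin d) k
  let f : R := ∏ l : Fin d, MvPolynomial.X (Sum.inr (Sum.inr l))
  let L : Type u := Localization.Away f
  have hf : f ≠ 0 := Finset.prod_ne_zero_iff.2 fun l _ => MvPolynomial.X_ne_zero _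
  haveI : IsDomain L := IsLocalization.isDomain_localization (powers_le_nonZeroDivisors_of_noZeroDivisors hf)
  haveI : Algebra.FinitePresentation R L := IsLocalization.Away.finitePresentation f
  haveI : Algebra.FiniteType k L := Algebra.FiniteType.trans (S := R) inferInstance inferInstance
  let incl : R →ₐ[k] L := IsScalarTower.toAlgHom k R L
  have hu : ∀ l : Fin d, IsUnit (incl (MvPolynomial.X (Sum.inr (Sum.inr l)))) := fun l =>
    isUnit_of_dvd_unit (map_dvd incl (Finset.dvd_prod_of_mem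
      (fun l : Fin d => (MvPolynomial.X (Sum.inr (Sum.inr l)) : R)) (Finset.mem_univ l)))
      (show IsUnit (algebraMap R L f) from IsLocalization.Away.algebraMap_isUnit f)
  obtain ⟨xt, hxt⟩ := exists_chi C (monom fun l => (hu l).unit)
  let gi : L → Γ((VecGrp.pt k L).left, ⊤) := fun x => (Scheme.ΓSpecIso (CommRingCat.of L)).inv x
  let q : VecGrp.pt k L ⟶ RedSub.pow (Red.Ga (Spec (CommRingCat.of k))) n ⊗
      (D.T ⊗ RedSub.pow (Red.Ga (Spec (CommRingCat.of k))) m) :=
    lift (powPt n fun i => gi (incl (MvPolynomial.X (Sum.inl i))))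
      (lift xt (powPt m fun i => gi (incl (MvPolynomial.X (Sum.inr (Sum.inl i))))))
  refine ⟨L, inferInstance, inferInstance, q, ⟨fun {X} ψ ψ' h => ?_⟩, ?_, ?_, ?_⟩
  · have e1 : ψ ≫ (powPt n fun i => gi (incl (MvPolynomial.X (Sum.inl i)))) =
        ψ' ≫ (powPt n fun i => gi (incl (MvPolynomial.X (Sum.inl i)))) := by
      simpa [q] using congrArg (· ≫ fst _ _) h
    have e2 : ψ ≫ xt = ψ' ≫ xt := by simpa [q] using congrArg (· ≫ snd _ _ ≫ fst _ _) h
    have e3 : ψ ≫ (powPt m fun i => gi (incl (MvPolynomial.X (Sum.inr (Sum.inl i))))) =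
        ψ' ≫ (powPt m fun i => gi (incl (MvPolynomial.X (Sum.inr (Sum.inl i))))) := by
      simpa [q] using congrArg (· ≫ snd _ _ ≫ snd _ _) h
    rw [powPt_comp, powPt_comp] at e1 e3
    let Ψ : L →+* Γ(X.left, ⊤) := ψ.left.appTop.hom.comp (Scheme.ΓSpecIso (CommRingCat.of L)).inv.hom
    let Ψ' : L →+* Γ(X.left, ⊤) := ψ'.left.appTop.hom.comp (Scheme.ΓSpecIso (CommRingCat.of L)).inv.hom
    have ht' : ∀ l, Ψ (incl (MvPolynomial.X (Sum.inr (Sum.inr l)))) =
        Ψ' (incl (MvPolynomial.X (Sum.inr (Sum.inr l)))) := fun l => by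
      have hc : C.ch xt (Multiplicative.ofAdd (Pi.single l 1)) =
          (Scheme.ΓSpecIso (CommRingCat.of L)).inv (incl (MvPolynomial.X (Sum.inr (Sum.inr l)))) := by
        have h1 := hxt (Multiplicative.ofAdd (Pi.single l 1))
        rw [monom_single, IsUnit.unit_spec] at h1
        rw [← h1]
        exact (ConcreteCategory.congr_hom (Scheme.ΓSpecIso (CommRingCat.of L)).hom_inv_id _).symm
      show ψ.left.appTop ((Scheme.ΓSpecIso (CommRingCat.of L)).inv _) = ψ'.left.appTop _
      have h6 := fun χ : X ⟶ VecGrp.pt k L => C.nat χ xt (Multiplicative.ofAdd (Pi.single l 1))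
      rw [← hc, ← h6, e2, h6]
    have hΨ : Ψ = Ψ' := by
      refine IsLocalization.ringHom_ext (Submonoid.powers f) ?_
      refine MvPolynomial.ringHom_ext (fun c => ?_) ?_
      · show ψ.left.appTop ((Scheme.ΓSpecIso (CommRingCat.of L)).inv (incl (MvPolynomial.C c))) =
          ψ'.left.appTop ((Scheme.ΓSpecIso (CommRingCat.of L)).inv (incl (MvPolynomial.C c)))
        have hC : ∀ χ : X ⟶ VecGrp.pt k L, χ.left.appTop ((Scheme.ΓSpecIso (CommRingCat.of L)).inv
            (incl (MvPolynomial.C c))) = ev χ (algebraMap k L c) := fun χ => by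
          rw [show incl (MvPolynomial.C c) = algebraMap k L c from AlgHom.commutes incl c]
          rfl
        rw [hC, hC, ev_algebraMap, ev_algebraMap]
      · rintro (t | t | l)
        exacts [congrFun (powPt_inj e1) t, congrFun (powPt_inj e3) t, ht' l]
    refine Over.OverMorphism.ext (ext_of_isAffine (CommRingCat.hom_ext (RingHom.ext fun F => ?_)))
    have h4 := DFunLike.congr_fun hΨ ((Scheme.ΓSpecIso (CommRingCat.of L)).hom F)
    have h5 : ((Scheme.ΓSpecIso (CommRingCat.of L)).inv ((Scheme.ΓSpecIso (CommRingCat.of L)).hom F)) = F :=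
      ConcreteCategory.congr_hom (Scheme.ΓSpecIso (CommRingCat.of L)).hom_inv_id F
    simpa [Ψ, Ψ', h5] using h4
  · exact inferInstanceAs (IrreducibleSpace (PrimeSpectrum L))
  · show LocallyOfFiniteType (Spec.map (CommRingCat.ofHom (algebraMap k L)))
    rw [HasRingHomProperty.Spec_iff (P := @LocallyOfFiniteType)]
    exact RingHom.finiteType_algebraMap.2 inferInstance
  · show _ ≤ topologicalKrullDim (PrimeSpectrum L)
    have hinj : Function.Injective incl :=
      IsLocalization.injective L (powers_le_nonZeroDivisors_of_noZeroDivisors hf)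
    rw [PrimeSpectrum.topologicalKrullDim_eq_ringKrullDim, VarDim.ringKrullDim_eq_tdeg k L]
    have h1 : Algebra.trdeg k R ≤ Algebra.trdeg k L := trdeg_le_of_injective incl hinj
    rw [VarDim.trdeg_eq_tdeg k L, MvPolynomial.trdeg_of_isDomain, Cardinal.mk_fintype] at h1
    simp only [Cardinal.lift_natCast, Fintype.card_sum, Fintype.card_fin, Nat.cast_le] at h1
    have h2 : n + m + Module.finrank ℤ D.M ≤ VarDim.tdeg k L := by omega
    exact_mod_cast h2

set_option maxHeartbeats 3200000 in
/-- **The big cell over a field.** -/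
theorem isOpenImmersion_cellMap_field [IsAlgClosed k] (bb : D.P.Base) {n m : ℕ} (eneg : Fin n → D.idx) (epos : Fin m → D.idx)
    (hneg : RedSub.Enumerates (RedSub.negRoots D.P bb) eneg) (hpos : RedSub.Enumerates (RedSub.posRoots D.P bb) epos) :
    IsOpenImmersion (RedSub.cellMap D eneg epos).left ∧
      ∀ (eneg' : Fin n → D.idx) (epos' : Fin m → D.idx), RedSub.Enumerates (RedSub.negRoots D.P bb) eneg' →
        RedSub.Enumerates (RedSub.posRoots D.P bb) epos' →
        ∃ σ, IsIso σ ∧ σ ≫ RedSub.cellMap D eneg epos = RedSub.cellMap D eneg' epos' := by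
  classical
  obtain ⟨hi, hic, hGa, hGs, N, r, hr, hrc, a, hdiag⟩ := exists_split_rep D
  haveI := hi
  haveI := hic
  haveI := hGa
  haveI := hGs
  haveI := hr
  haveI := hrc
  haveI : Mono D.i := Over.mono_of_mono_left D.i
  obtain ⟨φ, hφ⟩ := exists_pos_cochar D bb
  let S : Finset (Fin (Module.finrank ℤ D.M) → ℤ) :=
    (Finset.univ.image fun p : Fin N × Fin N => a p.1 - a p.2) ∪
      Finset.univ.image fun c : D.idx => (rootGroups D).e c
  obtain ⟨z, hzne, hzpos⟩ := exists_sep_pos S φ
  have hsep : ∀ i j, wt a z i = wt a z j → a i = a j := fun i j h => by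
    by_contra hne
    refine hzne (a i - a j) (Finset.mem_union_left _ (Finset.mem_image.2 ⟨(i, j), Finset.mem_univ _, rfl⟩))
      (sub_ne_zero.2 hne) ?_
    rw [pairing_sub_eq, h, sub_self]
  have hmeet := meet_of_sep D hdiag hsep
  have hmeet' : ∀ (X : Over (Spec (CommRingCat.of k))) (x : X ⟶ G), Blk (wt a (-z)) (mat (x ≫ r)) →
      Blk (wt a (- -z)) (mat (x ≫ r)) → ∃ τ : X ⟶ D.T, τ ≫ D.i = x := fun X x h h' => by
    rw [neg_neg] at h'
    exact hmeet X x h' h
  have hp : ∀ c, c ∈ RedSub.posRoots D.P bb → 0 < pairing ((Module.finBasis ℤ D.M).equivFun (D.P.root c)) z :=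
    fun c hc => hzpos _ (Finset.mem_union_right _ (Finset.mem_image.2 ⟨c, Finset.mem_univ _, rfl⟩)) (hφ c hc)
  have hn : ∀ c, c ∈ RedSub.negRoots D.P bb → pairing ((Module.finBasis ℤ D.M).equivFun (D.P.root c)) z < 0 := by
    intro c hc
    have h := hp _ ((RootComb21.mem_negRoots_iff_ng bb c).1 hc)
    rw [RootDLib.root_ng, map_neg, neg_pairing] at h
    omega
  have hP : {c : D.idx | 0 < pairing ((Module.finBasis ℤ D.M).equivFun (D.P.root c)) z} = RedSub.posRoots D.P bb := by
    ext c
    refine ⟨fun h => ?_, hp c⟩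
    by_contra hc
    exact absurd h (hn c ((RootComb21.mem_negRoots_iff bb c).2 hc)).le.not_gt
  have hM : {c : D.idx | 0 < pairing ((Module.finBasis ℤ D.M).equivFun (D.P.root c)) (-z)} =
      RedSub.negRoots D.P bb := by
    ext c
    rw [Set.mem_setOf_eq, pairing_neg]
    refine ⟨fun h => (RootComb21.mem_negRoots_iff bb c).2 fun hc => ?_, fun hc => by have := hn c hc; omega⟩
    have := hp c hc
    omega
  obtain ⟨U, iU, hUm, hUu, hUiso⟩ := exists_prod_iso D hdiag hmeet
  obtain ⟨M, iM, hMm, hMu, hMiso⟩ := exists_prod_iso D hdiag hmeet'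
  rw [hP] at hUiso
  rw [hM] at hMiso
  obtain ⟨ψp, hψp⟩ := hUiso m epos hpos
  obtain ⟨ψm, hψm⟩ := hMiso n eneg hneg
  let Ω := RedSub.pow (Red.Ga (Spec (CommRingCat.of k))) n ⊗ (D.T ⊗ RedSub.pow (Red.Ga (Spec (CommRingCat.of k))) m)
  let c := RedSub.cellMap D eneg epos
  have hc : ∀ {X : Over (Spec (CommRingCat.of k))} (x : X ⟶ Ω), x ≫ c =
      ((x ≫ fst _ _) ≫ ψm.hom ≫ iM) * ((x ≫ snd _ _ ≫ fst _ _) ≫ D.i) * ((x ≫ snd _ _ ≫ snd _ _) ≫ ψp.hom ≫ iU) := by
    intro X x
    simp only [c, RedSub.cellMap, MonObj.comp_mul, hψm, hψp, Category.assoc, _root_.mul_assoc]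
  refine ⟨?_, fun eneg' epos' hneg' hpos' => ?_⟩
  swap
  · obtain ⟨ψp', hψp'⟩ := hUiso m epos' hpos'
    obtain ⟨ψm', hψm'⟩ := hMiso n eneg' hneg'
    let σ := (ψm' ≪≫ ψm.symm) ⊗ᵢ ((Iso.refl D.T) ⊗ᵢ (ψp' ≪≫ ψp.symm))
    refine ⟨σ.hom, inferInstance, ?_⟩
    refine (hc σ.hom).trans ?_
    simp only [σ, RedSub.cellMap, tensorIso_hom, Iso.trans_hom, Iso.symm_hom, Category.assoc, tensorHom_fst,
      tensorHom_snd_assoc, tensorHom_fst_assoc, Iso.refl_hom, Category.id_comp, Iso.inv_hom_id_assoc, hψm', hψp',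
      _root_.mul_assoc]
  haveI hcm : Mono c := ⟨fun {X} x y h => by
    rw [hc, hc] at h
    have hUn : ∀ {V : Over (Spec (CommRingCat.of k))} {i : V ⟶ G} {w : Fin N → ℤ} (v : X ⟶ V),
        Unp w (mat (i ≫ r)) → Unp w (mat ((v ≫ i) ≫ r)) := fun v hv => by
      rw [Category.assoc, mat_comp]; exact hv.map _
    obtain ⟨h1, h2, h3⟩ := eq_of_cell_eq hdiag hmeet
      (by rw [← Category.assoc _ ψm.hom]; exact hUn _ hMu) (by rw [← Category.assoc _ ψm.hom]; exact hUn _ hMu)
      (by rw [← Category.assoc _ ψp.hom]; exact hUn _ hUu) (by rw [← Category.assoc _ ψp.hom]; exact hUn _ hUu) h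
    rw [cancel_mono] at h1 h2 h3
    refine CartesianMonoidalCategory.hom_ext _ _ h1 (CartesianMonoidalCategory.hom_ext _ _ ?_ ?_)
    · simpa using h2
    · simpa using h3⟩
  obtain ⟨hnl, hns, hna⟩ := lft_pow (k := k) n
  obtain ⟨hml, hms, hma⟩ := lft_pow (k := k) m
  haveI := hnl
  haveI := hns
  haveI := hna
  haveI := hml
  haveI := hms
  haveI := hma
  obtain ⟨hTa, hTs, -, -⟩ := props_of_isTorus D.maximalTorus.2.2.1
  haveI := hTa
  haveI := hTs
  haveI : Smooth Ω.hom := by
    show Smooth (pullback.fst _ (pullback.fst D.T.hom (RedSub.pow _ m).hom ≫ D.T.hom) ≫ _)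
    infer_instance
  haveI : IsAffine Ω.left := inferInstanceAs (IsAffine (pullback _ (pullback.fst D.T.hom _ ≫ D.T.hom)))
  letI := grpPow (k := k) n
  letI := grpPow (k := k) m
  haveI : LocallyOfFiniteType Ω.hom := inferInstance
  haveI : LocallyOfFiniteType G.hom := inferInstance
  haveI : Mono c.left := inferInstance
  haveI : LocallyOfFiniteType c.left := by
    haveI : LocallyOfFiniteType (c.left ≫ G.hom) := by rw [Over.w c]; infer_instance
    exact locallyOfFiniteType_of_comp c.left G.hom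
  refine (Groth.Agent.S4993.result G.hom Ω.hom c.left (Over.w c)).2 ⟨inferInstance, fun x => ?_⟩
  obtain ⟨L, _, _, q, hqm, hLi, hLf, hLd⟩ := exists_mono_dom D n m
  haveI := hqm
  haveI := hLi
  haveI := hLf
  have hdimG := dim_eq_of_split D
  have hfib : ∀ (H : Over (Spec (CommRingCat.of k))) [GrpObj H] [LocallyOfFiniteType H.hom] (y : H.left),
      FlatMor.fibreDimAt H.hom y = topologicalKrullDim H.left := fun H _ _ y => by
    rw [GrpNeutral20.fibreDimAt_eq, show H.hom ⁻¹' {H.hom y} = Set.univ from Set.eq_univ_of_forall fun w =>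
      Subsingleton.elim (α := PrimeSpectrum k) _ _]
    exact (Homeomorph.Set.univ _).isHomeomorph.topologicalKrullDim_eq
  rw [hfib G, hfib Ω]
  haveI : IsAffine (VecGrp.pt k L).left := inferInstanceAs (IsAffine (Spec _))
  haveI : LocallyOfFiniteType (q.left ≫ Ω.hom) := by rw [Over.w q]; infer_instance
  haveI : LocallyOfFiniteType q.left := locallyOfFiniteType_of_comp q.left Ω.hom
  haveI : IsAffineHom q.left := inferInstance
  haveI : Mono q.left := inferInstance
  haveI : Mono (q.left ≫ c.left) := inferInstance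
  haveI : IsAffineHom (q.left ≫ c.left) := inferInstance
  haveI : QuasiCompact G.hom := inferInstance
  haveI : QuasiCompact Ω.hom := inferInstance
  have hcard : Fintype.card D.idx = n + m := by
    obtain ⟨hni, hnr⟩ := hneg
    obtain ⟨hmi, hmr⟩ := hpos
    have hdisj : Function.Injective (Sum.elim eneg epos) := by
      refine Function.Injective.sumElim hni hmi fun i j e => ?_
      exact (RootComb21.mem_negRoots_iff bb (eneg i)).1 (hnr ▸ ⟨i, rfl⟩) (e ▸ (hmr ▸ ⟨j, rfl⟩ : epos j ∈ RedSub.posRoots D.P bb))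
    have hsurj : Function.Surjective (Sum.elim eneg epos) := fun c => by
      by_cases h : c ∈ RedSub.posRoots D.P bb
      · rw [← hmr] at h; obtain ⟨j, hj⟩ := h; exact ⟨Sum.inr j, hj⟩
      · have := (RootComb21.mem_negRoots_iff bb c).2 h
        rw [← hnr] at this; obtain ⟨i, hi⟩ := this; exact ⟨Sum.inl i, hi⟩
    rw [← Fintype.card_of_bijective ⟨hdisj, hsurj⟩, Fintype.card_sum, Fintype.card_fin, Fintype.card_fin]
  refine le_antisymm ?_ ?_
  · refine le_trans ?_ (le_trans hLd (dim_le_of_mono q.left Ω.hom))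
    rw [hdimG, hcard, Nat.add_comm]
  · exact dim_le_of_mono' c.left G.hom

end Groth.Agent.RedCell16
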