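import Groth.Agent.Lib.RedCell16.Base
import Groth.Agent.Lib.RedCell16.Field
import Groth.Agent.Lib.GaPts.Basic
import Mathlib.LinearAlgebra.SymmetricAlgebra.Basis
import Mathlib.AlgebraicGeometry.Morphisms.FinitePresentation
import Groth.Agent.S2759
import Mathlib.AlgebraicGeometry.Morphisms.FlatDescent

/-!
# The big cell of a split reductive group is an open immersion
-/

set_option autoImplicit false
set_option linter.style.haveILetI false
set_option linter.unusedSimpArgs false
set_option backward.isDefEq.respectTransparency false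
set_option backward.isDefEq.respectTransparency.types false

universe u

open CategoryTheory CategoryTheory.Limits MonoidalCategory CartesianMonoidalCategory MonObj AlgebraicGeometry

noncomputable section

namespace Groth.Agent.RedCell16

open DiagGL

variable {S S' : Scheme.{u}} (ψ : S' ⟶ S)

omit ψ in
instance flat_Ga : Flat (Red.Ga S).hom := by
  refine MorphismProperty.pullback_snd (P := @Flat) _ _ ?_
  change Flat (Spec.map (CommRingCat.ofHom (algebraMap (ULift.{u} ℤ) (SymmetricAlgebra (ULift.{u} ℤ) (ULift.{u} ℤ)))))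
  rw [HasRingHomProperty.Spec_iff (P := @Flat)]
  exact RingHom.flat_algebraMap_iff.2 inferInstance

omit ψ in
instance lfp_Ga : LocallyOfFinitePresentation (Red.Ga S).hom := by
  refine MorphismProperty.pullback_snd (P := @LocallyOfFinitePresentation) _ _ ?_
  change LocallyOfFinitePresentation (Spec.map (CommRingCat.ofHom (algebraMap (ULift.{u} ℤ) (SymmetricAlgebra (ULift.{u} ℤ) (ULift.{u} ℤ)))))
  rw [HasRingHomProperty.Spec_iff (P := @LocallyOfFinitePresentation)]
  refine RingHom.finitePresentation_algebraMap.2 ?_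
  exact Algebra.FinitePresentation.equiv
    (SymmetricAlgebra.equivMvPolynomial (Module.Basis.singleton PUnit.{u+1} (ULift.{u} ℤ))).symm

/-- The base change of a power of the additive group. -/
def powBc : ∀ m : ℕ, Red.bc ψ (RedSub.pow (Red.Ga S) m) ≅ RedSub.pow (Red.Ga S') m
  | 0 => (Functor.Monoidal.εIso (Over.pullback ψ)).symm
  | m + 1 => (Functor.Monoidal.μIso (Over.pullback ψ) (Red.Ga S) (RedSub.pow (Red.Ga S) m)).symm ≪≫
      (gaBc ψ ⊗ᵢ powBc m)

variable {G : Over S} [GrpObj G] (D : Red.SplitRed G)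

theorem map_prodMap : ∀ (m : ℕ) (e : Fin m → D.idx),
    (Over.pullback ψ).map (RedSub.prodMap (Red.Ga S) m (fun i => D.u (e i))) =
      (powBc ψ m).hom ≫ RedSub.prodMap (Red.Ga S') m (fun i => uBc D ψ (e i))
  | 0, _ => by
    show (Over.pullback ψ).map 1 = _ ≫ 1
    rw [MonObj.comp_one, Functor.map_one]
  | m + 1, e => by
    show (Over.pullback ψ).map ((fst _ _ ≫ D.u (e 0)) *
        (snd _ _ ≫ RedSub.prodMap (Red.Ga S) m fun k => D.u (e k.succ))) =
      _ ≫ ((fst _ _ ≫ uBc D ψ (e 0)) * (snd _ _ ≫ RedSub.prodMap (Red.Ga S') m fun k => uBc D ψ (e k.succ)))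
    rw [Functor.map_mul, Functor.map_comp, Functor.map_comp, map_prodMap m fun k => e k.succ, MonObj.comp_mul]
    simp only [powBc, uBc, Iso.trans_hom, Iso.symm_hom, Functor.Monoidal.μIso_inv, Category.assoc, tensorIso_hom,
      tensorHom_fst_assoc, tensorHom_snd_assoc, Iso.hom_inv_id_assoc, Functor.OplaxMonoidal.δ_fst_assoc,
      Functor.OplaxMonoidal.δ_snd_assoc]

/-- The base change of the domain of a cell. -/
def domBc (n m : ℕ) : Red.bc ψ (RedSub.pow (Red.Ga S) n ⊗ (D.T ⊗ RedSub.pow (Red.Ga S) m)) ≅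
    RedSub.pow (Red.Ga S') n ⊗ (Red.bc ψ D.T ⊗ RedSub.pow (Red.Ga S') m) :=
  (Functor.Monoidal.μIso (Over.pullback ψ) _ _).symm ≪≫
    (powBc ψ n ⊗ᵢ ((Functor.Monoidal.μIso (Over.pullback ψ) _ _).symm ≪≫ (Iso.refl _ ⊗ᵢ powBc ψ m)))

theorem map_cellMap (s : S) {n m : ℕ} (eneg : Fin n → D.idx) (epos : Fin m → D.idx) :
    (Over.pullback (Red.geomPt s)).map (RedSub.cellMap D eneg epos) =
      (domBc (Red.geomPt s) D n m).hom ≫ RedSub.cellMap (geomSplit D s) eneg epos := by
  simp only [RedSub.cellMap, Functor.map_mul, Functor.map_comp, map_prodMap, MonObj.comp_mul]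
  simp only [domBc, geomSplit, Iso.trans_hom, Iso.symm_hom, Functor.Monoidal.μIso_inv, Category.assoc, tensorIso_hom,
    tensorHom_fst_assoc, tensorHom_snd_assoc, Iso.refl_hom, Category.id_comp,
    Functor.OplaxMonoidal.δ_fst_assoc, Functor.OplaxMonoidal.δ_snd_assoc]

include D in
theorem flat_lfp_torus : Flat D.T.hom ∧ LocallyOfFinitePresentation D.T.hom := by
  haveI : AddGroup.FG D.M := Module.Finite.iff_addGroup_fg.1 D.finiteM
  refine ⟨?_, MTRigid29.lfp_of_chars (chars D)⟩
  let e : D.T ≅ Red.DS S D.M := (Grp.forget _).mapIso D.split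
  haveI : Flat (Red.diag (ULift.{u} ℤ) D.M).hom := by
    show Flat (Spec.map (CommRingCat.ofHom (algebraMap (ULift.{u} ℤ)
      (MonoidAlgebra (ULift.{u} ℤ) (Multiplicative D.M)))))
    rw [HasRingHomProperty.Spec_iff (P := @Flat)]
    exact RingHom.flat_algebraMap_iff.2 inferInstance
  haveI : Flat (Red.DS S D.M).hom := MorphismProperty.pullback_snd _ _ inferInstance
  haveI : IsIso e.hom.left := inferInstanceAs (IsIso ((Over.forget _).map e.hom))
  rw [← Over.w e.hom]
  infer_instance

omit [GrpObj G] in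
theorem flat_lfp_pow : ∀ m : ℕ, Flat (RedSub.pow (Red.Ga S) m).hom ∧
    LocallyOfFinitePresentation (RedSub.pow (Red.Ga S) m).hom
  | 0 => ⟨inferInstanceAs (Flat (𝟙 _)), inferInstanceAs (LocallyOfFinitePresentation (𝟙 _))⟩
  | m + 1 => by
    obtain ⟨h1, h2⟩ := flat_lfp_pow m
    haveI := h1
    haveI := h2
    exact ⟨inferInstanceAs (Flat (pullback.fst _ (RedSub.pow _ m).hom ≫ _)),
      inferInstanceAs (LocallyOfFinitePresentation (pullback.fst _ (RedSub.pow _ m).hom ≫ _))⟩

theorem flat_lfp_dom (n m : ℕ) :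
    Flat (RedSub.pow (Red.Ga S) n ⊗ (D.T ⊗ RedSub.pow (Red.Ga S) m)).hom ∧
      LocallyOfFinitePresentation (RedSub.pow (Red.Ga S) n ⊗ (D.T ⊗ RedSub.pow (Red.Ga S) m)).hom := by
  obtain ⟨h1, h2⟩ := flat_lfp_pow (S := S) n
  obtain ⟨h3, h4⟩ := flat_lfp_pow (S := S) m
  obtain ⟨h5, h6⟩ := flat_lfp_torus D
  haveI := h1
  haveI := h2
  haveI := h3
  haveI := h4
  haveI := h5
  haveI := h6
  haveI : Flat (D.T ⊗ RedSub.pow (Red.Ga S) m).hom :=
    inferInstanceAs (Flat (pullback.fst _ (RedSub.pow _ m).hom ≫ _))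
  haveI : LocallyOfFinitePresentation (D.T ⊗ RedSub.pow (Red.Ga S) m).hom :=
    inferInstanceAs (LocallyOfFinitePresentation (pullback.fst _ (RedSub.pow _ m).hom ≫ _))
  exact ⟨inferInstanceAs (Flat (pullback.fst _ (D.T ⊗ RedSub.pow _ m).hom ≫ _)),
    inferInstanceAs (LocallyOfFinitePresentation (pullback.fst _ (D.T ⊗ RedSub.pow _ m).hom ≫ _))⟩

variable (b : D.P.Base) {n m : ℕ} (eneg : Fin n → D.idx) (epos : Fin m → D.idx)

theorem isOpenImmersion_geom (hneg : RedSub.Enumerates (RedSub.negRoots D.P b) eneg)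
    (hpos : RedSub.Enumerates (RedSub.posRoots D.P b) epos) (s : S) :
    IsOpenImmersion ((Over.pullback (Red.geomPt s)).map (RedSub.cellMap D eneg epos)).left := by
  haveI := (isOpenImmersion_cellMap_field (geomSplit D s) b eneg epos hneg hpos).1
  haveI : IsIso (domBc (Red.geomPt s) D n m).hom.left :=
    inferInstanceAs (IsIso ((Over.forget _).map (domBc (Red.geomPt s) D n m).hom))
  rw [map_cellMap, Over.comp_left]
  infer_instance

set_option maxHeartbeats 800000 in
/-- **The big cell is an open immersion.** -/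
theorem isOpenImmersion_cellMap (hneg : RedSub.Enumerates (RedSub.negRoots D.P b) eneg)
    (hpos : RedSub.Enumerates (RedSub.posRoots D.P b) epos) :
    IsOpenImmersion (RedSub.cellMap D eneg epos).left := by
  haveI : Smooth G.hom := D.reductive.2.1
  obtain ⟨h1, h2⟩ := flat_lfp_dom D n m
  haveI := h1
  haveI := h2
  refine ((Groth.Agent.S2759.result G.hom _ (RedSub.cellMap D eneg epos).left (Over.w _)).1).2 fun s => ?_
  let K := AlgebraicClosure (S.residueField s)
  let φ : Spec (CommRingCat.of K) ⟶ Spec (S.residueField s) :=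
    Spec.map (CommRingCat.ofHom (algebraMap (S.residueField s) K))
  haveI : Surjective φ :=
    ⟨fun x => ⟨IsLocalRing.closedPoint K, Subsingleton.elim (α := PrimeSpectrum (S.residueField s)) _ _⟩⟩
  haveI : Flat φ := by
    rw [HasRingHomProperty.Spec_iff (P := @Flat)]
    exact RingHom.flat_algebraMap_iff.2 inferInstance
  let q := pullback.fst (pullback.snd G.hom (S.fromSpecResidueField s)) φ
  have hq : (@Surjective ⊓ @Flat ⊓ @QuasiCompact : MorphismProperty Scheme.{u}) q :=
    ⟨⟨inferInstance, inferInstance⟩, inferInstance⟩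
  refine MorphismProperty.of_pullback_snd_of_descendsAlong (P := @IsOpenImmersion) hq ?_
  let θ := (pullbackLeftPullbackSndIso G.hom (S.fromSpecResidueField s) φ).hom
  have key := MTRigid29.of_factor (P := @IsOpenImmersion) (Red.geomPt s) (RedSub.cellMap D eneg epos)
    (isOpenImmersion_geom D b eneg epos hneg hpos s) θ
  have hθ : θ ≫ pullback.fst G.hom (Red.geomPt s) = q ≫ G.hom.fiberι s := by
    simp [θ, q, Scheme.Hom.fiberι]
    erw [pullbackLeftPullbackSndIso_hom_fst]
  rw [hθ] at key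
  let e := pullbackLeftPullbackSndIso (RedSub.cellMap D eneg epos).left (G.hom.fiberι s) q
  have he : e.hom ≫ pullback.snd _ _ = pullback.snd _ _ := pullbackLeftPullbackSndIso_hom_snd _ _ _
  rw [← he]
  exact MorphismProperty.comp_mem _ _ _ inferInstance key

theorem exists_geom_perm (hneg : RedSub.Enumerates (RedSub.negRoots D.P b) eneg)
    (hpos : RedSub.Enumerates (RedSub.posRoots D.P b) epos) (eneg' : Fin n → D.idx) (epos' : Fin m → D.idx)
    (hneg' : RedSub.Enumerates (RedSub.negRoots D.P b) eneg') (hpos' : RedSub.Enumerates (RedSub.posRoots D.P b) epos')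
    (s : S) : ∃ τ, (Over.pullback (Red.geomPt s)).map (RedSub.cellMap D eneg' epos') =
      τ ≫ (Over.pullback (Red.geomPt s)).map (RedSub.cellMap D eneg epos) := by
  obtain ⟨σ, -, hσ⟩ := (isOpenImmersion_cellMap_field (geomSplit D s) b eneg epos hneg hpos).2 eneg' epos' hneg' hpos'
  refine ⟨(domBc (Red.geomPt s) D n m).hom ≫ σ ≫ (domBc (Red.geomPt s) D n m).inv, ?_⟩
  rw [map_cellMap D s eneg' epos', map_cellMap D s eneg epos, Category.assoc, Category.assoc,
    Iso.inv_hom_id_assoc, hσ]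

set_option maxHeartbeats 800000 in
/-- The image of the big cell does not depend on the orders. -/
theorem range_cellMap_le (hneg : RedSub.Enumerates (RedSub.negRoots D.P b) eneg)
    (hpos : RedSub.Enumerates (RedSub.posRoots D.P b) epos) (eneg' : Fin n → D.idx) (epos' : Fin m → D.idx)
    (hneg' : RedSub.Enumerates (RedSub.negRoots D.P b) eneg') (hpos' : RedSub.Enumerates (RedSub.posRoots D.P b) epos') :
    Set.range (RedSub.cellMap D eneg' epos').left.base ⊆ Set.range (RedSub.cellMap D eneg epos).left.base := by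
  rintro _ ⟨p, rfl⟩
  let ψ := Red.geomPt ((RedSub.pow (Red.Ga S) n ⊗ (D.T ⊗ RedSub.pow (Red.Ga S) m)).hom p)
  obtain ⟨q, hq, -⟩ := Scheme.Pullback.exists_preimage_pullback
    (f := (RedSub.pow (Red.Ga S) n ⊗ (D.T ⊗ RedSub.pow (Red.Ga S) m)).hom) (g := ψ) p (IsLocalRing.closedPoint _)
    (by
      simp only [ψ, Scheme.Hom.comp_apply]
      exact (Scheme.fromSpecResidueField_apply _ _).symm)
  obtain ⟨τ, hτ⟩ := exists_geom_perm D b eneg epos hneg hpos eneg' epos' hneg' hpos'
    ((RedSub.pow (Red.Ga S) n ⊗ (D.T ⊗ RedSub.pow (Red.Ga S) m)).hom p)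
  refine ⟨(pullback.fst _ ψ) (τ.left q), ?_⟩
  have h2 : pullback.fst _ ψ ≫ (RedSub.cellMap D eneg' epos').left =
      τ.left ≫ pullback.fst _ ψ ≫ (RedSub.cellMap D eneg epos).left := by
    rw [(MTRigid29.isPullback_map_left ψ (RedSub.cellMap D eneg epos)).w,
      (MTRigid29.isPullback_map_left ψ (RedSub.cellMap D eneg' epos')).w, ← Category.assoc, ← Over.comp_left, ← hτ]
  have h3 := congrArg (fun f => f q) h2
  simp only [Scheme.Hom.comp_apply] at h3
  exact (h3.symm.trans (congrArg _ hq))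

end Groth.Agent.RedCell16
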