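import Groth.Agent.Lib.RedCell16.BruhatCells
import Groth.Agent.Lib.RedCell16.Open
import Groth.Agent.Lib.RankOne16.Closed
import Groth.Agent.Lib.MTRigid29.MonoClosed
import Groth.Agent.Lib.SubGrp13.Basic
import Groth.Agent.Lib.TorPts21.Max

/-!
# The closed subgroup of a positive system
-/

set_option autoImplicit false
set_option linter.style.haveILetI false
set_option linter.unusedSimpArgs false
set_option linter.unusedSectionVars false
set_option backward.isDefEq.respectTransparency false
set_option backward.isDefEq.respectTransparency.types false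

universe u

open CategoryTheory CategoryTheory.Limits MonoidalCategory CartesianMonoidalCategory MonObj AlgebraicGeometry

noncomputable section

namespace Groth.Agent.RedCell16

open DiagGL RootDLib
open RankOne (P A)
open AttrBorel21 (powPt powFn powPt_powFn powFn_powPt powPt_comp powPt_prodMap)

variable {S : Scheme.{u}}

theorem smooth_Ga' : Smooth (Red.Ga S).hom := by
  refine MorphismProperty.pullback_snd (P := @Smooth) _ _ ?_
  change Smooth (Spec.map (CommRingCat.ofHom (algebraMap (ULift.{u} ℤ) (SymmetricAlgebra (ULift.{u} ℤ) (ULift.{u} ℤ)))))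
  rw [HasRingHomProperty.Spec_iff (P := @Smooth)]
  refine RingHom.smooth_algebraMap.2 ?_
  haveI : Algebra.Smooth (ULift.{u} ℤ) (MvPolynomial PUnit.{u+1} (ULift.{u} ℤ)) := ⟨inferInstance, inferInstance⟩
  exact Algebra.Smooth.of_equiv
    (SymmetricAlgebra.equivMvPolynomial (Module.Basis.singleton PUnit.{u+1} (ULift.{u} ℤ))).symm

theorem smooth_pow : ∀ m : ℕ, Smooth (RedSub.pow (Red.Ga S) m).hom
  | 0 => inferInstanceAs (Smooth (𝟙 _))
  | m + 1 => by
    haveI := smooth_pow m
    haveI := smooth_Ga' (S := S)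
    exact inferInstanceAs (Smooth (pullback.fst _ (RedSub.pow _ m).hom ≫ _))

/-- The group algebra of a lattice is smooth. -/
theorem smooth_groupAlgebra (M : Type) [AddCommGroup M] [Module.Finite ℤ M] [Module.Free ℤ M] :
    Algebra.Smooth (ULift.{u} ℤ) (MonoidAlgebra (ULift.{u} ℤ) (Multiplicative M)) := by
  haveI : Monoid.FG (Multiplicative M) := by
    haveI : AddGroup.FG M := Module.Finite.iff_addGroup_fg.1 inferInstance
    infer_instance
  haveI : IsNoetherianRing (ULift.{u} ℤ) := isNoetherianRing_of_ringEquiv ℤ ULift.ringEquiv.symm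
  haveI : Algebra.FormallySmooth (ULift.{u} ℤ) (MonoidAlgebra (ULift.{u} ℤ) (Multiplicative M)) := by
    refine Algebra.FormallySmooth.iff_comp_surjective.2 fun {B} _ _ I hI f => ?_
    let π : Additive Bˣ →ₗ[ℤ] Additive (B ⧸ I)ˣ :=
      (MonoidHom.toAdditive (Units.map (Ideal.Quotient.mk I).toMonoidHom)).toIntLinearMap
    have hπ : Function.Surjective π := fun x => by
      obtain ⟨b, hb⟩ := Ideal.Quotient.mk_surjective ((Additive.toMul x : (B ⧸ I)ˣ) : B ⧸ I)
      obtain ⟨b', hb'⟩ := Ideal.Quotient.mk_surjective (((Additive.toMul x)⁻¹ : (B ⧸ I)ˣ) : B ⧸ I)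
      have h1 : b * b' - 1 ∈ I := by
        rw [← Ideal.Quotient.eq_zero_iff_mem, map_sub, map_mul, hb, hb', map_one, Units.mul_inv, sub_self]
      have hu : IsUnit (b * b') := by
        have : IsNilpotent (b * b' - 1) := ⟨2, by
          rw [← Ideal.mem_bot, ← hI]
          exact Ideal.pow_mem_pow h1 2⟩
        simpa using this.isUnit_add_one
      exact ⟨Additive.ofMul (isUnit_of_mul_isUnit_left hu).unit, Units.ext hb⟩
    let g : M →+ Additive (B ⧸ I)ˣ := MonoidHom.toAdditiveRight
      (((f : MonoidAlgebra (ULift.{u} ℤ) (Multiplicative M) →* B ⧸ I).comp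
        (MonoidAlgebra.of (ULift.{u} ℤ) (Multiplicative M))).toHomUnits)
    obtain ⟨h, hh⟩ := Module.projective_lifting_property π g.toIntLinearMap hπ
    refine ⟨MonoidAlgebra.lift _ B _ ((Units.coeHom B).comp (AddMonoidHom.toMultiplicativeLeft h.toAddMonoidHom)),
      (MonoidAlgebra.lift (ULift.{u} ℤ) (B ⧸ I) (Multiplicative M)).symm.injective (MonoidHom.ext fun m => ?_)⟩
    show Ideal.Quotient.mk I (MonoidAlgebra.lift _ B _ _ (MonoidAlgebra.of _ _ m)) = f (MonoidAlgebra.of _ _ m)
    rw [MonoidAlgebra.lift_of]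
    exact congrArg (fun x => ((Additive.toMul x : (B ⧸ I)ˣ) : B ⧸ I)) (LinearMap.congr_fun hh (Multiplicative.toAdd m))
  haveI : Algebra.FinitePresentation (ULift.{u} ℤ) (MonoidAlgebra (ULift.{u} ℤ) (Multiplicative M)) :=
    Algebra.FinitePresentation.of_finiteType.1 inferInstance
  exact ⟨inferInstance, inferInstance⟩

/-- A point with values in a field whose image lies in that of an immersion lifts. -/
theorem exists_lift_point {Y Z : Over S} {K : Type u} [Field K] (x : Spec (CommRingCat.of K) ⟶ S) (f : Y ⟶ Z)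
    (hf : IsOpenImmersion f.left ∨ IsClosedImmersion f.left) (g : RankOne16.kPt x ⟶ Z)
    (h : g.left (IsLocalRing.closedPoint K) ∈ Set.range f.left) : ∃ d : RankOne16.kPt x ⟶ Y, d ≫ f = g := by
  obtain ⟨y, hy⟩ := h
  let q := pullback.snd f.left g.left
  haveI hs : Surjective q := ⟨fun p => by
    obtain ⟨z, -, hz⟩ := Scheme.Pullback.exists_preimage_pullback (f := f.left) (g := g.left) y
      (IsLocalRing.closedPoint K) hy
    exact ⟨z, Subsingleton.elim (α := PrimeSpectrum K) _ _⟩⟩
  haveI : IsReduced (RankOne16.kPt x).left := inferInstanceAs (IsReduced (Spec (CommRingCat.of K)))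
  haveI : IsIso q := by
    rcases hf with hf | hf
    · haveI : IsOpenImmersion q := MorphismProperty.pullback_snd (P := @IsOpenImmersion) _ _ hf
      haveI : Epi q.base := (TopCat.epi_iff_surjective _).2 hs.surj
      exact IsOpenImmersion.isIso q
    · haveI : IsClosedImmersion q := MorphismProperty.pullback_snd (P := @IsClosedImmersion) _ _ hf
      exact isIso_of_isClosedImmersion_of_surjective q
  have h1 : (inv q ≫ pullback.fst f.left g.left) ≫ f.left = g.left := by
    rw [Category.assoc, pullback.condition]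
    exact IsIso.inv_hom_id_assoc q g.left
  refine ⟨Over.homMk (inv q ≫ pullback.fst f.left g.left) ?_, Over.OverMorphism.ext h1⟩
  rw [← Over.w f, ← Category.assoc, h1, Over.w g]

variable {G : Over S} [GrpObj G] (D : Red.SplitRed G)

theorem smooth_torus : Smooth D.T.hom := by
  let e : D.T ≅ Red.DS S D.M := (Grp.forget _).mapIso D.split
  haveI : Smooth (Red.diag (ULift.{u} ℤ) D.M).hom := by
    show Smooth (Spec.map (CommRingCat.ofHom (algebraMap (ULift.{u} ℤ)
      (MonoidAlgebra (ULift.{u} ℤ) (Multiplicative D.M)))))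
    rw [HasRingHomProperty.Spec_iff (P := @Smooth)]
    exact RingHom.smooth_algebraMap.2 (smooth_groupAlgebra D.M)
  haveI : Smooth (Red.DS S D.M).hom := MorphismProperty.pullback_snd _ _ inferInstance
  haveI : IsIso e.hom.left := inferInstanceAs (IsIso ((Over.forget _).map e.hom))
  rw [← Over.w e.hom]
  infer_instance

theorem smooth_borelDom (m : ℕ) : Smooth (D.T ⊗ RedSub.pow (Red.Ga S) m).hom := by
  haveI := smooth_torus D
  haveI := smooth_pow (S := S) m
  exact inferInstanceAs (Smooth (pullback.fst _ (RedSub.pow _ m).hom ≫ _))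

theorem isClosedImmersion_torus : IsClosedImmersion D.i.left := by
  haveI := D.maximalTorus.1
  haveI := D.maximalTorus.2.1
  exact MTRigid29.isClosedImmersion_of_mono
    (TorPts21.isMultTypeFT_of_isTorus D.maximalTorus.2.2.1) D.reductive.1 D.i

variable {n m : ℕ} (eneg : Fin n → D.idx) (epos : Fin m → D.idx)

/-- The point of the domain of the parametrisation. -/
def mkB {X : Over S} (t : X ⟶ D.T) (z : Fin m → Γ(X.left, ⊤)) : X ⟶ D.T ⊗ RedSub.pow (Red.Ga S) m :=
  lift t (powPt m z)

theorem exists_mkB {X : Over S} (d : X ⟶ D.T ⊗ RedSub.pow (Red.Ga S) m) : ∃ t z, d = mkB D t z :=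
  ⟨d ≫ fst _ _, powFn m (d ≫ snd _ _), by
    rw [mkB, powPt_powFn]
    exact (lift_comp_fst_snd d).symm⟩

theorem mkB_comp {X : Over S} (t : X ⟶ D.T) (z : Fin m → Γ(X.left, ⊤)) :
    mkB D t z ≫ RedSub.borelMap D epos = (t ≫ D.i) * rp D epos z := by
  simp [mkB, RedSub.borelMap, MonObj.comp_mul, rp]

/-- The section of the big cell over the parametrisation. -/
def sec : D.T ⊗ RedSub.pow (Red.Ga S) m ⟶ RedSub.pow (Red.Ga S) n ⊗ (D.T ⊗ RedSub.pow (Red.Ga S) m) :=
  lift (powPt n 0) (𝟙 _)

theorem sec_comp : sec D ≫ RedSub.cellMap D eneg epos = RedSub.borelMap D epos := by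
  have h : powPt (X := D.T ⊗ RedSub.pow (Red.Ga S) m) n 0 ≫
      RedSub.prodMap (Red.Ga S) n (fun k => D.u (eneg k)) = 1 := rp_zero_fn D eneg
  simp [sec, RedSub.cellMap, RedSub.borelMap, MonObj.comp_mul, h]

theorem mono_borelMap [Mono (RedSub.cellMap D eneg epos)] : Mono (RedSub.borelMap D epos) := by
  haveI : Mono (sec D (n := n) (m := m)) := ⟨fun g h e => by
    simpa [sec] using congrArg (fun k => k ≫ snd _ _) e⟩
  rw [← sec_comp D eneg]
  infer_instance

variable (b : D.P.Base) (hneg : RedSub.Enumerates (RedSub.negRoots D.P b) eneg)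
  (hpos : RedSub.Enumerates (RedSub.posRoots D.P b) epos)

include hneg hpos

/-- **The parametrisation of the Borel subgroup is a closed immersion.** -/
theorem isClosedImmersion_borelMap : IsClosedImmersion (RedSub.borelMap D epos).left := by
  haveI := D.maximalTorus.1
  haveI hci := isClosedImmersion_torus D
  haveI hopen := isOpenImmersion_cellMap D b eneg epos hneg hpos
  haveI : IsAffineHom G.hom := D.reductive.1
  haveI : IsSeparated (RedSub.pow (Red.Ga S) n ⊗ (D.T ⊗ RedSub.pow (Red.Ga S) m)).hom := by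
    rw [← Over.w (RedSub.cellMap D eneg epos)]; infer_instance
  haveI hsec : IsClosedImmersion (sec D (n := n) (m := m)).left :=
    RankOne16.isClosedImmersion_of_retraction _ (snd _ _) (by simp [sec])
  have hcomp : (RedSub.borelMap D epos).left = (sec D (n := n)).left ≫ (RedSub.cellMap D eneg epos).left := by
    rw [← Over.comp_left, sec_comp]
  haveI : IsPreimmersion (RedSub.borelMap D epos).left := by rw [hcomp]; infer_instance
  refine IsClosedImmersion.of_isPreimmersion _ (isClosed_of_closure_subset fun p hp => ?_)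
  let cell := RedSub.cellMap D eneg epos
  haveI := D.fintypeIdx
  haveI := isReduced D (G.hom p)
  obtain ⟨nr, hnr⟩ := exists_realises D
  obtain ⟨l, hl⟩ := exists_mem_translate D hnr p eneg epos hneg hpos
  let N := Nw D nr l
  let lt : G ⟶ G := (toUnit G ≫ N) * 𝟙 G
  have hlt : ∀ {X : Over S} (g : X ⟶ G), g ≫ lt = (toUnit X ≫ N) * g := fun g => by
    simp only [lt, MonObj.comp_mul, toUnit_comp, Category.comp_id]
  haveI : IsIso lt := ⟨(toUnit G ≫ N⁻¹) * 𝟙 G, by
    simp only [MonObj.comp_mul, toUnit_comp, Category.comp_id, lt, GrpObj.comp_inv, inv_mul_cancel_left], by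
    rw [hlt, GrpObj.comp_inv, mul_inv_cancel_left]⟩
  haveI : IsIso lt.left := inferInstanceAs (IsIso ((Over.forget _).map lt))
  let trl := (toUnit (RedSub.pow (Red.Ga S) n ⊗ (D.T ⊗ RedSub.pow (Red.Ga S) m)) ≫ N) * cell
  haveI htrl : IsOpenImmersion trl.left := by
    show IsOpenImmersion ((toUnit _ ≫ N) * cell).left
    rw [← hlt cell, Over.comp_left]
    infer_instance
  let Z : Set S := N.left ⁻¹' Set.range D.i.left
  have hZ : IsClosed Z := hci.base_closed.isClosed_range.preimage N.left.continuous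
  have hNval : ∀ {K : Type u} [Field K] (x : Spec (CommRingCat.of K) ⟶ S),
      (toUnit (RankOne16.kPt x) ≫ N).left (IsLocalRing.closedPoint K) = N.left (x (IsLocalRing.closedPoint K)) := by
    intro K _ x
    rw [Over.comp_left, Scheme.Hom.comp_apply]
    refine congrArg N.left ?_
    exact congrArg (fun g : Spec (CommRingCat.of K) ⟶ S => g (IsLocalRing.closedPoint K))
      ((Category.comp_id _).symm.trans (Over.w (toUnit (RankOne16.kPt x))))
  have hπ : G.hom p ∈ Z := by
    by_contra hn
    obtain ⟨p', ⟨hp'W, hp'Z⟩, hp'B⟩ := mem_closure_iff.1 hp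
      (Set.range trl.left ∩ (G.hom ⁻¹' Z)ᶜ)
      (htrl.base_open.isOpen_range.inter (hZ.preimage G.hom.continuous).isOpen_compl) ⟨hl, hn⟩
    obtain ⟨q, hq⟩ := hp'B
    refine hp'Z (show G.hom p' ∈ Z from ?_)
    let g0 := RankOne16.geomHom q
    let X := RankOne16.kPt (Red.geomPt q ≫ (D.T ⊗ RedSub.pow (Red.Ga S) m).hom)
    have hg : (g0 ≫ RedSub.borelMap D epos).left (IsLocalRing.closedPoint _) = p' := by
      rw [Over.comp_left, Scheme.Hom.comp_apply, RankOne16.geomHom_apply, hq]
    obtain ⟨d, hd⟩ := exists_lift_point _ trl (Or.inl htrl) (g0 ≫ RedSub.borelMap D epos) (by rw [hg]; exact hp'W)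
    obtain ⟨y, t', x, rfl⟩ := exists_mkDom D d
    obtain ⟨t, z, ht⟩ := exists_mkB D g0
    have e : (toUnit X ≫ N) * cellPt D eneg epos y t' x = (t ≫ D.i) * rp D epos z := by
      rw [← mkB_comp, ← ht, ← hd, MonObj.comp_mul, toUnit_comp]
      rfl
    obtain ⟨bn, hbn, hbp⟩ := exists_negBase D b
    have hUp : ∀ v : Fin m → Γ(X.left, ⊤), rp D epos v ∈ gens D (RedSub.posRoots D.P b) X := fun v =>
      rp_mem_gens D _ _ fun i => hpos.2 ▸ Set.mem_range_self i
    obtain ⟨v, hv⟩ := exists_coords D b epos hpos.2.ge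
      (torus_conj_gens D t (mul_mem (hUp z) (inv_mem (hUp x))))
    obtain ⟨w, hw⟩ := exists_coords D bn eneg (by rw [hbn]; exact hneg.2.ge)
      (inv_mem (show rp D eneg y ∈ gens D (RedSub.posRoots D.P bn) X by
        rw [hbn]; exact rp_mem_gens D _ _ fun i => hneg.2 ▸ Set.mem_range_self i))
    have e2 : toUnit X ≫ N = cellPt D epos eneg v (t * t'⁻¹) w := by
      rw [cellPt_eq, ← hv, ← hw, MonObj.mul_comp, GrpObj.inv_comp]
      rw [cellPt_eq] at e
      rw [eq_mul_inv_of_mul_eq e]
      group
    obtain ⟨hv0, hw0⟩ := cellPt_mem_torus_of_normalize (b := bn) D epos eneg (by rw [hbp]; exact hpos)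
      (by rw [hbn]; exact hneg) v (t * t'⁻¹) w fun X' e₀ s => by
        obtain ⟨s', hs', -⟩ := nrm_word D nr hnr l X' s
        exact ⟨s', by rw [← e2, toUnit_comp]; exact hs'⟩
    subst hv0 hw0
    rw [cellPt_torus] at e2
    have h3 := congrArg (fun g : X ⟶ G => g.left (IsLocalRing.closedPoint _)) e2
    simp only at h3
    rw [hNval, Over.comp_left, Scheme.Hom.comp_apply] at h3
    refine ⟨_, h3.symm.trans (congrArg N.left ?_)⟩
    rw [← hg, ← Scheme.Hom.comp_apply _ G.hom, Over.w]
    rfl
  -- hence `p` is in the big cell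
  have hp1 : (RankOne16.geomHom p).left (IsLocalRing.closedPoint _) = p := RankOne16.geomHom_apply p _
  obtain ⟨d, hd⟩ := exists_lift_point _ trl (Or.inl htrl) (RankOne16.geomHom p) (by rw [hp1]; exact hl)
  obtain ⟨y, t', x, rfl⟩ := exists_mkDom D d
  obtain ⟨τ, hτ⟩ := exists_lift_point (Red.geomPt p ≫ G.hom) D.i (Or.inr hci) (toUnit _ ≫ N) (by
    rw [hNval, Scheme.Hom.comp_apply, show (Red.geomPt p) (IsLocalRing.closedPoint _) = p from hp1]
    exact hπ)
  have hmem : p ∈ Set.range cell.left := by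
    refine ⟨(mkDom D (fun l => rt D τ (eneg l) * y l) (τ * t') x).left (IsLocalRing.closedPoint _), ?_⟩
    have h4 : RankOne16.geomHom p = mkDom D (fun l => rt D τ (eneg l) * y l) (τ * t') x ≫ cell := by
      show _ = cellPt D eneg epos _ _ _
      rw [← hd, MonObj.comp_mul, toUnit_comp, ← hτ]
      show (τ ≫ D.i) * cellPt D eneg epos y t' x = _
      rw [cellPt_eq, cellPt_eq, ← conj_rp, MonObj.mul_comp]
      group
    have h5 := congrArg (fun g : RankOne16.kPt _ ⟶ G => g.left (IsLocalRing.closedPoint _)) h4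
    simp only at h5
    rw [hp1, Over.comp_left, Scheme.Hom.comp_apply] at h5
    exact h5.symm
  obtain ⟨ω, rfl⟩ := hmem
  have hr : Set.range (RedSub.borelMap D epos).left = cell.left '' Set.range (sec D (n := n)).left := by
    rw [← Set.range_comp, hcomp]; rfl
  rw [hr] at hp ⊢
  refine Set.mem_image_of_mem _ (hsec.base_closed.isClosed_range.closure_subset ?_)
  rw [Topology.IsInducing.closure_eq_preimage_closure_image hopen.base_open.isInducing]
  exact hp

end Groth.Agent.RedCell16
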