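import Groth.Agent.Lib.RankOne16.Gen
import Mathlib.AlgebraicGeometry.Sites.Fpqc

/-!
# Homomorphisms defined on a neighbourhood of the unit section

A morphism on an open neighbourhood of the unit section of a smooth group with connected fibres
that is multiplicative wherever this makes sense extends to a homomorphism.
-/

set_option autoImplicit false
set_option linter.style.haveILetI false
set_option backward.isDefEq.respectTransparency false
set_option backward.isDefEq.respectTransparency.types false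

universe u

open CategoryTheory CategoryTheory.Limits MonoidalCategory CartesianMonoidalCategory MonObj AlgebraicGeometry

noncomputable section

namespace Groth.Agent.RedCell16.Extend

open GrpNeutral20 (hap)

variable {S : Scheme.{u}} {G : Over S} [GrpObj G] (hG : RankOne16.Rig G)

include hG in
/-- Finitely many translates of a neighbourhood of the unit section have a common point over every
point of the base. -/
theorem exists_common (U : G.left.Opens) (hU : ∀ s : S, η[G].left s ∈ U) {X : Over S} {ι' : Type}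
    [Finite ι'] (a : ι' → (X ⟶ G)) (x : X.left) :
    ∃ z : (X ⊗ G).left, (fst X G).left z = x ∧ ∀ i, (snd X G * (fst X G ≫ a i)).left z ∈ U := by
  let K := AlgebraicClosure (X.left.residueField x)
  let yx : Spec (CommRingCat.of K) ⟶ X.left :=
    Spec.map (CommRingCat.ofHom (algebraMap (X.left.residueField x) K)) ≫ X.left.fromSpecResidueField x
  let T : Over S := Over.mk (yx ≫ X.hom)
  let π : T ⟶ X := Over.homMk yx rfl
  haveI : Subsingleton T.left := inferInstanceAs (Subsingleton (PrimeSpectrum K))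
  have sq : IsPullback (snd T G).left (fst T G).left G.hom T.hom := (IsPullback.of_hasPullback T.hom G.hom).flip
  haveI := hG.smooth
  have hC := GrpNeutral20.isIrreducible_preimage G (fun s => GrpNeutral20.lft_fibres G s) (K := K) (y := T.hom) sq
  rw [hG.neutral, Set.preimage_univ] at hC
  let pt : T.left := (IsLocalRing.closedPoint K : Spec (CommRingCat.of K))
  have hπ : π.left pt = x := by
    show (Spec.map (CommRingCat.ofHom (algebraMap (X.left.residueField x) K)) ≫ X.left.fromSpecResidueField x) _ = x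
    rw [Scheme.Hom.comp_apply]
    exact Scheme.fromSpecResidueField_apply x _
  let O : ι' → Set (T ⊗ G).left := fun i => (snd T G * (fst T G ≫ π ≫ a i)).left ⁻¹' U
  have hne : ∀ i, (O i).Nonempty := fun i => by
    refine ⟨(lift (𝟙 T) (π ≫ a i)⁻¹ : T ⟶ T ⊗ G).left pt, ?_⟩
    show (snd T G * (fst T G ≫ π ≫ a i)).left _ ∈ U
    rw [← hap, MonObj.comp_mul, lift_snd, lift_fst_assoc, Category.id_comp, inv_mul_cancel,
      Hom.one_def, hap]
    exact hU _
  haveI := Fintype.ofFinite ι'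
  have key : ∀ s : Finset ι', (Set.univ ∩ ⋂ i ∈ s, O i).Nonempty := by
    intro s
    induction s using Finset.cons_induction with
    | empty => simpa using hC.1
    | cons i s hi ih =>
      have h2 := hC.2 (O i) (⋂ j ∈ s, O j) (U.isOpen.preimage (Scheme.Hom.continuous _))
        (s.finite_toSet.isOpen_biInter fun j _ => U.isOpen.preimage (Scheme.Hom.continuous _))
        ⟨_, trivial, (hne i).choose_spec⟩ ih
      simpa [Finset.cons_eq_insert, Finset.set_biInter_insert] using h2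
  obtain ⟨z, -, hz⟩ := key Finset.univ
  refine ⟨(π ▷ G).left z, ?_, fun i => ?_⟩
  · rw [← hap, whiskerRight_fst, hap, Subsingleton.elim ((fst T G).left z) pt, hπ]
  · rw [← hap, MonObj.comp_mul, whiskerRight_snd, whiskerRight_fst_assoc]
    exact Set.mem_iInter₂.1 hz i (Finset.mem_univ i)

variable {Ω : Over S} (j : Ω ⟶ G)

/-- The point lands in the open. -/
def InO {X : Over S} (g : X ⟶ G) : Prop := ∀ p, g.left p ∈ Set.range j.left

variable {j}

theorem InO.comp {X Y : Over S} (π : Y ⟶ X) {g : X ⟶ G} (h : InO j g) : InO j (π ≫ g) := fun p => by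
  rw [hap]; exact h _

variable [IsOpenImmersion j.left] (hη : ∀ s : S, η[G].left s ∈ Set.range j.left)

include hG hη in
/-- After an fppf cover, finitely many points have a common translate into the open. -/
theorem exists_translate {X : Over S} {ι' : Type} [Finite ι'] (a : ι' → (X ⟶ G)) :
    ∃ (X' : Over S) (e : X' ⟶ X) (w : X' ⟶ G), Epi e ∧ Flat e.left ∧
      LocallyOfFinitePresentation e.left ∧ Surjective e.left ∧ ∀ i, InO j (w * (e ≫ a i)) := by
  haveI := hG.smooth
  let W : (X ⊗ G).left.Opens :=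
    ⟨⋂ i, (snd X G * (fst X G ≫ a i)).left ⁻¹' Set.range j.left,
      isOpen_iInter_of_finite fun i => j.left.opensRange.isOpen.preimage (Scheme.Hom.continuous _)⟩
  let X' : Over S := Over.mk (W.ι ≫ (X ⊗ G).hom)
  let inc : X' ⟶ X ⊗ G := Over.homMk W.ι
  haveI : IsOpenImmersion inc.left := inferInstanceAs (IsOpenImmersion W.ι)
  haveI : Smooth (fst X G).left := inferInstanceAs (Smooth (pullback.fst X.hom G.hom))
  haveI hsurj : Surjective (inc ≫ fst X G).left := ⟨fun x => by
    obtain ⟨z, h1, h2⟩ := exists_common hG j.left.opensRange hη a x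
    exact ⟨⟨z, Set.mem_iInter.2 h2⟩, (hap inc (fst X G) _).trans h1⟩⟩
  haveI : Flat (inc ≫ fst X G).left := by rw [Over.comp_left]; infer_instance
  haveI : Epi (inc ≫ fst X G).left := Flat.epi_of_flat_of_surjective _
  refine ⟨X', inc ≫ fst X G, inc ≫ snd X G, Over.epi_of_epi_left _, inferInstance,
    by rw [Over.comp_left]; infer_instance, hsurj, fun i p => ?_⟩
  rw [Category.assoc, ← MonObj.comp_mul, hap]
  exact Set.mem_iInter.1 p.2 i

/-- The point of the open under a point of the group. -/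
def lo {X : Over S} (g : X ⟶ G) (h : InO j g) : X ⟶ Ω :=
  Over.homMk (IsOpenImmersion.lift j.left g.left (by rintro _ ⟨p, rfl⟩; exact h p)) (by
    rw [← Over.w j, ← Category.assoc, IsOpenImmersion.lift_fac, Over.w g])

theorem lo_fac {X : Over S} (g : X ⟶ G) (h : InO j g) : lo g h ≫ j = g :=
  Over.OverMorphism.ext (by rw [Over.comp_left]; exact IsOpenImmersion.lift_fac _ _ _)

theorem eq_lo {X : Over S} (z : X ⟶ Ω) (g : X ⟶ G) (h : InO j g) (e : z ≫ j = g) : z = lo g h := by
  haveI : Mono j := Over.mono_of_mono_left _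
  rw [← cancel_mono j, lo_fac, e]

variable {H : Over S} [GrpObj H] (f : Ω ⟶ H)
  (hf : ∀ (X : Over S) (x y z : X ⟶ Ω), z ≫ j = (x ≫ j) * (y ≫ j) → z ≫ f = (x ≫ f) * (y ≫ f))

/-- The value on a point of the open. -/
def val {X : Over S} (g : X ⟶ G) (h : InO j g) : X ⟶ H := lo g h ≫ f

include hf in
theorem val_mul {X : Over S} {a b c : X ⟶ G} (ha : InO j a) (hb : InO j b) (hc : InO j c) (e : a * b = c) :
    val f c hc = val f a ha * val f b hb :=
  hf X _ _ _ (by rw [lo_fac, lo_fac, lo_fac, e])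

theorem comp_val {X Y : Over S} (π : Y ⟶ X) (g : X ⟶ G) (h : InO j g) :
    π ≫ val f g h = val f (π ≫ g) (h.comp π) := by
  rw [val, ← Category.assoc, val, eq_lo (π ≫ lo g h) (π ≫ g) (h.comp π) (by rw [Category.assoc, lo_fac])]

theorem val_congr {X : Over S} {g g' : X ⟶ G} (h : InO j g) (e : g = g') :
    val f g h = val f g' (e ▸ h) := by
  subst e; rfl

/-- The candidate value at `g`, computed with the auxiliary point `w`. -/
def Q {X : Over S} (g w : X ⟶ G) (h : InO j w) (h' : InO j (w * g)) : X ⟶ H :=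
  (val f w h)⁻¹ * val f (w * g) h'

theorem comp_Q {X Y : Over S} (π : Y ⟶ X) (g w : X ⟶ G) (h : InO j w) (h' : InO j (w * g)) :
    π ≫ Q f g w h h' =
      Q f (π ≫ g) (π ≫ w) (h.comp π) (by rw [← MonObj.comp_mul]; exact h'.comp π) := by
  rw [Q, Q, MonObj.comp_mul, GrpObj.comp_inv, comp_val, comp_val, val_congr f (h'.comp π) (MonObj.comp_mul π w g)]

include hf in
theorem Q_eq_of_translate {X : Over S} (g w u : X ⟶ G) (h : InO j w) (h' : InO j (w * g)) (hu : InO j u)
    (hu' : InO j (u * g)) (hd : InO j (u * w⁻¹)) : Q f g u hu hu' = Q f g w h h' := by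
  rw [Q, Q, val_mul f hf hd h hu (inv_mul_cancel_right u w),
    val_mul f hf hd h' hu' (by group), mul_inv_rev, _root_.mul_assoc, inv_mul_cancel_left]

include hG hη hf in
theorem Q_indep {X : Over S} (g w w' : X ⟶ G) (h : InO j w) (h' : InO j (w * g)) (k : InO j w')
    (k' : InO j (w' * g)) : Q f g w h h' = Q f g w' k k' := by
  obtain ⟨X', e, u, he, -, -, -, hu⟩ := exists_translate hG hη ![1, g, w⁻¹, w'⁻¹]
  haveI := he
  rw [← cancel_epi e, comp_Q, comp_Q]
  have h0 : InO j u := by simpa [MonObj.comp_one] using hu 0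
  have h1 : InO j (u * (e ≫ g)) := hu 1
  have h2 : InO j (u * (e ≫ w)⁻¹) := by rw [← GrpObj.comp_inv]; exact hu 2
  have h3 : InO j (u * (e ≫ w')⁻¹) := by rw [← GrpObj.comp_inv]; exact hu 3
  exact (Q_eq_of_translate f hf _ _ _ _ _ h0 h1 h2).symm.trans (Q_eq_of_translate f hf _ _ _ _ _ h0 h1 h3)

include hG hη hf in
theorem Q_congr {X : Over S} {a b : X ⟶ G} (e : a = b) (w₁ w₂ : X ⟶ G) (h₁ : InO j w₁) (h₁' : InO j (w₁ * a))
    (h₂ : InO j w₂) (h₂' : InO j (w₂ * b)) : Q f a w₁ h₁ h₁' = Q f b w₂ h₂ h₂' := by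
  subst e; exact Q_indep hG hη f hf a w₁ w₂ h₁ h₁' h₂ h₂'

omit [GrpObj G] [GrpObj H] in
/-- Descent of a morphism along an fppf cover. -/
theorem exists_desc {A B C : Over S} (e : A ⟶ B) [Flat e.left] [LocallyOfFinitePresentation e.left]
    [Surjective e.left] (φ : A ⟶ C)
    (h : ∀ (Z : Over S) (p q : Z ⟶ A), p ≫ e = q ≫ e → p ≫ φ = q ≫ φ) : ∃ F : B ⟶ C, e ≫ F = φ := by
  have hc : ∀ {Z : Scheme.{u}} (g₁ g₂ : Z ⟶ A.left), g₁ ≫ e.left = g₂ ≫ e.left →
      g₁ ≫ φ.left = g₂ ≫ φ.left := fun {Z} g₁ g₂ hg => by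
    let p₁ : Over.mk (g₁ ≫ A.hom) ⟶ A := Over.homMk g₁ rfl
    let p₂ : Over.mk (g₁ ≫ A.hom) ⟶ A := Over.homMk g₂ (by
      show g₂ ≫ A.hom = g₁ ≫ A.hom
      rw [← Over.w e, ← reassoc_of% hg])
    have hp : p₁ ≫ e = p₂ ≫ e := Over.OverMorphism.ext (by simp [p₁, p₂, hg])
    simpa [p₁, p₂] using congrArg CommaMorphism.left (h _ p₁ p₂ hp)
  refine ⟨Over.homMk (EffectiveEpi.desc e.left φ.left hc) (by
    rw [← cancel_epi e.left, EffectiveEpi.fac_assoc, Over.w φ, Over.w e]), Over.OverMorphism.ext ?_⟩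
  simp [EffectiveEpi.fac]

omit [GrpObj G] in
/-- After a cover a point lifts along an fppf cover. -/
theorem exists_cover_pt {A B X : Over S} (e : A ⟶ B) [Flat e.left] [Surjective e.left] (g : X ⟶ B) :
    ∃ (P : Over S) (π : P ⟶ X) (q : P ⟶ A), Epi π ∧ π ≫ g = q ≫ e := by
  let π : Over.mk (pullback.fst g.left e.left ≫ X.hom) ⟶ X := Over.homMk (pullback.fst g.left e.left) rfl
  haveI : Flat π.left := inferInstanceAs (Flat (pullback.fst g.left e.left))
  haveI : Surjective π.left := inferInstanceAs (Surjective (pullback.fst g.left e.left))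
  haveI : Epi π.left := Flat.epi_of_flat_of_surjective _
  exact ⟨_, π, Over.homMk (pullback.snd g.left e.left) (by
      show pullback.snd g.left e.left ≫ A.hom = pullback.fst g.left e.left ≫ X.hom
      rw [← Over.w e, ← Over.w g, ← pullback.condition_assoc]),
    Over.epi_of_epi_left _, Over.OverMorphism.ext pullback.condition⟩

include hG hη hf in
theorem exists_fun : ∃ F : G ⟶ H, ∀ {X : Over S} (g v : X ⟶ G) (h : InO j v) (h' : InO j (v * g)),
    g ≫ F = Q f g v h h' := by
  obtain ⟨X', e, w, -, hfl, hlfp, hs, hw⟩ := exists_translate hG hη ![1, 𝟙 G]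
  haveI := hfl; haveI := hlfp; haveI := hs
  have hw0 : InO j w := by simpa [MonObj.comp_one] using hw 0
  have hw1 : InO j (w * e) := by simpa using hw 1
  obtain ⟨F, hF⟩ := exists_desc e (Q f e w hw0 hw1) fun Z p q hpq => by
    rw [comp_Q, comp_Q]; exact Q_congr hG hη f hf hpq _ _ _ _ _ _
  refine ⟨F, fun {X} g v h h' => ?_⟩
  obtain ⟨P, π, q, hπ, hq⟩ := exists_cover_pt e g
  haveI := hπ
  rw [← cancel_epi π, reassoc_of% hq, hF, comp_Q, comp_Q]
  exact Q_congr hG hη f hf hq.symm _ _ _ _ _ _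

theorem Q_def {X : Over S} (g w : X ⟶ G) (h : InO j w) (h' : InO j (w * g)) :
    Q f g w h h' = (val f w h)⁻¹ * val f (w * g) h' := rfl

theorem key_alg {X : Over S} (A B C D : X ⟶ H) (hCD : C = D) : A⁻¹ * B * (B⁻¹ * C) = A⁻¹ * D := by
  rw [hCD, _root_.mul_assoc, mul_inv_cancel_left]

theorem step_val {X : Over S} (g h v : X ⟶ G) (v2 : InO j (v * (g * h))) (v2' : InO j (v * g * h)) :
    val f (v * g * h) v2' = val f (v * (g * h)) v2 := by
  have : ∀ (a b : X ⟶ G) (ha : InO j a) (hb : InO j b), a = b → val f a ha = val f b hb := by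
    intro a b ha hb e; subst e; rfl
  exact this _ _ v2' v2 (_root_.mul_assoc v g h)

theorem Q_mul {X : Over S} (g h v : X ⟶ G) (v0 : InO j v) (v1 : InO j (v * g)) (v2 : InO j (v * (g * h)))
    (v2' : InO j (v * g * h)) :
    Q f g v v0 v1 * Q f h (v * g) v1 v2' = Q f (g * h) v v0 v2 :=
  (congrArg₂ (· * ·) (Q_def f g v v0 v1) (Q_def f h (v * g) v1 v2')).trans
    ((key_alg _ _ _ _ (step_val f g h v v2 v2')).trans (Q_def f (g * h) v v0 v2).symm)

include hG hη in
theorem map_mul (F : G ⟶ H) (key : ∀ {X : Over S} (g v : X ⟶ G) (h : InO j v) (h' : InO j (v * g)),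
    g ≫ F = Q f g v h h') {X : Over S} (g h : X ⟶ G) : (g * h) ≫ F = (g ≫ F) * (h ≫ F) := by
  obtain ⟨Y, π, v, hπ, -, -, -, hv⟩ := exists_translate hG hη ![1, g, g * h]
  haveI := hπ
  have v0 : InO j v := by simpa [MonObj.comp_one] using hv (0 : Fin 3)
  have v1 : InO j (v * (π ≫ g)) := hv (1 : Fin 3)
  have v2 : InO j (v * ((π ≫ g) * (π ≫ h))) := (MonObj.comp_mul π g h) ▸ (hv (2 : Fin 3) : InO j (v * (π ≫ (g * h))))
  have v2' : InO j (v * (π ≫ g) * (π ≫ h)) := (_root_.mul_assoc v (π ≫ g) (π ≫ h)).symm ▸ v2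
  rw [← cancel_epi π]
  calc π ≫ (g * h) ≫ F = ((π ≫ g) * (π ≫ h)) ≫ F := by rw [← Category.assoc, MonObj.comp_mul]
    _ = Q f ((π ≫ g) * (π ≫ h)) v v0 v2 := key _ v v0 v2
    _ = Q f (π ≫ g) v v0 v1 * Q f (π ≫ h) (v * (π ≫ g)) v1 v2' := (Q_mul f _ _ v v0 v1 v2 v2').symm
    _ = ((π ≫ g) ≫ F) * ((π ≫ h) ≫ F) := by rw [key _ v v0 v1, key _ (v * (π ≫ g)) v1 v2']
    _ = π ≫ ((g ≫ F) * (h ≫ F)) := by rw [MonObj.comp_mul, Category.assoc, Category.assoc]

include hG hη hf in
/-- **A morphism multiplicative on a neighbourhood of the unit section extends to a homomorphism.** -/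
theorem exists_hom : ∃ F : G ⟶ H, IsMonHom F ∧ j ≫ F = f := by
  obtain ⟨F, key⟩ := exists_fun hG hη f hf
  have hmul : ∀ {X : Over S} (g h : X ⟶ G), (g * h) ≫ F = (g ≫ F) * (h ≫ F) :=
    fun g h => map_mul hG hη f F key g h
  have hmap : μ[G] ≫ F = (F ⊗ₘ F) ≫ μ[H] := by
    rw [show (μ[G] : G ⊗ G ⟶ G) = fst G G * snd G G by simp [Hom.mul_def], hmul,
      show (μ[H] : H ⊗ H ⟶ H) = fst H H * snd H H by simp [Hom.mul_def], MonObj.comp_mul,
      tensorHom_fst, tensorHom_snd]
  have h1 : (1 : 𝟙_ (Over S) ⟶ G) ≫ F = 1 := by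
    have := hmul (1 : 𝟙_ (Over S) ⟶ G) 1
    rw [_root_.one_mul] at this
    exact mul_left_cancel (this.symm.trans (_root_.mul_one _).symm)
  have hone : η[G] ≫ F = η[H] := by simpa [Hom.one_def] using h1
  refine ⟨F, { one_hom := hone, mul_hom := hmap }, ?_⟩
  obtain ⟨Y, π, v, hπ, -, -, -, hv⟩ := exists_translate hG hη ![1, j]
  haveI := hπ
  have v0 : InO j v := by simpa [MonObj.comp_one] using hv 0
  have v1 : InO j (v * (π ≫ j)) := hv 1
  have hj : InO j (π ≫ j) := fun p => ⟨π.left p, (hap π j p).symm⟩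
  rw [← cancel_epi π, ← Category.assoc, key _ v v0 v1, Q, val_mul f hf v0 hj v1 rfl, inv_mul_cancel_left,
    val, ← eq_lo π (π ≫ j) hj rfl]

end Groth.Agent.RedCell16.Extend
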