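import Groth.Agent.Lib.RedCell16.Bruhat

/-!
# Bruhat cells and translates of the big cell
-/

set_option autoImplicit false
set_option linter.style.haveILetI false
set_option linter.unusedSimpArgs false
set_option linter.unusedSectionVars false
set_option backward.isDefEq.respectTransparency false
set_option backward.isDefEq.respectTransparency.types false

universe u

open CategoryTheory CategoryTheory.Limits MonoidalCategory CartesianMonoidalCategory MonObj AlgebraicGeometry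

noncomputable section

namespace Groth.Agent.RedCell16

open DiagGL RootDLib
open RankOne (P A)

variable {S : Scheme.{u}} {G : Over S} [GrpObj G] (D : Red.SplitRed G) {b : D.P.Base}
  {nr : D.idx → (𝟙_ (Over S) ⟶ G)}

theorem mkDom_comp_bruhat {X : Over S} {k m : ℕ} (e : Fin k → D.idx) (epos : Fin m → D.idx) (l : List D.idx)
    (y : Fin k → Γ(X.left, ⊤)) (t : X ⟶ D.T) (z : Fin m → Γ(X.left, ⊤)) :
    mkDom D y t z ≫ RedSub.bruhatMap D nr l e epos = rp D e y * ((toUnit X ≫ Nw D nr l) * ((t ≫ D.i) * rp D epos z)) := by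
  rw [mkDom, RedSub.bruhatMap]
  simp only [MonObj.comp_mul, lift_fst_assoc, lift_snd_assoc, rp, toUnit_comp]

theorem cancel_torus {X : Over S} {s' s τ : X ⟶ D.T} (b : D.P.Base)
    (h : (τ ≫ D.i) * (s ≫ D.i) * (τ ≫ D.i)⁻¹ = s' ≫ D.i) : s' = s := by
  haveI := D.maximalTorus.1
  obtain ⟨n, m, eneg, epos, hneg, hpos⟩ := exists_enum D b
  have h' : cellPt D eneg epos 0 s' 0 = cellPt D eneg epos 0 s 0 := by
    rw [cellPt_torus, cellPt_torus, ← h, mul_inv_eq_iff_eq_mul, ← MonObj.mul_comp, ← MonObj.mul_comp, torus_comm D]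
  exact (cellPt_inj D eneg epos hneg hpos h').2.1

theorem mem_posRoots_of_meet {l : List D.idx} {c : D.idx} [D.P.IsReduced]
    (hc : c ∈ RedSub.negRoots D.P b \ RedSub.negMeetNeg D.P b (RedSub.wordPerm D.P l)) :
    (wprod D.P l)⁻¹ • c ∈ RedSub.posRoots D.P b := by
  haveI := D.fintypeIdx
  by_contra h
  refine hc.2 ⟨hc.1, ?_⟩
  rw [← Equiv.Perm.inv_def, RootComb21.wordPerm_inv_apply]
  exact (RootComb21.mem_negRoots_iff b _).2 h

variable [D.P.IsReduced] (hnr : RedSub.RealisesReflections D nr)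

include hnr

/-- Conjugating through the word. -/
theorem conj_word_mem (l : List D.idx) {X : Over S} {R R' : Set D.idx}
    (h : ∀ c ∈ R, (wprod D.P l)⁻¹ • c ∈ R') (b₀ : D.P.Base) {w : X ⟶ G} (hw : w ∈ gens D R X) :
    (toUnit X ≫ Nw D nr l)⁻¹ * w * (toUnit X ≫ Nw D nr l) ∈ gens D R' X := by
  have := conj_gens D (toUnit X ≫ Nw D nr l)⁻¹ (gens D R' X) (fun d hd a => by
    obtain ⟨ν, hν⟩ := (nrm_word D nr hnr l).inv.cj_P D b₀ d
    have h1 := hν X a
    rw [GrpObj.comp_inv] at h1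
    show cj _ _ ∈ _
    rw [h1]
    exact P_mem_gens D (h d hd) _) hw
  rwa [_root_.inv_inv] at this

/-- A point of a cell has coordinates. -/
theorem exists_bruhat_pt {X : Over S} {l : List D.idx} {g : X ⟶ G} (hg : InC D b nr X l g) {k m : ℕ}
    (e : Fin k → D.idx) (he : RedSub.Enumerates (RedSub.negMeetNeg D.P b (RedSub.wordPerm D.P l)) e)
    (epos : Fin m → D.idx) (hpos : RedSub.Enumerates (RedSub.posRoots D.P b) epos) :
    ∃ d : X ⟶ RedSub.pow (Red.Ga S) k ⊗ (D.T ⊗ RedSub.pow (Red.Ga S) m),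
      d ≫ RedSub.bruhatMap D nr l e epos = g := by
  haveI := D.maximalTorus.1
  obtain ⟨u, hu, t, z, hz, rfl⟩ := hg
  obtain ⟨bn, hbn, -⟩ := exists_negBase D b
  set M := RedSub.negMeetNeg D.P b (RedSub.wordPerm D.P l) with hM
  have hMsub : M ⊆ RedSub.negRoots D.P b := fun c hc => hc.1
  obtain ⟨k₂, e₂, he₂⟩ := exists_enum_set D (RedSub.negRoots D.P b \ M)
  obtain ⟨v, hv⟩ := exists_coords D bn (Fin.append e e₂) (by
    rw [hbn]
    intro c hc
    by_cases hcM : c ∈ M
    · obtain ⟨i, rfl⟩ := he.2.symm ▸ hcM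
      exact ⟨Fin.castAdd k₂ i, Fin.append_left _ _ i⟩
    · obtain ⟨i, rfl⟩ := he₂.2.symm ▸ (show c ∈ RedSub.negRoots D.P b \ M from ⟨hc, hcM⟩)
      exact ⟨Fin.natAdd k i, Fin.append_right _ _ i⟩) (by rw [hbn]; exact hu)
  rw [rp_append] at hv
  set v₂ := rp D e₂ fun i => v (Fin.natAdd k i) with hv₂
  have h2 : (toUnit X ≫ Nw D nr l)⁻¹ * v₂ * (toUnit X ≫ Nw D nr l) ∈ Up D b X :=
    conj_word_mem D hnr l (R := RedSub.negRoots D.P b \ M) (fun c hc => mem_posRoots_of_meet D hc) b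
      (rp_mem_gens D _ _ fun i => he₂.2 ▸ Set.mem_range_self i)
  have h3 := torus_conj_gens D t⁻¹ h2
  rw [GrpObj.inv_comp, _root_.inv_inv] at h3
  obtain ⟨z', hz'⟩ := exists_coords D b epos hpos.2.ge (Subgroup.mul_mem _ h3 hz)
  refine ⟨mkDom D (fun i => v (Fin.castAdd k₂ i)) t z', ?_⟩
  rw [mkDom_comp_bruhat, ← hz', hv]
  group

/-- A cell lies in the translate of the big cell. -/
theorem exists_translate {X : Over S} {l : List D.idx} {g : X ⟶ G} (hg : InC D b nr X l g) {n m : ℕ}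
    (eneg : Fin n → D.idx) (epos : Fin m → D.idx) (hneg : RedSub.Enumerates (RedSub.negRoots D.P b) eneg)
    (hpos : RedSub.Enumerates (RedSub.posRoots D.P b) epos) :
    ∃ d : X ⟶ RedSub.pow (Red.Ga S) n ⊗ (D.T ⊗ RedSub.pow (Red.Ga S) m),
      g = (toUnit X ≫ Nw D nr l) * (d ≫ RedSub.cellMap D eneg epos) := by
  obtain ⟨k, e, he⟩ := exists_enum_set D (RedSub.negMeetNeg D.P b (RedSub.wordPerm D.P l))
  obtain ⟨d, rfl⟩ := exists_bruhat_pt D hnr hg e he epos hpos
  obtain ⟨y, t, z, rfl⟩ := exists_mkDom D d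
  rw [mkDom_comp_bruhat]
  obtain ⟨bn, hbn, -⟩ := exists_negBase D b
  have h1 : (toUnit X ≫ Nw D nr l)⁻¹ * rp D e y * (toUnit X ≫ Nw D nr l) ∈ Um D b X :=
    conj_word_mem D hnr l (R := RedSub.negMeetNeg D.P b (RedSub.wordPerm D.P l)) (fun c hc => by
      have := hc.2
      rwa [← Equiv.Perm.inv_def, RootComb21.wordPerm_inv_apply] at this) b
      (rp_mem_gens D _ _ fun i => he.2 ▸ Set.mem_range_self i)
  obtain ⟨y', hy'⟩ := exists_coords D bn eneg (by rw [hbn]; exact hneg.2.ge) (by rw [hbn]; exact h1)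
  refine ⟨mkDom D y' t z, ?_⟩
  show _ = _ * cellPt D eneg epos y' t z
  rw [cellPt_eq, ← hy']
  group

/-- A point of the domain gives a point of the cell. -/
theorem inC_of_pt {X : Over S} {l : List D.idx} {k m : ℕ} (e : Fin k → D.idx)
    (he : RedSub.Enumerates (RedSub.negMeetNeg D.P b (RedSub.wordPerm D.P l)) e) (epos : Fin m → D.idx)
    (hpos : RedSub.Enumerates (RedSub.posRoots D.P b) epos)
    (d : X ⟶ RedSub.pow (Red.Ga S) k ⊗ (D.T ⊗ RedSub.pow (Red.Ga S) m)) :
    InC D b nr X l (d ≫ RedSub.bruhatMap D nr l e epos) := by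
  obtain ⟨y, t, z, rfl⟩ := exists_mkDom D d
  exact ⟨rp D e y, rp_mem_gens D _ _ (fun i => ((he.2 ▸ Set.mem_range_self i : e i ∈ RedSub.negMeetNeg D.P b (RedSub.wordPerm D.P l))).1), t, rp D epos z,
    rp_mem_gens D _ _ (fun i => hpos.2 ▸ Set.mem_range_self i), by rw [mkDom_comp_bruhat]; group⟩

/-- **The cells on geometric points are disjoint.** -/
theorem inC_unique {K : Type u} [Field K] [IsAlgClosed K] (x : Spec (CommRingCat.of K) ⟶ S) {l l' : List D.idx}
    {g : RankOne16.kPt x ⟶ G} (h : InC D b nr _ l g) (h' : InC D b nr _ l' g) :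
    RedSub.wordPerm D.P l = RedSub.wordPerm D.P l' := by
  haveI := D.maximalTorus.1
  haveI := D.fintypeIdx
  obtain ⟨u, hu, t, z, hz, rfl⟩ := h
  obtain ⟨u', hu', t', z', hz', e⟩ := h'
  obtain ⟨n, m, eneg, epos, hneg, hpos⟩ := exists_enum D b
  -- the second word is in the cell of the first
  have h1 : InC D b nr (RankOne16.kPt x) l (toUnit (RankOne16.kPt x) ≫ Nw D nr l') := by
    refine ⟨u'⁻¹ * u, Subgroup.mul_mem _ (Subgroup.inv_mem _ hu') hu, t * t'⁻¹,
      (t' ≫ D.i) * (z * z'⁻¹) * (t' ≫ D.i)⁻¹,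
      torus_conj_gens D t' (Subgroup.mul_mem _ hz (Subgroup.inv_mem _ hz')), ?_⟩
    have e2 : toUnit (RankOne16.kPt x) ≫ Nw D nr l' = u'⁻¹ * (u * (toUnit (RankOne16.kPt x) ≫ Nw D nr l) * ((t ≫ D.i) * z)) * ((t' ≫ D.i) * z')⁻¹ := by
      rw [e]; group
    rw [e2, MonObj.mul_comp, GrpObj.inv_comp]
    group
  obtain ⟨d, hd⟩ := exists_translate D hnr h1 eneg epos hneg hpos
  obtain ⟨y, τ, w, rfl⟩ := exists_mkDom D d
  have hN := ((nrm_word D nr hnr l).inv.mul (nrm_word D nr hnr l'))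
  have hc : cellPt D eneg epos y τ w = toUnit (RankOne16.kPt x) ≫ ((Nw D nr l)⁻¹ * Nw D nr l') := by
    rw [MonObj.comp_mul, GrpObj.comp_inv, hd]
    show _ = _ * (_ * cellPt D eneg epos y τ w)
    group
  obtain ⟨hy, hw⟩ := cellPt_mem_torus_of_normalize D eneg epos hneg hpos y τ w fun X' e₀ s => by
    obtain ⟨s', hs', -⟩ := hN X' s
    exact ⟨s', by rw [hc, toUnit_comp, hs']⟩
  subst hy hw
  rw [cellPt_torus] at hc
  -- so it acts trivially on the characters
  have hfix : ∀ (s : (RankOne16.kPt x) ⟶ D.T) (c : D.M), (chars D).ch s (Multiplicative.ofAdd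
      (((wprod D.P l)⁻¹ * wprod D.P l')⁻¹ • c)) = (chars D).ch s (Multiplicative.ofAdd c) := fun s c => by
    obtain ⟨s', hs', e'⟩ := hN (RankOne16.kPt x) s
    rw [← hc] at hs'
    rw [← e', show s' = s from (cancel_torus D b hs')]
  suffices hv : ((wprod D.P l)⁻¹ * wprod D.P l')⁻¹ = 1 by
    rw [inv_eq_one, inv_mul_eq_one] at hv
    ext a
    rw [RootComb21.wordPerm_apply, RootComb21.wordPerm_apply, hv]
  refine aut_ext fun c => ?_
  rw [one_smul]
  set c' := ((wprod D.P l)⁻¹ * wprod D.P l')⁻¹ • c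
  apply D.P.toLinearMap.toPerfPair.injective
  refine LinearMap.ext fun r => ?_
  by_contra hne
  let ℓ : D.M →+ ℤ := (D.P.toLinearMap.flip r).toAddMonoidHom
  obtain ⟨v, hv⟩ := RankOne16.exists_zpow_ne_one x (ℓ c' - ℓ c) (sub_ne_zero.2 hne)
  obtain ⟨s, hs⟩ := exists_tor D (X := RankOne16.kPt x) ℓ v
  refine hv ?_
  have h2 := hfix s c
  rw [hs, hs] at h2
  rw [zpow_sub, Units.ext h2, _root_.mul_inv_cancel]

/-- Every point of `G` lies in the image of a cell. -/
theorem exists_mem_bruhat (p : G.left) {m : ℕ} (epos : Fin m → D.idx)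
    (hpos : RedSub.Enumerates (RedSub.posRoots D.P b) epos) :
    ∃ (l : List D.idx) (k : ℕ) (e : Fin k → D.idx),
      RedSub.Enumerates (RedSub.negMeetNeg D.P b (RedSub.wordPerm D.P l)) e ∧
        p ∈ Set.range (RedSub.bruhatMap D nr l e epos).left.base := by
  obtain ⟨l, hl⟩ := cov_all D b nr hnr (Red.geomPt p ≫ G.hom) (RankOne16.geomHom p)
  obtain ⟨k, e, he⟩ := exists_enum_set D (RedSub.negMeetNeg D.P b (RedSub.wordPerm D.P l))
  obtain ⟨d, hd⟩ := exists_bruhat_pt D hnr hl e he epos hpos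
  refine ⟨l, k, e, he, d.left (IsLocalRing.closedPoint _), ?_⟩
  have h := congrArg (fun f : RankOne16.kPt (Red.geomPt p ≫ G.hom) ⟶ G => f.left (IsLocalRing.closedPoint _)) hd
  simp only [Over.comp_left, Scheme.Hom.comp_apply] at h
  rw [h, RankOne16.geomHom_apply]

/-- Every point of `G` lies in a translate of the big cell. -/
theorem exists_mem_translate (p : G.left) {n m : ℕ} (eneg : Fin n → D.idx) (epos : Fin m → D.idx)
    (hneg : RedSub.Enumerates (RedSub.negRoots D.P b) eneg) (hpos : RedSub.Enumerates (RedSub.posRoots D.P b) epos) :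
    ∃ l : List D.idx, p ∈ Set.range ((toUnit _ ≫ Nw D nr l) * RedSub.cellMap D eneg epos).left.base := by
  obtain ⟨l, hl⟩ := cov_all D b nr hnr (Red.geomPt p ≫ G.hom) (RankOne16.geomHom p)
  obtain ⟨d, hd⟩ := exists_translate D hnr hl eneg epos hneg hpos
  refine ⟨l, d.left (IsLocalRing.closedPoint _), ?_⟩
  have h0 : d ≫ ((toUnit _ ≫ Nw D nr l) * RedSub.cellMap D eneg epos) = RankOne16.geomHom p := by
    rw [MonObj.comp_mul, toUnit_comp, hd]
  have h := congrArg (fun f : RankOne16.kPt (Red.geomPt p ≫ G.hom) ⟶ G => f.left (IsLocalRing.closedPoint _)) h0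
  simp only [Over.comp_left, Scheme.Hom.comp_apply] at h
  rw [h, RankOne16.geomHom_apply]

/-- The images of cells of different Weyl group elements are disjoint. -/
theorem wordPerm_eq_of_mem {l l' : List D.idx} {k k' m : ℕ} (e : Fin k → D.idx) (e' : Fin k' → D.idx)
    (epos : Fin m → D.idx) (hpos : RedSub.Enumerates (RedSub.posRoots D.P b) epos)
    (he : RedSub.Enumerates (RedSub.negMeetNeg D.P b (RedSub.wordPerm D.P l)) e)
    (he' : RedSub.Enumerates (RedSub.negMeetNeg D.P b (RedSub.wordPerm D.P l')) e') {p : G.left}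
    (h : p ∈ Set.range (RedSub.bruhatMap D nr l e epos).left.base)
    (h' : p ∈ Set.range (RedSub.bruhatMap D nr l' e' epos).left.base) :
    RedSub.wordPerm D.P l = RedSub.wordPerm D.P l' := by
  obtain ⟨d, hd⟩ := h
  obtain ⟨d', hd'⟩ := h'
  set f := RedSub.bruhatMap D nr l e epos
  set f' := RedSub.bruhatMap D nr l' e' epos
  obtain ⟨q, -, -⟩ := Scheme.Pullback.exists_preimage_pullback (f := f.left) (g := f'.left) d d' (hd.trans hd'.symm)
  let x := Red.geomPt q ≫ pullback.fst f.left f'.left ≫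
    (RedSub.pow (Red.Ga S) k ⊗ (D.T ⊗ RedSub.pow (Red.Ga S) m)).hom
  let z : RankOne16.kPt x ⟶ _ := Over.homMk (Red.geomPt q ≫ pullback.fst f.left f'.left) (Category.assoc _ _ _)
  let z' : RankOne16.kPt x ⟶ RedSub.pow (Red.Ga S) k' ⊗ (D.T ⊗ RedSub.pow (Red.Ga S) m) :=
    Over.homMk (Red.geomPt q ≫ pullback.snd f.left f'.left) (by
      show (_ ≫ _) ≫ _ = x
      simp only [x, Category.assoc, ← Over.w f, ← Over.w f', pullback.condition_assoc])
  have hz : z ≫ f = z' ≫ f' := Over.OverMorphism.ext (by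
    simp only [Over.comp_left, z, z', Over.homMk_left, Category.assoc, pullback.condition])
  exact inC_unique D hnr x (inC_of_pt D hnr e he epos hpos z) (hz ▸ inC_of_pt D hnr e' he' epos hpos z')

end Groth.Agent.RedCell16
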