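import Groth.Agent.Lib.RedCell16.PosProd

/-!
# The commutator formula in an arbitrary order of the roots
-/

set_option autoImplicit false
set_option linter.style.haveILetI false
set_option linter.unusedSimpArgs false
set_option backward.isDefEq.respectTransparency false
set_option backward.isDefEq.respectTransparency.types false

universe u

open CategoryTheory CategoryTheory.Limits MonoidalCategory CartesianMonoidalCategory MonObj AlgebraicGeometry

noncomputable section

namespace Groth.Agent.RedCell16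

open DiagGL RootDLib
open RankOne (P)

variable {S : Scheme.{u}} {G : Over S} [GrpObj G] (D : Red.SplitRed G)

theorem rt_comb {X : Over S} (t : X ⟶ D.T) {p q d : D.idx} (i j : ℕ)
    (h : D.P.root d = (i : ℤ) • D.P.root p + (j : ℤ) • D.P.root q) : rt D t d = rt D t p ^ i * rt D t q ^ j := by
  rw [rt_eq_ch, rt_eq_ch, rt_eq_ch, h, natCast_zsmul, natCast_zsmul, ofAdd_add, ofAdd_nsmul, ofAdd_nsmul,
    map_mul, map_pow, map_pow]

/-- An injective family of combinations containing all the combinations which are roots. -/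
theorem exists_comm_coeff_ord [D.P.IsReduced] (b : D.P.Base) (p q : D.idx) (hp : p ∈ RedSub.posRoots D.P b)
    (hq : q ∈ RedSub.posRoots D.P b) {k : ℕ} (e : Fin k → D.idx) (i j : Fin k → ℕ) (he : Function.Injective e)
    (hij : ∀ l, IsComb D p q (e l) (i l) (j l))
    (hall : ∀ (d : D.idx) (a c : ℕ), IsComb D p q d a c → d ∈ Set.range e) :
    (∀ (X : Over S) (v v' : Fin k → Γ(X.left, ⊤)), rp D e v = rp D e v' → v = v') ∧
    ∃ C : ∀ X : Over S, Fin k → Γ(X.left, ⊤),
      (∀ (X X' : Over S) (g : X' ⟶ X) l, g.left.appTop (C X l) = C X' l) ∧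
      ∀ (X : Over S) (x y : Γ(X.left, ⊤)), comm D p q x y = rp D e fun l => C X l * x ^ i l * y ^ j l := by
  classical
  haveI := D.fintypeIdx
  haveI := torsionFree D.P
  obtain ⟨n, m, eneg, epos, hneg, hpos⟩ := exists_enum D b
  set R : Set D.idx := Set.range e
  have hR : ∀ d ∈ R, d ∈ RedSub.posRoots D.P b := by
    rintro _ ⟨l, rfl⟩; exact (hij l).pos D hp hq
  have hcl : ∀ (p' q' d : D.idx) (a c : ℕ), p' ∈ R → q' ∈ R → IsComb D p' q' d a c → d ∈ R := by
    rintro _ _ d a c ⟨l1, rfl⟩ ⟨l2, rfl⟩ h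
    obtain ⟨h1, h2, h3⟩ := hij l1
    obtain ⟨h4, h5, h6⟩ := hij l2
    refine hall d (a * i l1 + c * i l2) (a * j l1 + c * j l2)
      ⟨Nat.add_pos_left (Nat.mul_pos h.1 h1) _, Nat.add_pos_left (Nat.mul_pos h.1 h2) _, ?_⟩
    rw [h.2.2, h3, h6]
    push_cast
    simp only [smul_add, smul_smul, add_smul]
    abel
  have hinj : ∀ (X : Over S) (v v' : Fin k → Γ(X.left, ⊤)), rp D e v = rp D e v' → v = v' := fun X =>
    rp_inj D eneg epos hneg hpos R hR hcl X e he (fun l => ⟨l, rfl⟩)
  refine ⟨hinj, ?_⟩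
  obtain ⟨i0, j0, C0, -, hC0, hc0⟩ := exists_comm_coeff D eneg epos hneg hpos p q hp hq
  choose V hV0 hV using fun (X : Over S) (x y : Γ(X.left, ⊤)) =>
    exists_rp_eq D eneg epos hneg hpos R hR hcl X e (Set.Subset.refl _) epos (fun l => C0 X l * x ^ i0 l * y ^ j0 l)
      (fun l hl => by rw [hC0 X l fun hcb => hl (hall _ _ _ hcb), zero_mul, zero_mul])
  have hVc : ∀ (X : Over S) x y, comm D p q x y = rp D e (V X x y) := fun X x y => (hc0 X x y).trans (hV X x y)
  have hnat : ∀ (X X' : Over S) (g : X' ⟶ X) x y l,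
      g.left.appTop (V X x y l) = V X' (g.left.appTop x) (g.left.appTop y) l := fun X X' g x y l =>
    congrFun (hinj X' (fun l => g.left.appTop (V X x y l)) _ (by rw [← comp_rp, ← hVc, ← hVc, comp_comm])) l
  have hconj : ∀ (X : Over S) (t : X ⟶ D.T) x y l,
      V X (rt D t p * x) (rt D t q * y) l = rt D t (e l) * V X x y l := fun X t x y l =>
    congrFun (hinj X (V X (rt D t p * x) (rt D t q * y)) (fun l => rt D t (e l) * V X x y l)
      (by rw [← conj_rp, ← hVc, ← hVc, conj_comm])) l
  refine ⟨fun X l => V X 1 1 l, fun X X' g l => by rw [hnat, map_one], fun X x y => ?_⟩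
  rw [hVc]
  congr 1
  funext l
  obtain ⟨hi, hj, hd⟩ := hij l
  have hqp : q ≠ p := by
    rintro rfl
    have hli : ¬ LinearIndependent ℤ ![D.P.root (e l), D.P.root q] := fun h => by
      have := LinearIndependent.pair_iff.1 h 1 (-((i l : ℤ) + j l)) (by rw [one_smul, hd, ← add_smul, neg_smul,
        add_neg_cancel])
      omega
    rcases RootPairing.IsReduced.eq_or_eq_neg (P := D.P) (e l) q hli with h | h
    · rw [hd, ← add_smul, ← sub_eq_zero, show ((i l : ℤ) + j l) • D.P.root q - D.P.root q =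
        ((i l : ℤ) + j l - 1) • D.P.root q by rw [sub_smul, one_smul], smul_eq_zero] at h
      exact h.elim (fun h => by omega) (root_ne_zero D.P q)
    · rw [hd, ← add_smul, ← add_eq_zero_iff_eq_neg, show ((i l : ℤ) + j l) • D.P.root q + D.P.root q =
        ((i l : ℤ) + j l + 1) • D.P.root q by rw [add_smul ((i l : ℤ) + j l), one_smul], smul_eq_zero] at h
      exact h.elim (fun h => by omega) (root_ne_zero D.P q)
  have hΔ : 0 < det D p q := det_pos D p q (fun h => hqp (D.P.root.injective h)) fun h => by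
    have hq' : p ∈ RedSub.negRoots D.P b := by
      show -D.P.root p ∈ AddSubmonoid.closure _
      rw [← h]; exact hq
    exact (RootComb21.mem_negRoots_iff b p).1 hq' hp
  obtain ⟨c, hc⟩ : ∃ c : ℕ, det D p q = c := ⟨_, (Int.toNat_of_nonneg hΔ.le).symm⟩
  have hc0 : c ≠ 0 := by omega
  have hℓp : dualFun D p q (D.P.root (e l)) = ((c * i l : ℕ) : ℤ) := by
    rw [hd, map_add, map_zsmul, map_zsmul, dualFun_self, dualFun_other, hc]; simp; ring
  have hℓq : dualFun D q p (D.P.root (e l)) = ((c * j l : ℕ) : ℤ) := by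
    rw [hd, map_add, map_zsmul, map_zsmul, dualFun_self, dualFun_other, det_comm, hc]; simp; ring
  have hline : ∀ (X : Over S) x, V X x 1 l = V X 1 1 l * x ^ i l :=
    homog_monomial (fun X x => V X x 1 l) (fun X X' g x => by rw [hnat, map_one]) c hc0 _
      (fun X v x => by
        obtain ⟨t, ht⟩ := exists_tor D (dualFun D p q) v
        have h := hconj X t x 1 l
        rw [rt_exists_tor D _ v t ht p c ((dualFun_self D p q).trans hc),
          rt_exists_tor D _ v t ht q 0 (dualFun_other D p q), pow_zero, _root_.one_mul,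
          rt_exists_tor D _ v t ht (e l) _ hℓp] at h
        rw [h, zpow_natCast, Units.val_pow_eq_pow_val]) (i l) rfl
  refine fn_eq_of_units (fun X x y => V X x y l) (fun X x y => V X 1 1 l * x ^ i l * y ^ j l)
    (fun X X' g x y => hnat X X' g x y l) (fun X X' g x y => by simp only [map_mul, map_pow, hnat, map_one])
    (fun X x v => ?_) X x y
  obtain ⟨X', g, s, hg, hs⟩ := exists_unit_root v c hc0
  haveI := hg
  obtain ⟨t, ht⟩ := exists_tor D (dualFun D q p) s
  refine RankOne16.fn_injective_of_epi g _ _ ?_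
  have h := hconj X' t (g.left.appTop x) 1 l
  rw [rt_exists_tor D _ s t ht p 0 (dualFun_other D q p),
    rt_exists_tor D _ s t ht q c ((dualFun_self D q p).trans ((det_comm D p q).trans hc)),
    rt_exists_tor D _ s t ht (e l) _ hℓq, pow_zero, _root_.one_mul, _root_.mul_one, ← hs, hline, pow_mul, ← hs] at h
  simp only [hnat, map_mul, map_pow, map_one]
  rw [h]
  ring

end Groth.Agent.RedCell16
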