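import Groth.Agent.Lib.RedCell16.BruhatCells
import Groth.Agent.Lib.RedCell16.CommOrd
import Groth.Agent.Lib.RootComb21.Exchange

/-!
# Descending in the Bruhat cells by left translations with simple unipotents
-/

set_option autoImplicit false
set_option linter.style.haveILetI false
set_option linter.unusedSimpArgs false
set_option linter.unusedSectionVars false
set_option backward.isDefEq.respectTransparency false
set_option backward.isDefEq.respectTransparency.types false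

universe u

open CategoryTheory CategoryTheory.Limits MonoidalCategory CartesianMonoidalCategory MonObj AlgebraicGeometry

noncomputable section

namespace Groth.Agent.RedCell16

open DiagGL RootDLib
open RankOne (P A)

variable {S : Scheme.{u}} {G : Over S} [GrpObj G] (D : Red.SplitRed G) [D.P.IsReduced]

/-- Conjugating by a root element preserves a set of roots closed under combinations with it. -/
theorem conj_P_gens {b'' : D.P.Base} {a : D.idx} (ha : a ∈ RedSub.posRoots D.P b'') {R : Set D.idx}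
    (hR : R ⊆ RedSub.posRoots D.P b'') (hcl : ∀ d ∈ R, ∀ (d' : D.idx) (i j : ℕ), IsComb D a d d' i j → d' ∈ R)
    {X : Over S} (y : Γ(X.left, ⊤)) {w : X ⟶ G} (hw : w ∈ gens D R X) :
    P (D.u a) y * w * (P (D.u a) y)⁻¹ ∈ gens D R X := by
  refine conj_gens D _ _ (fun d hd z => ?_) hw
  obtain ⟨n, m, eneg, epos, hneg, hpos⟩ := exists_enum D b''
  obtain ⟨i, j, C, -, hC, hc⟩ := exists_comm_coeff D eneg epos hneg hpos a d ha (hR hd)
  rw [show P (D.u a) y * P (D.u d) z * (P (D.u a) y)⁻¹ = comm D a d y z * P (D.u d) z by rw [comm]; group, hc]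
  refine Subgroup.mul_mem _ ?_ (P_mem_gens D hd z)
  rw [rp_eq_prod]
  refine Subgroup.list_prod_mem _ fun q hq => ?_
  obtain ⟨k, rfl⟩ := (List.mem_ofFn' _ _).1 hq
  show P (D.u (epos k)) _ ∈ _
  by_cases hk : IsComb D a d (epos k) (i k) (j k)
  · exact P_mem_gens D (hcl d hd _ _ _ hk) _
  · haveI := (D.rootHom (epos k)).1
    rw [hC X k hk, zero_mul, zero_mul, RankOne.P_zero]
    exact Subgroup.one_mem _

variable {b : D.P.Base} {a : D.idx} (ha : a ∈ b.support)

include ha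

theorem coeff_comb {d d' : D.idx} {i j : ℕ} (h : IsComb D a d d' i j) {c : D.idx} (hc : c ≠ a) :
    coeff (RootComb21.isSimpleSys_support b) d' c = j * coeff (RootComb21.isSimpleSys_support b) d c := by
  classical
  have hΔ := RootComb21.isSimpleSys_support b
  rw [coeff_eq hΔ (k := d') (c := (i : ℤ) • Finsupp.single a 1 + (j : ℤ) • coeff hΔ d) ?_ ?_]
  · simp [Finsupp.single_apply, hc.symm]
  · refine (Finset.coe_subset.2 Finsupp.support_add).trans ?_
    rw [Finset.coe_union, Set.union_subset_iff]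
    refine ⟨(Finset.coe_subset.2 Finsupp.support_smul).trans ?_,
      (Finset.coe_subset.2 Finsupp.support_smul).trans (coeff_supp hΔ d)⟩
    rw [Finsupp.support_single_ne_zero _ one_ne_zero]
    simpa using ha
  · rw [map_add, map_zsmul, map_zsmul, coeff_sum, Finsupp.linearCombination_single, one_smul, h.2.2]

theorem exists_coeff_ne {d : D.idx} (h1 : d ≠ a) (h2 : d ≠ ng D.P a) :
    ∃ c, c ≠ a ∧ coeff (RootComb21.isSimpleSys_support b) d c ≠ 0 := by
  haveI := D.fintypeIdx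
  have htf := torsionFree D.P
  have hΔ := RootComb21.isSimpleSys_support b
  by_contra h
  push Not at h
  have e : D.P.root d = (coeff hΔ d a) • D.P.root a := by
    conv_lhs => rw [← coeff_sum hΔ d, show coeff hΔ d = Finsupp.single a (coeff hΔ d a) from
      Finsupp.ext fun c => by by_cases hc : c = a <;> simp [Finsupp.single_apply, hc, Ne.symm, h c, eq_comm]]
    simp
  rcases RootPairing.IsReduced.eq_or_eq_neg (P := D.P) d a (fun hli => by
    have := LinearIndependent.pair_iff.1 hli 1 (-(coeff hΔ d a)) (by rw [one_smul, e, neg_smul, add_neg_cancel])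
    omega) with h' | h'
  · exact h1 (D.P.root.injective h')
  · exact h2 (D.P.root.injective (by rw [h', root_ng]))

theorem comb_mem_pos {d d' : D.idx} {i j : ℕ} (hd : d ∈ RedSub.posRoots D.P b \ {a}) (h : IsComb D a d d' i j) :
    d' ∈ RedSub.posRoots D.P b \ {a} := by
  classical
  haveI := D.fintypeIdx
  have hΔ := RootComb21.isSimpleSys_support b
  obtain ⟨c, hc, hcne⟩ := exists_coeff_ne D ha (b := b) hd.2 (fun e => by
    have := (RootComb21.mem_negRoots_iff b d).1 (by rw [e]; exact ng_mem_neg D b (mem_posOf_of_mem ha))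
    exact this hd.1)
  refine ⟨posRoots_comb D b (mem_posOf_of_mem ha) hd.1 h, fun e => ?_⟩
  have e1 := coeff_comb D ha h hc
  rw [Set.mem_singleton_iff.1 e, coeff_simple hΔ ha, Finsupp.single_apply, if_neg hc.symm] at e1
  rcases mul_eq_zero.1 e1.symm with h' | h'
  · exact absurd h' (by exact_mod_cast h.2.1.ne')
  · exact hcne h'

theorem comb_mem_neg {d d' : D.idx} {i j : ℕ} (hd : d ∈ RedSub.negRoots D.P b \ {ng D.P a})
    (h : IsComb D a d d' i j) : d' ∈ RedSub.negRoots D.P b \ {ng D.P a} := by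
  haveI := D.fintypeIdx
  have hΔ := RootComb21.isSimpleSys_support b
  have hda : d ≠ a := fun e => (RootComb21.mem_negRoots_iff b d).1 hd.1 (e ▸ mem_posOf_of_mem ha)
  obtain ⟨c, hc, hcne⟩ := exists_coeff_ne D ha (b := b) hda hd.2
  have hle : coeff hΔ d c ≤ 0 := by
    rcases coeff_sign hΔ d with h' | h'
    · exact absurd ((mem_posOf_iff hΔ).2 h') ((RootComb21.mem_negRoots_iff b d).1 hd.1)
    · exact h' c
  have e1 := coeff_comb D ha h hc
  have hneg' : coeff hΔ d' c < 0 := by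
    rw [e1]; exact mul_neg_of_pos_of_neg (by exact_mod_cast h.2.1) (lt_of_le_of_ne hle hcne)
  refine ⟨(RootComb21.mem_negRoots_iff b d').2 fun h' => ?_, fun e => ?_⟩
  · exact absurd ((mem_posOf_iff hΔ).1 h' c) (not_le.2 hneg')
  · rw [Set.mem_singleton_iff.1 e, coeff_ng, coeff_simple hΔ ha] at hneg'
    simp [Finsupp.single_apply, hc.symm] at hneg'

theorem conj_simple_neg {X : Over S} (y : Γ(X.left, ⊤)) {w : X ⟶ G}
    (hw : w ∈ gens D (RedSub.negRoots D.P b \ {ng D.P a}) X) :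
    P (D.u a) y * w * (P (D.u a) y)⁻¹ ∈ gens D (RedSub.negRoots D.P b \ {ng D.P a}) X := by
  haveI := D.fintypeIdx
  obtain ⟨bn, hbn, -⟩ := exists_negBase D b
  have hΔ := RootComb21.isSimpleSys_support b
  refine conj_P_gens D (b'' := RootComb21.reflBase bn a) ?_ ?_ (fun d hd d' i j h => comb_mem_neg D ha hd h) y hw
  · rw [RootComb21.mem_posRoots_reflBase, hbn]
    exact ng_mem_neg D b (mem_posOf_of_mem ha)
  · intro d hd
    rw [RootComb21.mem_posRoots_reflBase, hbn, RootComb21.mem_negRoots_iff_ng, ← refl_smul, ← smul_ng, refl_smul]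
    exact reflect_mem_posOf ha ((RootComb21.mem_negRoots_iff_ng b d).1 hd.1)
      (fun e => hd.2 (by show d = ng D.P a; rw [← e, ng_ng])) (RootComb21.root_ne_two_smul _ _) hΔ

theorem conj_simple_pos {X : Over S} (y : Γ(X.left, ⊤)) {w : X ⟶ G}
    (hw : w ∈ gens D (RedSub.posRoots D.P b \ {a}) X) :
    P (D.u a) y * w * (P (D.u a) y)⁻¹ ∈ gens D (RedSub.posRoots D.P b \ {a}) X :=
  conj_P_gens D (mem_posOf_of_mem ha) Set.sdiff_subset (fun d hd d' i j h => comb_mem_pos D ha hd h) y hw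

omit ha

variable {nr : D.idx → (𝟙_ (Over S) ⟶ G)} (hnr : RedSub.RealisesReflections D nr)

include hnr

theorem inC_torus {X : Over S} (s : X ⟶ D.T) {l : List D.idx} {g : X ⟶ G} (hg : InC D b nr X l g) :
    InC D b nr X l ((s ≫ D.i) * g) := by
  haveI := D.maximalTorus.1
  obtain ⟨u, hu, t, z, hz, rfl⟩ := hg
  obtain ⟨s', hs', -⟩ := (nrm_word D nr hnr l).inv X s
  rw [GrpObj.comp_inv, _root_.inv_inv] at hs'
  refine ⟨_, torus_conj_gens D s hu, s' * t, z, hz, ?_⟩
  rw [MonObj.mul_comp, ← hs']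
  group

/-- The cell depends only on the Weyl group element. -/
theorem inC_congr {X : Over S} {l l' : List D.idx} (h : wprod D.P l = wprod D.P l') {g : X ⟶ G}
    (hg : InC D b nr X l g) : InC D b nr X l' g := by
  haveI := D.maximalTorus.1
  obtain ⟨u, hu, t, z, hz, rfl⟩ := hg
  obtain ⟨τ, hτ⟩ := (h ▸ nrm_word D nr hnr l' : Nrm D (Nw D nr l') (wprod D.P l)).exists_torus D b
    (nrm_word D nr hnr l)
  refine ⟨u, hu, (toUnit X ≫ τ) * t, z, hz, ?_⟩
  rw [hτ, MonObj.comp_mul, MonObj.mul_comp, Category.assoc]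
  simp only [_root_.mul_assoc]

theorem inC_one {X : Over S} {g : X ⟶ G} (hg : InC D b nr X [] g) {n m : ℕ} (eneg : Fin n → D.idx)
    (epos : Fin m → D.idx) (hneg : RedSub.Enumerates (RedSub.negRoots D.P b) eneg)
    (hpos : RedSub.Enumerates (RedSub.posRoots D.P b) epos) :
    ∃ y t z, g = cellPt D eneg epos y t z := by
  obtain ⟨d, hd⟩ := exists_translate D hnr hg eneg epos hneg hpos
  obtain ⟨y, t, z, rfl⟩ := exists_mkDom D d
  exact ⟨y, t, z, by rw [hd]; simp [Nw, cellPt]⟩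

include ha

/-- **Descent by a simple unipotent.** -/
theorem inC_descend {l : List D.idx} (hdesc : (wprod D.P (a :: l))⁻¹ • a ∉ RedSub.posRoots D.P b)
    {K : Type u} [Field K] [IsAlgClosed K] {x : Spec (CommRingCat.of K) ⟶ S}
    (ξ : (Γ((RankOne16.kPt x).left, ⊤))ˣ) {g : RankOne16.kPt x ⟶ G} (hg : InC D b nr _ (a :: l) g) :
    InC D b nr _ l ((P (D.u a) (ξ : Γ((RankOne16.kPt x).left, ⊤)))⁻¹ * g) := by
  haveI := D.maximalTorus.1
  haveI := D.fintypeIdx
  haveI := (D.rootHom a).1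
  obtain ⟨u, hu, t, z, hz, rfl⟩ := hg
  obtain ⟨bn, hbn, -⟩ := exists_negBase D b
  set na := ng D.P a with hna
  have hapos : a ∈ RedSub.posRoots D.P b := mem_posOf_of_mem ha
  obtain ⟨u', hu', w, hw, rfl⟩ := exists_split D bn (RedSub.negRoots D.P b \ {na}) {na}
    (by rw [hbn, Set.sdiff_union_self, Set.union_eq_left.2 (Set.singleton_subset_iff.2 (ng_mem_neg D b hapos))])
    (by rw [hbn]; exact hu)
  have hu'' : (P (D.u a) (ξ : Γ((RankOne16.kPt x).left, ⊤)))⁻¹ * u' * P (D.u a) (ξ : Γ((RankOne16.kPt x).left, ⊤)) ∈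
      Um D b _ := by
    have := gens_mono D (R' := RedSub.negRoots D.P b) Set.sdiff_subset _
      (conj_simple_neg D ha (-(ξ : Γ((RankOne16.kPt x).left, ⊤))) hu')
    rwa [RankOne.P_neg, _root_.inv_inv] at this
  have hv : (wprod D.P (a :: l))⁻¹ • na ∈ RedSub.posRoots D.P b := by
    rcases posOf_cases D b ((wprod D.P (a :: l))⁻¹ • a) with h | h
    · exact absurd h hdesc
    · rwa [← smul_ng] at h
  obtain ⟨w', hw', hweq⟩ : ∃ w' ∈ Up D b (RankOne16.kPt x), w * (toUnit _ ≫ Nw D nr (a :: l)) * (t ≫ D.i) =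
      (toUnit _ ≫ Nw D nr (a :: l)) * ((t ≫ D.i) * w') := by
    have h1 := conj_word_mem D hnr (a :: l) (R := {na}) (R' := RedSub.posRoots D.P b)
      (fun c hc => by rw [Set.mem_singleton_iff.1 hc]; exact hv) b hw
    refine ⟨_, torus_conj_gens D t⁻¹ h1, ?_⟩
    rw [GrpObj.inv_comp, _root_.inv_inv]
    group
  obtain ⟨vd, cu, -, hvd, E⟩ := exists_dual D a
  obtain ⟨τ, hτ⟩ := (nrm_W D a E).exists_torus D b (nrm_of_realises D hnr a)
  set τX := toUnit (RankOne16.kPt x) ≫ τ with hτX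
  have hn : toUnit (RankOne16.kPt x) ≫ nr a = RankOne16.W (D.u a) vd * (τX ≫ D.i) := by
    rw [hτ, MonObj.comp_mul, RankOne16.comp_W, hτX, Category.assoc]
  set d := (-(ξ : Γ((RankOne16.kPt x).left, ⊤)) + 1) * ((ξ⁻¹ : (Γ((RankOne16.kPt x).left, ⊤))ˣ) :
    Γ((RankOne16.kPt x).left, ⊤)) + 1 with hd
  have h4 : (P (D.u a) (ξ : Γ((RankOne16.kPt x).left, ⊤)))⁻¹ * RankOne16.W (D.u a) vd =
      P vd (-1 * ((ξ⁻¹ : (Γ((RankOne16.kPt x).left, ⊤))ˣ) : Γ((RankOne16.kPt x).left, ⊤))) *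
        A D.i (coChar D a) ξ * P (D.u a) d := by
    rw [RankOne16.W, RankOne.w, hd, RankOne.P_add ((-(ξ : Γ((RankOne16.kPt x).left, ⊤)) + 1) * _), ← RankOne.P_neg,
      ← _root_.mul_assoc, ← _root_.mul_assoc, ← RankOne.P_add,
      RankOne.P_mul_M E (-(ξ : Γ((RankOne16.kPt x).left, ⊤)) + 1) (-1) ξ (by ring)]
    simp only [_root_.mul_assoc]
  have hpos' : (wprod D.P l)⁻¹ • a ∈ RedSub.posRoots D.P b := by
    rw [wprod_cons, _root_.mul_inv_rev, RootPairing.Equiv.reflection_inv, mul_smul, refl_smul] at hv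
    rw [show D.P.reflectionPerm a na = a from by rw [hna]; exact D.P.reflectionPerm_self a a] at hv
    exact hv
  obtain ⟨d', hd'⟩ : ∃ d', P (D.u a) d * (τX ≫ D.i) = (τX ≫ D.i) * P (D.u a) d' := by
    refine ⟨rt D τX⁻¹ a * d, ?_⟩
    rw [← conj_P, GrpObj.inv_comp, _root_.inv_inv]
    group
  have hC : InC D b nr _ l (1 * (P (D.u a) d' * ((toUnit _ ≫ Nw D nr l) * ((t ≫ D.i) * (w' * z))))) :=
    inC_of_pos D b nr hnr hpos' d' t (Subgroup.mul_mem _ hw' hz) (Subgroup.one_mem _)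
  rw [_root_.one_mul] at hC
  obtain ⟨u₂, hu₂, t₂, z₂, hz₂, e₂⟩ := inC_torus D hnr (GmPts.ptOfUnit ξ ≫ coChar D a) (inC_torus D hnr τX hC)
  refine ⟨_, Subgroup.mul_mem _ (Subgroup.mul_mem _ hu''
    (show P vd (-1 * ((ξ⁻¹ : (Γ((RankOne16.kPt x).left, ⊤))ˣ) : Γ((RankOne16.kPt x).left, ⊤))) ∈ Um D b _ by
      rw [hvd]; exact P_mem_gens D (ng_mem_neg D b hapos) _)) hu₂, t₂, z₂, hz₂, ?_⟩
  set Q := P (D.u a) (ξ : Γ((RankOne16.kPt x).left, ⊤))
  set M := P vd (-1 * ((ξ⁻¹ : (Γ((RankOne16.kPt x).left, ⊤))ˣ) : Γ((RankOne16.kPt x).left, ⊤)))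
  calc _ = Q⁻¹ * u' * ((w * (toUnit _ ≫ Nw D nr (a :: l)) * (t ≫ D.i)) * z) := by group
    _ = (Q⁻¹ * u' * Q) * (Q⁻¹ * (toUnit _ ≫ nr a)) * ((toUnit _ ≫ Nw D nr l) * ((t ≫ D.i) * (w' * z))) := by
      rw [hweq]
      simp only [Nw, List.map_cons, List.prod_cons, MonObj.comp_mul]
      group
    _ = (Q⁻¹ * u' * Q) * (M * A D.i (coChar D a) ξ * (P (D.u a) d * (τX ≫ D.i))) *
        ((toUnit _ ≫ Nw D nr l) * ((t ≫ D.i) * (w' * z))) := by
      rw [hn, ← _root_.mul_assoc Q⁻¹, h4]; group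
    _ = (Q⁻¹ * u' * Q) * M * (((GmPts.ptOfUnit ξ ≫ coChar D a) ≫ D.i) *
        ((τX ≫ D.i) * (P (D.u a) d' * ((toUnit _ ≫ Nw D nr l) * ((t ≫ D.i) * (w' * z)))))) := by
      rw [hd', RankOne.A]; simp only [Category.assoc, _root_.mul_assoc]
    _ = _ := by rw [e₂]; simp only [_root_.mul_assoc]

end Groth.Agent.RedCell16
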