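import Groth.Agent.Lib.RedCell16.Dual
import Groth.Agent.Lib.RootComb21.Basic

/-!
# A split reductive group is generated by its torus and the root groups of plus and minus the simple roots
-/

set_option autoImplicit false
set_option linter.style.haveILetI false
set_option linter.unusedSimpArgs false
set_option backward.isDefEq.respectTransparency false
set_option backward.isDefEq.respectTransparency.types false

universe u

open CategoryTheory CategoryTheory.Limits MonoidalCategory CartesianMonoidalCategory MonObj AlgebraicGeometry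

noncomputable section

namespace Groth.Agent.RedCell16

open RootDLib
open RankOne (P)

variable {S : Scheme.{u}} {G H : Over S} [GrpObj G] [GrpObj H] (D : Red.SplitRed G)

/-- Roots reachable from the simple ones by simple reflections are all roots. -/
theorem mem_of_reflect_closed [D.P.IsReduced] (b : D.P.Base) (A : Set D.idx)
    (h0 : ∀ a ∈ b.support, a ∈ A) (step : ∀ a ∈ b.support, ∀ c ∈ A, D.P.reflectionPerm a c ∈ A) (c : D.idx) : c ∈ A := by
  haveI := D.fintypeIdx
  have hΔ := RootComb21.isSimpleSys_support b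
  have hgen : ∀ w ∈ Subgroup.closure ((fun i : D.idx => RootPairing.Equiv.reflection D.P i) '' (b.support : Set D.idx)),
      ∀ c, (c ∈ A → w • c ∈ A) ∧ (c ∈ A → w⁻¹ • c ∈ A) := by
    intro w hw
    induction hw using Subgroup.closure_induction with
    | mem x hx =>
      obtain ⟨a, ha, rfl⟩ := hx
      intro c
      refine ⟨fun hc => by rw [refl_smul]; exact step a ha c hc, fun hc => ?_⟩
      rw [inv_eq_of_mul_eq_one_left (refl_mul_self (P := D.P) a), refl_smul]
      exact step a ha c hc
    | one => intro c; simp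
    | mul x y _ _ hx hy =>
      intro c
      exact ⟨fun hc => by rw [mul_smul]; exact (hx _).1 ((hy c).1 hc),
        fun hc => by rw [_root_.mul_inv_rev, mul_smul]; exact (hy _).2 ((hx c).2 hc)⟩
    | inv x _ hx => intro c; exact ⟨(hx c).2, by rw [_root_.inv_inv]; exact (hx c).1⟩
  obtain ⟨w, hw, i, hi, rfl⟩ := exists_conj_simple hΔ (k := c) fun j hj => RootComb21.root_ne_two_smul j c hj.symm
  exact (hgen w hw i).1 (h0 i hi)

/-- **Homomorphisms agreeing on the torus and on the root groups of `±` the simple roots are equal.** -/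
theorem hom_ext_simple [D.P.IsReduced] (b : D.P.Base) (f g : G ⟶ H) [IsMonHom f] [IsMonHom g]
    (hT : D.i ≫ f = D.i ≫ g)
    (hU : ∀ a ∈ b.support, D.u a ≫ f = D.u a ≫ g ∧
      D.u (D.P.reflectionPerm a a) ≫ f = D.u (D.P.reflectionPerm a a) ≫ g) : f = g := by
  have hall : ∀ c, D.u c ≫ f = D.u c ≫ g := fun c =>
    mem_of_reflect_closed D b {c | D.u c ≫ f = D.u c ≫ g} (fun a ha => (hU a ha).1) (fun a ha c hc => by
      obtain ⟨vd, cu, -, hvd, E⟩ := exists_dual D a
      obtain ⟨ν, hν⟩ := exists_weyl_conj D a E b c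
      show D.u _ ≫ f = D.u _ ≫ g
      have hP : ∀ (d : D.idx) (X : Over S) (x : Γ(X.left, ⊤)), D.u d ≫ f = D.u d ≫ g →
          P (D.u d) x ≫ f = P (D.u d) x ≫ g := fun d X x h => by
        simp only [RankOne.P, Category.assoc, h]
      have hW : (RankOne16.W (D.u a) vd : Red.Ga S ⟶ G) ≫ f = RankOne16.W (D.u a) vd ≫ g := by
        simp only [RankOne16.W, RankOne.w, MonObj.mul_comp, hvd, hP a _ _ (hU a ha).1, hP _ _ _ (hU a ha).2]
      rw [← Category.id_comp (D.u (D.P.reflectionPerm a c)), RankOne.comp_eq_P, hν, MonObj.mul_comp, MonObj.mul_comp,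
        MonObj.mul_comp, MonObj.mul_comp, GrpObj.inv_comp, GrpObj.inv_comp, hW, hP c _ _ hc]) c
  obtain ⟨n, m, eneg, epos, hneg, hpos⟩ := exists_enum D b
  refine hom_ext_cell D eneg epos hneg hpos f g ?_
  have hprod : ∀ (k : ℕ) (e : Fin k → D.idx), RedSub.prodMap (Red.Ga S) k (fun j => D.u (e j)) ≫ f =
      RedSub.prodMap (Red.Ga S) k (fun j => D.u (e j)) ≫ g := by
    intro k
    induction k with
    | zero => intro e; simp only [RedSub.prodMap, MonObj.one_comp]
    | succ k ih =>
      intro e
      simp only [RedSub.prodMap, MonObj.mul_comp, Category.assoc]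
      rw [ih, hall]
  simp only [RedSub.cellMap, MonObj.mul_comp, Category.assoc, hprod]
  rw [hT]

end Groth.Agent.RedCell16
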