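import Groth.Agent.Lib.RedCell16.Pair

/-!
# Rank two computations: type B₂
-/

set_option autoImplicit false
set_option linter.style.haveILetI false
set_option linter.unusedSimpArgs false
set_option linter.unusedSectionVars false
set_option backward.isDefEq.respectTransparency false
set_option backward.isDefEq.respectTransparency.types false

universe u

open CategoryTheory CategoryTheory.Limits MonoidalCategory CartesianMonoidalCategory MonObj AlgebraicGeometry

noncomputable section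

namespace Groth.Agent.RedCell16

open DiagGL RootDLib
open RankOne (P A)

variable {S : Scheme.{u}} {G : Over S} [GrpObj G] {D : Red.SplitRed G} [D.P.IsReduced] {a b : D.idx}
  (h : PairSys D.P a b 2) (b₀ : D.P.Base) (Ea : DualPair D a) (Eb : DualPair D b)

include h b₀ Ea Eb

/-- **The relations in type B₂.** -/
theorem B2_main (X : Over S) :
    (∀ x y : Γ(X.left, ⊤), comm D b a y x =
      cj (Wy D b X) (P (D.u a) (x * y)) * cj (Wy D a X) (P (D.u b) (-(x ^ 2 * y)))) ∧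
    (∀ x y : Γ(X.left, ⊤), cj (Wy D b X) (P (D.u a) y) * P (D.u a) x * (cj (Wy D b X) (P (D.u a) y))⁻¹ *
      (P (D.u a) x)⁻¹ = cj (Wy D a X) (P (D.u b) (2 * x * y))) ∧
    ∀ x : Γ(X.left, ⊤), cj (Wy D a X) (cj (Wy D b X) (P (D.u a) x)) = cj (Wy D b X) (P (D.u a) (-x)) := by
  haveI := D.fintypeIdx
  haveI := fun c => (D.rootHom c).1
  set c := D.P.reflectionPerm b a with hc
  set d := D.P.reflectionPerm a b with hd
  set na := ng D.P a with hna
  set nb := ng D.P b with hnb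
  have ra := root_coords_a a b
  have rb := root_coords_b a b
  have rc : D.P.root c = (1 : ℤ) • D.P.root a + (1 : ℤ) • D.P.root b := (h.root_refl_b ra).trans (by norm_num)
  have rd : D.P.root d = (2 : ℤ) • D.P.root a + (1 : ℤ) • D.P.root b := (h.root_refl_a rb).trans (by norm_num)
  have rna : D.P.root na = (-1 : ℤ) • D.P.root a + (0 : ℤ) • D.P.root b := (root_coords_ng ra).trans (by norm_num)
  have rnb : D.P.root nb = (0 : ℤ) • D.P.root a + (-1 : ℤ) • D.P.root b := (root_coords_ng rb).trans (by norm_num)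
  have hac : D.P.reflectionPerm a c = c := eq_of_coords ((h.root_refl_a rc).trans (by norm_num)) rc
  obtain ⟨ν1, hν1n, hν1⟩ := exists_cj_coeff D b₀ Eb a c hc.symm
  obtain ⟨ν2, hν2n, hν2⟩ := exists_cj_coeff D b₀ Ea b d hd.symm
  obtain ⟨ρ, -, hρ⟩ := exists_cj_coeff D b₀ Ea c c hac
  obtain ⟨B, hBn, hB⟩ := h.exists_comm b₀ 1 1 (x := b) (y := a) (0, 1) (1, 0) rb ra (by decide) (by decide) ![c, d]
    ![(1, 1), (2, 1)] (fun l => by fin_cases l; exacts [rc, rd]) (by decide) ![1, 1] ![1, 2] (by decide) (by decide)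
    (by decide)
  obtain ⟨C, -, hC⟩ := h.exists_comm b₀ 2 (-1) (x := c) (y := nb) (1, 1) (0, -1) rc rnb (by decide) (by decide) ![d, a]
    ![(2, 1), (1, 0)] (fun l => by fin_cases l; exacts [rd, ra]) (by decide) ![2, 1] ![1, 1] (by decide) (by decide)
    (by decide)
  obtain ⟨K, -, hK⟩ := h.exists_comm b₀ 1 1 (x := a) (y := c) (1, 0) (1, 1) ra rc (by decide) (by decide) ![d]
    ![(2, 1)] (fun l => by fin_cases l; exact rd) (by decide) ![1] ![1] (by decide) (by decide) (by decide)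
  have inj1 : ∀ {Y : Over S} {v v' : Fin 3 → Γ(Y.left, ⊤)}, rp D ![c, d, a] v = rp D ![c, d, a] v' → v = v' :=
    fun e => h.rp_inj b₀ 1 0 _ ![(1, 1), (2, 1), (1, 0)] (fun l => by fin_cases l; exacts [rc, rd, ra]) (by decide)
      (by decide) (by decide) e
  have inj2 : ∀ {Y : Over S} {v v' : Fin 3 → Γ(Y.left, ⊤)}, rp D ![d, c, b] v = rp D ![d, c, b] v' → v = v' :=
    fun e => h.rp_inj b₀ 0 1 _ ![(2, 1), (1, 1), (0, 1)] (fun l => by fin_cases l; exacts [rd, rc, rb]) (by decide)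
      (by decide) (by decide) e
  have hBx : ∀ (Y : Over S) (u w : Γ(Y.left, ⊤)),
      comm D b a u w = P (D.u c) (B Y 0 * u * w) * P (D.u d) (B Y 1 * u * w ^ 2) := fun Y u w => by
    rw [hB, rp_two]; simp
  -- the first coefficient
  have hB0 : ∀ Y : Over S, B Y 0 = ν1 Y := fun Y => by
    have e1 := comm_identity D (a := b) (b := a) (c := c) Y (1 : Γ(Y.left, ⊤)) (ν1 Y)
      (fun u => h.commute_root b₀ rb rc (by decide) (by decide) Y u _) (by rw [hν1, _root_.mul_one])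
    rw [hBx, hC] at e1
    have e2 : rp (X := Y) D ![c, d, a] ![B Y 0, B Y 1, 1] =
        rp (X := Y) D ![c, d, a] ![ν1 Y, C Y 0 * (-ν1 Y) ^ 2, C Y 1 * -ν1 Y] := by
      simp [rp_two, rp_three, _root_.mul_assoc] at e1 ⊢; exact e1
    simpa using congrFun (inj1 e2) 0
  -- the second coefficient
  have hI : ∀ Y : Over S, B Y 1 = -ν2 Y ∧ ρ Y * ν1 Y = -ν1 Y := fun Y => by
    have e1 := comm_identity D (a := a) (b := b) (c := d) Y (1 : Γ(Y.left, ⊤)) (ν2 Y)
      (fun u => h.commute_root b₀ ra rd (by decide) (by decide) Y u _) (by rw [hν2, _root_.mul_one])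
    have e2 : comm D a b (1 : Γ(Y.left, ⊤)) 1 = (comm D b a (1 : Γ(Y.left, ⊤)) 1)⁻¹ := by simp only [comm]; group
    have e3 : comm D d na (-ν2 Y) (1 : Γ(Y.left, ⊤)) = cj (Wy D a Y) (comm D b a (-1 : Γ(Y.left, ⊤)) (-1)) := by
      simp only [comm, cj_comm, (cj_self D Ea Y _).1, hν2, neg_neg]
      congr 4 <;> simp
    rw [e2, e3, hBx, hBx, cj_mul, hρ] at e1
    simp only [_root_.mul_one, _root_.one_mul, neg_neg, hB0, _root_.mul_neg, neg_mul, neg_sq, one_pow] at e1
    obtain ⟨lam, -, hlam⟩ := exists_cj_coeff D b₀ Ea d b (eq_of_coords ((h.root_refl_a rd).trans (by norm_num)) rb)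
    rw [hlam] at e1
    rw [mul_inv_rev, ← RankOne.P_neg, ← RankOne.P_neg, _root_.mul_assoc] at e1
    have e7 : rp (X := Y) D ![d, c, b] ![-B Y 1, -ν1 Y, 1] =
        rp (X := Y) D ![d, c, b] ![ν2 Y, ρ Y * ν1 Y, lam Y * -B Y 1] := by
      simp [rp_three, _root_.mul_assoc] at e1 ⊢; exact e1
    have e8 := inj2 e7
    have f0 := congrFun e8 0
    have f1 := congrFun e8 1
    simp at f0 f1
    exact ⟨by rw [← f0, neg_neg], f1.symm⟩
  have main : ∀ (Y : Over S) (x y : Γ(Y.left, ⊤)), comm D b a y x =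
      cj (Wy D b Y) (P (D.u a) (x * y)) * cj (Wy D a Y) (P (D.u b) (-(x ^ 2 * y))) := fun Y x y => by
    rw [hBx, hν1, hν2, hB0, (hI Y).1]
    congr 2 <;> ring
  have hKν : K X 0 * ν1 X = -2 * ν2 X := by
    have e0 : ∀ u v : Γ(X.left, ⊤), comm D b a (1 : Γ(X.left, ⊤)) (u + v) =
        comm D b a (1 : Γ(X.left, ⊤)) u * cj (P (D.u a) u) (comm D b a (1 : Γ(X.left, ⊤)) v) := fun u v => by
      simp only [comm, cj, RankOne.P_add]; group
    have e1 := e0 1 1
    simp only [hBx, hB0, (hI X).1, _root_.mul_one, one_pow, cj_mul] at e1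
    have hcd : cj (P (D.u a) (1 : Γ(X.left, ⊤))) (P (D.u d) (-ν2 X)) = P (D.u d) (-ν2 X) := by
      rw [cj, (h.commute_root b₀ ra rd (by decide) (by decide) X _ _).eq, mul_inv_cancel_right]
    have hcc : cj (P (D.u a) (1 : Γ(X.left, ⊤))) (P (D.u c) (ν1 X)) = P (D.u d) (K X 0 * ν1 X) * P (D.u c) (ν1 X) := by
      have := hK X 1 (ν1 X)
      simp [rp_one] at this
      rw [← this]; simp only [cj, comm]; group
    rw [hcd, hcc] at e1
    have hsw : Commute (P (D.u d) (-ν2 X) : X ⟶ G) (P (D.u d) (K X 0 * ν1 X)) := by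
      show _ * _ = _ * _; rw [← RankOne.P_add, ← RankOne.P_add, add_comm]
    have hsw2 : Commute (P (D.u d) (-ν2 X + K X 0 * ν1 X) : X ⟶ G) (P (D.u c) (ν1 X)) :=
      h.commute_root b₀ rd rc (by decide) (by decide) X _ _
    rw [show P (D.u c) (ν1 X) * P (D.u d) (-ν2 X) * (P (D.u d) (K X 0 * ν1 X) * P (D.u c) (ν1 X) * P (D.u d) (-ν2 X)) =
        P (D.u c) (ν1 X) * (P (D.u d) (-ν2 X + K X 0 * ν1 X) * P (D.u c) (ν1 X)) * P (D.u d) (-ν2 X) by
      rw [RankOne.P_add]; group, hsw2.eq,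
      show P (D.u c) (ν1 X) * (P (D.u c) (ν1 X) * P (D.u d) (-ν2 X + K X 0 * ν1 X)) * P (D.u d) (-ν2 X) =
        P (D.u c) (ν1 X + ν1 X) * P (D.u d) (-ν2 X + K X 0 * ν1 X + -ν2 X) by
      simp only [RankOne.P_add]; group] at e1
    have e2 : rp (X := X) D ![c, d, a] ![ν1 X * (1 + 1), -ν2 X * (1 + 1) ^ 2, 0] =
        rp (X := X) D ![c, d, a] ![ν1 X + ν1 X, -ν2 X + K X 0 * ν1 X + -ν2 X, 0] := by
      simp only [rp_three, Matrix.cons_val, RankOne.P_zero, _root_.mul_one] at e1 ⊢; exact e1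
    have e3 := congrFun (inj1 e2) 1
    simp only [Matrix.cons_val] at e3
    linear_combination -e3
  refine ⟨main X, fun x y => ?_, fun x => ?_⟩
  · rw [hν1, hν2, show P (D.u c) (ν1 X * y) * P (D.u a) x * (P (D.u c) (ν1 X * y))⁻¹ * (P (D.u a) x)⁻¹ =
      (comm D a c x (ν1 X * y))⁻¹ by simp only [comm]; group, hK, rp_one, ← RankOne.P_neg]
    simp
    congr 1
    linear_combination -(x * y) * hKν
  · rw [hν1, hρ, hν1, ← _root_.mul_assoc, (hI X).2]
    congr 1
    ring

end Groth.Agent.RedCell16
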