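import Groth.Agent.Lib.RedCell16.DualUnique
import Groth.Agent.Lib.RedCell16.PairB2
import Groth.Agent.Lib.RedCell16.PairG2

/-!
# Chevalley systems at the level of root groups: the frame of two roots
-/

set_option autoImplicit false
set_option linter.style.haveILetI false
set_option linter.unusedSimpArgs false
set_option linter.unusedSectionVars false
set_option backward.isDefEq.respectTransparency false
set_option backward.isDefEq.respectTransparency.types false

universe u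

open CategoryTheory CategoryTheory.Limits MonoidalCategory CartesianMonoidalCategory MonObj AlgebraicGeometry

noncomputable section

namespace Groth.Agent.RedCell16

open DiagGL RootDLib
open RankOne (P A)

variable {S : Scheme.{u}} {G : Over S} [GrpObj G]

/-- The split group with other root homomorphisms. -/
abbrev withU (D : Red.SplitRed G) (w : D.idx → (Red.Ga S ⟶ G))
    (hw : ∀ c, Red.IsRootHom D.i (D.split.hom.hom.hom ≫ Red.chi S (D.P.root c)) (w c)) : Red.SplitRed G :=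
  { D with u := w, rootHom := hw }

variable (D : Red.SplitRed G) (e₁ : 𝟙_ (Over S) ⟶ Red.Ga S) (he₁ : Red.gaFn e₁ = 1)
  (avc : D.idx → (Red.Gm S ⟶ D.T))
  (havc : ∀ a, avc a = Red.DSmap S (D.P.coroot a).toAddMonoidHom ≫ D.split.inv.hom.hom)
  (v vd : D.idx → (Red.Ga S ⟶ G))
  (hv : ∀ c, Red.IsRootHom D.i (D.split.hom.hom.hom ≫ Red.chi S (D.P.root c)) (v c))
  (hvd : ∀ c, IsMonHom (vd c) ∧ ∀ (X : Over S) (x y : X ⟶ Red.Ga S), IsUnit (1 + Red.gaFn x * Red.gaFn y) →
      ∃ (x' y' : X ⟶ Red.Ga S) (z : X ⟶ Red.Gm S), Red.gmFn z = 1 + Red.gaFn x * Red.gaFn y ∧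
        Red.gaFn x' * Red.gmFn z = Red.gaFn x ∧ Red.gaFn y' * Red.gmFn z = Red.gaFn y ∧
        (x ≫ v c) * (y ≫ vd c) = (y' ≫ vd c) * (z ≫ avc c ≫ D.i) * (x' ≫ v c))

include havc hv hvd in
/-- The given dual root groups are root groups. -/
theorem chev_dual [D.P.IsReduced] (c : D.idx) :
    Red.IsRootHom D.i (D.split.hom.hom.hom ≫ Red.chi S (D.P.root (ng D.P c))) (vd c) ∧
      RankOne.Datum D.i (rootChar D c) (v c) (vd c) (coChar D c) := by
  let D' := withU D v hv
  haveI : D'.P.IsReduced := ‹D.P.IsReduced›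
  obtain ⟨vd₀, cu, hcu, hP, E⟩ := exists_dual D' c
  haveI := (hv c).1
  haveI := (hvd c).1
  haveI := E.hom_pm
  have heq : vd c = vd₀ := dual_unique D.reductive.1 D.i (coChar D c) (v c) (vd c) vd₀
    (fun X x y hu => by
      obtain ⟨x', y', z, h1, h2, h3, h4⟩ := (hvd c).2 X x y hu
      exact ⟨x', y', z, h1, h2, h3, by rw [h4, havc]⟩)
    E.hF
  subst heq
  refine ⟨?_, E⟩
  let c₁ : 𝟙_ (Over S) ⟶ Red.Gm S := GmPts.ptOfUnit (cu _)
  let σ := RankOne16.scale c₁
  have hσ : ∀ {X : Over S} (y : X ⟶ Red.Ga S), Red.gaFn (y ≫ σ) = (cu X : Γ(X.left, ⊤)) * Red.gaFn y := fun {X} y => by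
    rw [RankOne16.gaFn_scale, RankOne16.cU, GmPts.ptOfUnit_comp, GmPts.unitOfPt_ptOfUnit, hcu _ X (toUnit X)]
  have hfac : vd c = σ ≫ v (ng D.P c) := by
    have h := hP (Red.Ga S) (Red.gaFn (𝟙 (Red.Ga S)))
    rw [← RankOne.comp_eq_P, Category.id_comp] at h
    rw [h, ← hσ (𝟙 (Red.Ga S)), ← RankOne.comp_eq_P, Category.id_comp]
  obtain ⟨-, hcl, hconj⟩ := hv (ng D.P c)
  refine ⟨inferInstance, ?_, fun X t x => ?_⟩
  · rw [hfac, Over.comp_left]
    haveI : IsIso σ := RankOne16.isIso_scale c₁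
    haveI : IsIso σ.left := ((Over.forget _).mapIso (asIso σ)).isIso_hom
    haveI := hcl
    infer_instance
  · obtain ⟨y, hy1, hy2⟩ := hconj X t (x ≫ σ)
    refine ⟨GaPts.ptOfFn ((((cu X)⁻¹ : (Γ(X.left, ⊤))ˣ) : Γ(X.left, ⊤)) * Red.gaFn y), ?_, ?_⟩
    · rw [hfac, ← Category.assoc, ← Category.assoc, ← hy1]
      congr 1
      apply GaPts.gaFn_injective
      show Red.gaFn _ = Red.gaFn _
      rw [hσ, GaPts.gaFn_ptOfFn, Units.mul_inv_cancel_left]
    · rw [GaPts.gaFn_ptOfFn, hy2, hσ, mul_left_comm, Units.inv_mul_cancel_left]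

variable (n : D.idx → (𝟙_ (Over S) ⟶ G)) (hn : ∀ c, n c = (e₁ ≫ v c) * (e₁ ≫ vd c)⁻¹ * (e₁ ≫ v c))
  (hSC : ∀ c b, ∃ ε : ℤ, (ε = 1 ∨ ε = -1) ∧ ∀ (X : Over S) (x y : X ⟶ Red.Ga S),
    Red.gaFn y = (ε : Γ(X.left, ⊤)) * Red.gaFn x →
      (toUnit X ≫ n c) * (x ≫ v b) * (toUnit X ≫ n c)⁻¹ = y ≫ v (D.P.reflectionPerm c b))

include he₁ havc hv hvd hn hSC in
/-- **The frame of two roots of a Chevalley system.** -/
theorem chev_frame [D.P.IsReduced] {a b : D.idx} (hab : a ≠ b) (hab' : a ≠ ng D.P b) :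
    ∃ (w : D.idx → (Red.Ga S ⟶ G)) (hw : ∀ c, Red.IsRootHom D.i (D.split.hom.hom.hom ≫ Red.chi S (D.P.root c)) (w c)),
      DualPair (withU D w hw) a ∧ DualPair (withU D w hw) b ∧ w a = v a ∧ w b = v b ∧
      ∀ c, c = a ∨ c = b → ∀ d, ∃ ε : ℤ, (ε = 1 ∨ ε = -1) ∧ ∀ (X : Over S) (z : Γ(X.left, ⊤)),
        cj (Wy (withU D w hw) c X) (P (v d) z) = P (v (D.P.reflectionPerm c d)) ((ε : Γ(X.left, ⊤)) * z) := by
  classical
  haveI := D.fintypeIdx
  let w : D.idx → (Red.Ga S ⟶ G) := fun c => if c = ng D.P a then vd a else if c = ng D.P b then vd b else v c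
  have hd := fun c => chev_dual D avc havc v vd hv hvd c
  have hw : ∀ c, Red.IsRootHom D.i (D.split.hom.hom.hom ≫ Red.chi S (D.P.root c)) (w c) := fun c => by
    simp only [w]
    split_ifs with h1 h2
    · rw [h1]; exact (hd a).1
    · rw [h2]; exact (hd b).1
    · exact hv c
  have hwa : w a = v a := by simp only [w, if_neg (ng_ne D.P a).symm, if_neg hab']
  have hwb : w b = v b := by
    simp only [w, if_neg (ng_ne D.P b).symm]
    rw [if_neg fun h => hab' (by rw [h, ng_ng])]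
  have hwna : w (ng D.P a) = vd a := by simp only [w, if_pos]
  have hwnb : w (ng D.P b) = vd b := by
    show (if ng D.P b = ng D.P a then vd a else if ng D.P b = ng D.P b then vd b else v (ng D.P b)) = vd b
    rw [if_neg fun h => hab (by have := congrArg (ng D.P) h; simpa using this.symm), if_pos rfl]
  have Ea : DualPair (withU D w hw) a := by
    show RankOne.Datum D.i (rootChar D a) (w a) (w (ng D.P a)) (coChar D a)
    rw [hwa, hwna]; exact (hd a).2
  have Eb : DualPair (withU D w hw) b := by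
    show RankOne.Datum D.i (rootChar D b) (w b) (w (ng D.P b)) (coChar D b)
    rw [hwb, hwnb]; exact (hd b).2
  refine ⟨w, hw, Ea, Eb, hwa, hwb, fun c hc d => ?_⟩
  have hW : ∀ X : Over S, Wy (withU D w hw) c X = toUnit X ≫ n c := fun X => by
    show RankOne16.W (w c) (w (ng D.P c)) = _
    rw [show w c = v c by rcases hc with rfl | rfl <;> assumption,
      show w (ng D.P c) = vd c by rcases hc with rfl | rfl <;> assumption, hn]
    haveI := (hvd c).1
    rw [RankOne.comp_eq_P (v c) e₁, RankOne.comp_eq_P (vd c) e₁, he₁, ← RankOne.P_neg]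
    simp only [MonObj.comp_mul, RankOne.comp_P, map_one, map_neg]
    rfl
  obtain ⟨ε, hε, h⟩ := hSC c d
  refine ⟨ε, hε, fun X z => ?_⟩
  have := h X (GaPts.ptOfFn z) (GaPts.ptOfFn ((ε : Γ(X.left, ⊤)) * z)) (by rw [GaPts.gaFn_ptOfFn, GaPts.gaFn_ptOfFn])
  rw [hW]
  exact this

section Chain

variable {J M N : Type} [AddCommGroup M] [AddCommGroup N] {Q : RootPairing J ℤ M N} [Finite J] [Q.IsReduced]

/-- A negative pairing `-p` with `p = 2, 3` forces the opposite pairing to be `-1`. -/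
theorem pairing_neg_one {a b : J} {p : ℤ} (hp : p = 1 ∨ p = 2 ∨ p = 3) (hba : Q.pairing b a = -p)
    (h : |Q.pairing a b| ≤ |Q.pairing b a| ∨ p ≠ 1) (h2 : Q.root b ≠ -Q.root a) : Q.pairing a b = -1 := by
  have h1 : Q.root b ≠ Q.root a := fun e => by
    rw [Q.root.injective e, RootPairing.pairing_same] at hba; omega
  obtain ⟨-, -, h3⟩ := abs_pairing_le h1 h2
  have hneg := (pairing_neg_comm Q b a).1 (by omega)
  rw [hba] at h3 h
  rcases hp with rfl | rfl | rfl
  · rcases h with h | h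
    · rw [abs_of_neg hneg, abs_neg, abs_one] at h; omega
    · omega
  · omega
  · omega

theorem linInd_of_hind {a b : J} (hind : ∀ r s : ℤ, r • Q.root a + s • Q.root b = 0 → r = 0 ∧ s = 0) :
    LinearIndependent ℤ ![Q.root a, Q.root b] := LinearIndependent.pair_iff.2 hind

/-- The pairing read off the string, and the bound on its length. -/
theorem pairing_of_string {a b : J} (hind : ∀ r s : ℤ, r • Q.root a + s • Q.root b = 0 → r = 0 ∧ s = 0) (k q : ℕ)
    (hk : Q.root b - (k : ℤ) • Q.root a ∈ Set.range Q.root) (hk' : Q.root b - ((k + 1 : ℕ) : ℤ) • Q.root a ∉ Set.range Q.root)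
    (hq : Q.root b + (q : ℤ) • Q.root a ∈ Set.range Q.root)
    (hq' : q = 3 ∨ Q.root b + ((q + 1 : ℕ) : ℤ) • Q.root a ∉ Set.range Q.root) :
    Q.pairing b a = (k : ℤ) - q ∧ k + q ≤ 3 := by
  have h := linInd_of_hind hind
  rw [natCast_zsmul] at hk hk' hq hq'
  rw [Q.root_sub_nsmul_mem_range_iff_le_chainBotCoeff h] at hk hk'
  rw [Q.root_add_nsmul_mem_range_iff_le_chainTopCoeff h] at hq hq'
  have hle := Q.chainBotCoeff_add_chainTopCoeff_le_three (i := a) (j := b)
  have e := RootPairing.chainBotCoeff_sub_chainTopCoeff h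
  rw [pairingIn_eq] at e
  constructor
  · rw [← e]
    omega
  · omega

end Chain

end Groth.Agent.RedCell16
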