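import Groth.Agent.Lib.RedCell16.Unip

/-!
# The Bruhat decomposition on geometric points
-/

set_option autoImplicit false
set_option linter.style.haveILetI false
set_option linter.unusedSimpArgs false
set_option linter.unusedSectionVars false
set_option backward.isDefEq.respectTransparency false
set_option backward.isDefEq.respectTransparency.types false

universe u

open CategoryTheory CategoryTheory.Limits MonoidalCategory CartesianMonoidalCategory MonObj AlgebraicGeometry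

noncomputable section

namespace Groth.Agent.RedCell16

open DiagGL RootDLib
open RankOne (P A)

variable {S : Scheme.{u}} {G : Over S} [GrpObj G] (D : Red.SplitRed G) (b : D.P.Base)
  (nr : D.idx → (𝟙_ (Over S) ⟶ G))

/-- The positive, resp. negative, unipotent group on points. -/
abbrev Up (X : Over S) : Subgroup (X ⟶ G) := gens D (RedSub.posRoots D.P b) X

/-- The negative unipotent group on points. -/
abbrev Um (X : Over S) : Subgroup (X ⟶ G) := gens D (RedSub.negRoots D.P b) X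

/-- The point of a word. -/
abbrev Nw (l : List D.idx) : 𝟙_ (Over S) ⟶ G := (l.map nr).prod

/-- The cell `U⁻ n T U` of a word, on points. -/
def InC (X : Over S) (l : List D.idx) (g : X ⟶ G) : Prop :=
  ∃ u ∈ Um D b X, ∃ (t : X ⟶ D.T), ∃ z ∈ Up D b X, g = u * (toUnit X ≫ Nw D nr l) * ((t ≫ D.i) * z)

/-- The union of the cells. -/
def Cov (X : Over S) (g : X ⟶ G) : Prop := ∃ l, InC D b nr X l g

/-- The elements preserving the union of the cells. -/
def Stab (X : Over S) : Submonoid (X ⟶ G) where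
  carrier := {g | ∀ h, Cov D b nr X h → Cov D b nr X (g * h)}
  mul_mem' hg hg' h hh := by rw [_root_.mul_assoc]; exact hg _ (hg' h hh)
  one_mem' h hh := by rw [_root_.one_mul]; exact hh

theorem um_mem_stab {X : Over S} {u : X ⟶ G} (hu : u ∈ Um D b X) : u ∈ Stab D b nr X := by
  rintro _ ⟨l, u', hu', t, z, hz, rfl⟩
  exact ⟨l, u * u', Subgroup.mul_mem _ hu hu', t, z, hz, by simp only [_root_.mul_assoc]⟩

variable [D.P.IsReduced] (hnr : RedSub.RealisesReflections D nr)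

theorem posOf_cases (c : D.idx) : c ∈ RedSub.posRoots D.P b ∨ ng D.P c ∈ RedSub.posRoots D.P b := by
  haveI := D.fintypeIdx
  by_cases h : c ∈ RedSub.posRoots D.P b
  · exact Or.inl h
  · exact Or.inr ((RootComb21.mem_negRoots_iff_ng b c).1 ((RootComb21.mem_negRoots_iff b c).2 h))

theorem ng_mem_neg {c : D.idx} (h : c ∈ RedSub.posRoots D.P b) : ng D.P c ∈ RedSub.negRoots D.P b := by
  rw [RootComb21.mem_negRoots_iff_ng, ng_ng]; exact h

include hnr

theorem nrm_word (l : List D.idx) : Nrm D (Nw D nr l) (wprod D.P l) := Nrm.list (nrm_of_realises D hnr) l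

theorem torus_mem_stab {X : Over S} (s : X ⟶ D.T) : (s ≫ D.i) ∈ Stab D b nr X := by
  haveI := D.maximalTorus.1
  rintro _ ⟨l, u, hu, t, z, hz, rfl⟩
  obtain ⟨s', hs', -⟩ := (nrm_word D nr hnr l).inv X s
  rw [GrpObj.comp_inv, _root_.inv_inv] at hs'
  refine ⟨l, _, torus_conj_gens D s hu, s' * t, z, hz, ?_⟩
  rw [MonObj.mul_comp, ← hs']
  group

/-- A root element that the word makes positive is absorbed on the right. -/
theorem inC_of_pos {X : Over S} {l : List D.idx} {c : D.idx}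
    (hc : (wprod D.P l)⁻¹ • c ∈ RedSub.posRoots D.P b) (y : Γ(X.left, ⊤)) (t : X ⟶ D.T) {z : X ⟶ G}
    (hz : z ∈ Up D b X) {u : X ⟶ G} (hu : u ∈ Um D b X) :
    InC D b nr X l (u * (P (D.u c) y * ((toUnit X ≫ Nw D nr l) * ((t ≫ D.i) * z)))) := by
  obtain ⟨ν, hν⟩ := (nrm_word D nr hnr l).inv.cj_P D b c
  have h1 := hν X y
  rw [GrpObj.comp_inv, cj, _root_.inv_inv] at h1
  have h2 : (t ≫ D.i)⁻¹ * P (D.u ((wprod D.P l)⁻¹ • c)) (ν X * y) * (t ≫ D.i) ∈ Up D b X := by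
    haveI := D.maximalTorus.1
    have := torus_conj_gens D t⁻¹ (P_mem_gens D (R := RedSub.posRoots D.P b) hc (ν X * y))
    rwa [GrpObj.inv_comp, _root_.inv_inv] at this
  refine ⟨u, hu, t, _, Subgroup.mul_mem _ h2 hz, ?_⟩
  rw [← h1]
  group

theorem simple_mem_stab {a : D.idx} (ha : a ∈ b.support) {K : Type u} [Field K] [IsAlgClosed K]
    (x : Spec (CommRingCat.of K) ⟶ S) : (toUnit (RankOne16.kPt x) ≫ nr a) ∈ Stab D b nr (RankOne16.kPt x) := by
  haveI := D.maximalTorus.1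
  haveI := D.fintypeIdx
  haveI := (D.rootHom a).1
  have hΔ := RootComb21.isSimpleSys_support b
  set X := RankOne16.kPt x with hX
  rintro _ ⟨l, u, hu, t, z, hz, rfl⟩
  obtain ⟨bn, hbn, -⟩ := exists_negBase D b
  set na := ng D.P a with hna
  have hapos : a ∈ RedSub.posRoots D.P b := mem_posOf_of_mem ha
  obtain ⟨u', hu', w, hw, rfl⟩ := exists_split D bn (RedSub.negRoots D.P b \ {na}) {na}
    (by rw [hbn, Set.sdiff_union_self, Set.union_eq_left.2 (Set.singleton_subset_iff.2 (ng_mem_neg D b hapos))])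
    (by rw [hbn]; exact hu)
  -- the first part stays negative
  obtain ⟨hn', -⟩ : (toUnit X ≫ nr a) * u' * (toUnit X ≫ nr a)⁻¹ ∈ Um D b X ∧ True := by
    refine ⟨conj_gens D _ _ (fun d hd y => ?_) hu', trivial⟩
    obtain ⟨ν, hν⟩ := (nrm_of_realises D hnr a).cj_P D b d
    rw [← cj, hν, refl_smul]
    refine P_mem_gens D ?_ _
    have h1 := (RootComb21.mem_negRoots_iff_ng b d).1 hd.1
    have h2 := reflect_mem_posOf ha h1 (fun e => hd.2 (by
      show d = na
      rw [hna, ← e, ng_ng])) (RootComb21.root_ne_two_smul _ _) hΔ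
    rw [RootComb21.mem_negRoots_iff_ng, RootComb21.posRoots_eq]
    convert h2 using 1
    rw [← refl_smul, ← smul_ng, refl_smul]
  suffices h : Cov D b nr X ((toUnit X ≫ nr a) * (w * ((toUnit X ≫ Nw D nr l) * ((t ≫ D.i) * z)))) by
    obtain ⟨l', u'', hu'', t'', z'', hz'', e⟩ := h
    refine ⟨l', _, Subgroup.mul_mem _ hn' hu'', t'', z'', hz'', ?_⟩
    rw [show (toUnit X ≫ nr a) * u' * (toUnit X ≫ nr a)⁻¹ * u'' * (toUnit X ≫ Nw D nr l') * ((t'' ≫ D.i) * z'') =
      (toUnit X ≫ nr a) * u' * (toUnit X ≫ nr a)⁻¹ * (u'' * (toUnit X ≫ Nw D nr l') * ((t'' ≫ D.i) * z'')) by group,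
      ← e]
    group
  obtain ⟨y, rfl⟩ : ∃ y, w = P (D.u na) y := by
    haveI := (D.rootHom na).1
    refine Subgroup.closure_induction ?_ ⟨0, RankOne.P_zero.symm⟩ ?_ ?_ hw
    · rintro _ ⟨d, y, hd, rfl⟩; rw [Set.mem_singleton_iff.1 hd]; exact ⟨y, rfl⟩
    · rintro _ _ - - ⟨y1, rfl⟩ ⟨y2, rfl⟩; exact ⟨y1 + y2, (RankOne.P_add _ _).symm⟩
    · rintro _ - ⟨y1, rfl⟩; exact ⟨-y1, (RankOne.P_neg _).symm⟩
  rcases posOf_cases D b ((wprod D.P l)⁻¹ • na) with hpos | hpos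
  · obtain ⟨u1, hu1, t1, z1, hz1, e⟩ := inC_of_pos D b nr hnr hpos y t hz (Subgroup.one_mem _)
    refine ⟨a :: l, 1, Subgroup.one_mem _, ?_⟩
    obtain ⟨ν, hν⟩ := (nrm_word D nr hnr l).inv.cj_P D b na
    have h1 := hν X y
    rw [GrpObj.comp_inv, cj, _root_.inv_inv] at h1
    refine ⟨t, _, Subgroup.mul_mem _ (torus_conj_gens D t⁻¹ (P_mem_gens D hpos (ν X * y))) hz, ?_⟩
    rw [GrpObj.inv_comp, _root_.inv_inv, ← h1]
    simp only [Nw, List.map_cons, List.prod_cons, MonObj.comp_mul]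
    group
  have hpos' : (wprod D.P l)⁻¹ • a ∈ RedSub.posRoots D.P b := by rwa [← smul_ng, hna, ng_ng] at hpos
  obtain ⟨vd, cu, hcun, hvd, E⟩ := exists_dual D a
  obtain ⟨τ, hτ⟩ := (nrm_W D a E).exists_torus D b (nrm_of_realises D hnr a)
  set τX := toUnit X ≫ τ with hτX
  have hn : toUnit X ≫ nr a = RankOne16.W (D.u a) vd * (τX ≫ D.i) := by
    rw [hτ, MonObj.comp_mul, RankOne16.comp_W, hτX, Category.assoc]
  have h3 : (τX ≫ D.i) * P (D.u na) y = P (D.u na) (rt D τX na * y) * (τX ≫ D.i) := by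
    rw [← conj_P, inv_mul_cancel_right]
  set y' := rt D τX na * y with hy'
  by_cases h0 : y' = 0
  · refine ⟨a :: l, 1, Subgroup.one_mem _, t, z, hz, ?_⟩
    simp only [Nw, List.map_cons, List.prod_cons, MonObj.comp_mul]
    rw [hn, ← _root_.mul_assoc _ (P (D.u na) y),
      _root_.mul_assoc _ (τX ≫ D.i) (P (D.u na) y), h3, h0]
    haveI := (D.rootHom na).1
    rw [RankOne.P_zero]
    simp only [_root_.mul_assoc, _root_.one_mul]
  obtain ⟨k, hk⟩ := (RankOne16.isUnit_of_ne h0)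
  set m := (((cu X)⁻¹ : (Γ(X.left, ⊤))ˣ) : Γ(X.left, ⊤)) * y' with hm
  have hM : P (D.u na) y' = P vd m := by
    rw [hvd, hm, Units.mul_inv_cancel_left]
  let q : (Γ(X.left, ⊤))ˣ := (cu X)⁻¹ * k
  have hq : (q : Γ(X.left, ⊤)) = m := by rw [Units.val_mul, hk]
  have h4 : RankOne16.W (D.u a) vd * P vd m =
      P vd (-1 * ((q⁻¹ : (Γ(X.left, ⊤))ˣ) : Γ(X.left, ⊤))) * A D.i (coChar D a) q *
        P (D.u a) ((-m + 1) * ((q⁻¹ : (Γ(X.left, ⊤))ˣ) : Γ(X.left, ⊤)) + 1) := by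
    have h5 : RankOne16.W (D.u a) vd * P vd m = P (D.u a) (-m) * RankOne16.W (D.u a) vd := by
      rw [← RankOne16.W_conj_M E m, inv_mul_cancel_right]
    rw [h5, RankOne16.W, RankOne.w, RankOne.P_add ((-m + 1) * _), ← _root_.mul_assoc,
      ← _root_.mul_assoc, ← RankOne.P_add, RankOne.P_mul_M E (-m + 1) (-1) q (by rw [hq]; ring)]
    simp only [_root_.mul_assoc]
  set d := (-m + 1) * ((q⁻¹ : (Γ(X.left, ⊤))ˣ) : Γ(X.left, ⊤)) + 1 with hd
  -- push the positive element through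
  obtain ⟨d', hd'⟩ : ∃ d', P (D.u a) d * (τX ≫ D.i) = (τX ≫ D.i) * P (D.u a) d' := by
    refine ⟨rt D τX⁻¹ a * d, ?_⟩
    rw [← conj_P, GrpObj.inv_comp, _root_.inv_inv]
    group
  have hC : InC D b nr X l (1 * (P (D.u a) d' * ((toUnit X ≫ Nw D nr l) * ((t ≫ D.i) * z)))) :=
    inC_of_pos D b nr hnr hpos' d' t hz (Subgroup.one_mem _)
  rw [_root_.one_mul] at hC
  have hfin := um_mem_stab D b nr (u := P vd (-1 * ((q⁻¹ : (Γ(X.left, ⊤))ˣ) : Γ(X.left, ⊤))))
    (by rw [hvd]; exact P_mem_gens D (ng_mem_neg D b hapos) _) _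
    (torus_mem_stab D b nr hnr (GmPts.ptOfUnit q ≫ coChar D a) _ (torus_mem_stab D b nr hnr τX _ ⟨l, hC⟩))
  convert hfin using 1
  calc _ = RankOne16.W (D.u a) vd * ((τX ≫ D.i) * P (D.u na) y) * ((toUnit X ≫ Nw D nr l) * ((t ≫ D.i) * z)) := by
        rw [hn]; group
    _ = (RankOne16.W (D.u a) vd * P vd m) * (τX ≫ D.i) * ((toUnit X ≫ Nw D nr l) * ((t ≫ D.i) * z)) := by
        rw [h3, hM]; group
    _ = P vd (-1 * ((q⁻¹ : (Γ(X.left, ⊤))ˣ) : Γ(X.left, ⊤))) * A D.i (coChar D a) q *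
        (P (D.u a) d * (τX ≫ D.i)) * ((toUnit X ≫ Nw D nr l) * ((t ≫ D.i) * z)) := by
        rw [h4]; group
    _ = _ := by rw [hd']; simp only [RankOne.A, Category.assoc, _root_.mul_assoc]

variable {K : Type u} [Field K] [IsAlgClosed K] (x : Spec (CommRingCat.of K) ⟶ S)

/-- Every realiser lies in the stabiliser. -/
theorem nrm_mem_stab {g : 𝟙_ (Over S) ⟶ G} {v : D.P.Aut} (hv : v ∈ D.P.weylGroup) (hg : Nrm D g v) :
    (toUnit (RankOne16.kPt x) ≫ g) ∈ Stab D b nr (RankOne16.kPt x) := by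
  haveI := D.fintypeIdx
  rw [← closure_simple_eq (RootComb21.isSimpleSys_support b)] at hv
  obtain ⟨l, hl, rfl⟩ := exists_word hv
  obtain ⟨τ, hτ⟩ := (nrm_word D nr hnr l).exists_torus D b hg
  rw [hτ, MonObj.comp_mul, ← Category.assoc]
  refine Submonoid.mul_mem _ ?_ (torus_mem_stab D b nr hnr _)
  clear hτ hg hv
  induction l with
  | nil => simp only [Nw, List.map_nil, List.prod_nil, MonObj.comp_one]; exact Submonoid.one_mem _
  | cons c l ih =>
    simp only [Nw, List.map_cons, List.prod_cons, MonObj.comp_mul]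
    exact Submonoid.mul_mem _ (simple_mem_stab D b nr hnr (hl c List.mem_cons_self) x)
      (ih fun y hy => hl y (List.mem_cons_of_mem c hy))

theorem P_mem_stab (c : D.idx) (y : Γ((RankOne16.kPt x).left, ⊤)) :
    P (D.u c) y ∈ Stab D b nr (RankOne16.kPt x) := by
  rcases posOf_cases D b (ng D.P c) with h | h
  · exact um_mem_stab D b nr (P_mem_gens D (by have := ng_mem_neg D b h; rwa [ng_ng] at this) y)
  rw [ng_ng] at h
  have hc := nrm_of_realises D hnr c
  obtain ⟨ν, hν⟩ := hc.inv.cj_P D b c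
  rw [RootPairing.Equiv.reflection_inv, refl_smul] at hν
  have h1 := hν (RankOne16.kPt x) y
  rw [GrpObj.comp_inv, cj, _root_.inv_inv] at h1
  have hmem : RootPairing.Equiv.reflection D.P c ∈ D.P.weylGroup := RootPairing.reflection_mem_weylGroup D.P c
  have e : P (D.u c) y = (toUnit _ ≫ nr c) * P (D.u (D.P.reflectionPerm c c)) (ν _ * y) * (toUnit _ ≫ (nr c)⁻¹) := by
    rw [← h1, GrpObj.comp_inv]; group
  rw [e]
  refine Submonoid.mul_mem _ (Submonoid.mul_mem _ (nrm_mem_stab D b nr hnr x hmem hc) (um_mem_stab D b nr (P_mem_gens D ?_ _)))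
    (nrm_mem_stab D b nr hnr x (Subgroup.inv_mem _ hmem) hc.inv)
  exact ng_mem_neg D b h

theorem gens_mem_stab {R : Set D.idx} {g : RankOne16.kPt x ⟶ G} (hg : g ∈ gens D R (RankOne16.kPt x)) :
    g ∈ Stab D b nr (RankOne16.kPt x) ∧ g⁻¹ ∈ Stab D b nr (RankOne16.kPt x) := by
  refine Subgroup.closure_induction ?_ ?_ ?_ ?_ hg
  · rintro _ ⟨d, a, -, rfl⟩
    haveI := (D.rootHom d).1
    exact ⟨P_mem_stab D b nr hnr x d a, by rw [← RankOne.P_neg]; exact P_mem_stab D b nr hnr x d _⟩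
  · exact ⟨Submonoid.one_mem _, by rw [_root_.inv_one]; exact Submonoid.one_mem _⟩
  · exact fun y y' _ _ h h' => ⟨Submonoid.mul_mem _ h.1 h'.1, by rw [_root_.mul_inv_rev]; exact Submonoid.mul_mem _ h'.2 h.2⟩
  · exact fun y _ h => ⟨h.2, by rw [_root_.inv_inv]; exact h.1⟩

/-- **Every geometric point lies in a cell.** -/
theorem cov_all (g : RankOne16.kPt x ⟶ G) : Cov D b nr (RankOne16.kPt x) g := by
  haveI := D.maximalTorus.1
  obtain ⟨n, m, eneg, epos, hneg, hpos⟩ := exists_enum D b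
  haveI := isOpenImmersion_cellMap D b eneg epos hneg hpos
  obtain ⟨X', e, a, c, -, hl, hs, ha, hc, h⟩ := RankOne16.exists_cover_div (RankOne16.Rig.of_isReductive D.reductive)
    (RedSub.cellMap D eneg epos).left.opensRange (fun s => unit_mem D eneg epos s) g
  obtain ⟨s, hse⟩ := RankOne16.exists_section e
  obtain ⟨y, t, z, rfl⟩ := exists_cellPt D eneg epos hneg hpos a ha
  obtain ⟨y', t', z', rfl⟩ := exists_cellPt D eneg epos hneg hpos c hc
  have h' := congrArg (s ≫ ·) h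
  simp only [reassoc_of% hse, MonObj.comp_mul, GrpObj.comp_inv, comp_cellPt] at h'
  have hP : ∀ {k : ℕ} (f : Fin k → D.idx) (v : Fin k → Γ((RankOne16.kPt x).left, ⊤)),
      rp D f v ∈ Stab D b nr (RankOne16.kPt x) ∧ (rp D f v)⁻¹ ∈ Stab D b nr (RankOne16.kPt x) := fun f v =>
    gens_mem_stab D b nr hnr x (R := Set.univ) (rp_mem_gens D f v fun _ => trivial)
  have hT : ∀ t₀ : RankOne16.kPt x ⟶ D.T,
      (t₀ ≫ D.i) ∈ Stab D b nr (RankOne16.kPt x) ∧ (t₀ ≫ D.i)⁻¹ ∈ Stab D b nr (RankOne16.kPt x) := fun t₀ =>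
    ⟨torus_mem_stab D b nr hnr t₀, by rw [← GrpObj.inv_comp]; exact torus_mem_stab D b nr hnr _⟩
  have hC : ∀ (y₀ : Fin n → Γ((RankOne16.kPt x).left, ⊤)) (t₀ : RankOne16.kPt x ⟶ D.T)
      (z₀ : Fin m → Γ((RankOne16.kPt x).left, ⊤)), cellPt D eneg epos y₀ t₀ z₀ ∈ Stab D b nr (RankOne16.kPt x) ∧
        (cellPt D eneg epos y₀ t₀ z₀)⁻¹ ∈ Stab D b nr (RankOne16.kPt x) := fun y₀ t₀ z₀ => by
    rw [cellPt_eq, _root_.mul_inv_rev, _root_.mul_inv_rev]
    exact ⟨Submonoid.mul_mem _ (hP eneg y₀).1 (Submonoid.mul_mem _ (hT t₀).1 (hP epos z₀).1),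
      Submonoid.mul_mem _ (Submonoid.mul_mem _ (hP epos z₀).2 (hT t₀).2) (hP eneg y₀).2⟩
  have hmem : g ∈ Stab D b nr (RankOne16.kPt x) := by
    rw [h']
    exact Submonoid.mul_mem _ (hC _ _ _).1 (hC _ _ _).2
  have := hmem 1 ⟨[], 1, Subgroup.one_mem _, 1, 1, Subgroup.one_mem _, by simp [Nw, MonObj.one_comp]⟩
  rwa [_root_.mul_one] at this

end Groth.Agent.RedCell16
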