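import Groth.Agent.Lib.RedCell16.Pts
import Groth.Agent.Lib.RankOne16.CommMain
import Groth.Agent.Lib.RankOne16.Centr
import Groth.Agent.Lib.RankOne16.Centre

/-!
# Points of the big cell normalising or commuting with the torus
-/

set_option autoImplicit false
set_option linter.style.haveILetI false
set_option linter.unusedSimpArgs false
set_option backward.isDefEq.respectTransparency false
set_option backward.isDefEq.respectTransparency.types false

universe u

open CategoryTheory CategoryTheory.Limits MonoidalCategory CartesianMonoidalCategory MonObj AlgebraicGeometry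

noncomputable section

namespace Groth.Agent.RedCell16

open DiagGL

variable {S : Scheme.{u}} {G : Over S} [GrpObj G] (D : Red.SplitRed G)

/-- A point of the torus with prescribed value of a functional on the characters. -/
theorem exists_tor {X : Over S} (ℓ : D.M →+ ℤ) (w : (Γ(X.left, ⊤))ˣ) : ∃ t : X ⟶ D.T, ∀ m : D.M,
    (chars D).ch t (Multiplicative.ofAdd m) = ((w ^ ℓ m : (Γ(X.left, ⊤))ˣ) : Γ(X.left, ⊤)) := by
  obtain ⟨t, ht⟩ := (chars D).surj (T := X) ((Units.coeHom _).comp (MonoidHom.mk'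
    (fun a : Multiplicative D.M => w ^ ℓ a.toAdd) fun a b => by simp only [toAdd_mul, map_add, zpow_add]))
  exact ⟨t, fun m => by rw [ht]; rfl⟩

/-- After a cover some point of the torus moves every root group freely. -/
theorem exists_cover_rt {X : Over S} (c : D.idx) :
    ∃ (X' : Over S) (e : X' ⟶ X) (t : X' ⟶ D.T), Epi e ∧ IsUnit (rt D t c - 1) := by
  obtain ⟨ℓ, hℓ⟩ : ∃ ℓ : Module.Dual ℤ D.M, ℓ (D.P.root c) ≠ 0 :=
    ⟨D.P.coroot c, by
      have h := D.P.root_coroot_two c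
      rw [D.pairing_eq] at h
      rw [show D.P.coroot c (D.P.root c) = 2 from h]
      norm_num⟩
  let k := (ℓ (D.P.root c)).natAbs
  have hk : k ≠ 0 := Int.natAbs_ne_zero.2 hℓ
  obtain ⟨X', e, v, he, hv⟩ := RankOne16.exists_cover_poly X (Polynomial.X ^ k - 1)
    (by rw [Polynomial.coeff_sub, Polynomial.coeff_X_pow, if_neg (Ne.symm hk), Polynomial.coeff_one_zero]; simp)
  rw [Polynomial.eval₂_sub, Polynomial.eval₂_X_pow, Polynomial.eval₂_one] at hv
  obtain ⟨t, ht⟩ := exists_tor D ℓ.toAddMonoidHom v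
  refine ⟨X', e, t, he, ?_⟩
  rw [rt_eq_ch, ht]
  show IsUnit (((v ^ ℓ (D.P.root c) : (Γ(X'.left, ⊤))ˣ) : Γ(X'.left, ⊤)) - 1)
  rcases Int.natAbs_eq (ℓ (D.P.root c)) with h | h
  · rw [h, zpow_natCast, Units.val_pow_eq_pow_val]
    exact hv
  · rw [h, zpow_neg, zpow_natCast]
    have e1 : (((v ^ k)⁻¹ : (Γ(X'.left, ⊤))ˣ) : Γ(X'.left, ⊤)) - 1 =
        (((v ^ k)⁻¹ : (Γ(X'.left, ⊤))ˣ) : Γ(X'.left, ⊤)) * -((v : Γ(X'.left, ⊤)) ^ k - 1) := by
      rw [mul_neg, mul_sub, _root_.mul_one, ← Units.val_pow_eq_pow_val, Units.inv_mul]; ring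
    rw [e1]
    exact ((v ^ k)⁻¹).isUnit.mul hv.neg

/-- A coordinate fixed by the torus vanishes. -/
theorem eq_zero_of_fixed {X : Over S} (c : D.idx) (a : Γ(X.left, ⊤))
    (h : ∀ (X' : Over S) (e : X' ⟶ X) (t : X' ⟶ D.T), rt D t c * e.left.appTop a = e.left.appTop a) : a = 0 := by
  obtain ⟨X', e, t, he, hu⟩ := exists_cover_rt D (X := X) c
  refine RankOne16.fn_injective_of_epi e a 0 ?_
  rw [map_zero]
  refine hu.mul_right_eq_zero.1 ?_
  rw [sub_mul, _root_.one_mul, h X' e t, sub_self]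

variable {n m : ℕ} (eneg : Fin n → D.idx) (epos : Fin m → D.idx) {b : D.P.Base}
  (hneg : RedSub.Enumerates (RedSub.negRoots D.P b) eneg) (hpos : RedSub.Enumerates (RedSub.posRoots D.P b) epos)

include hneg hpos in
theorem cellPt_mem_torus_of_normalize {X : Over S} (y : Fin n → Γ(X.left, ⊤)) (τ : X ⟶ D.T)
    (x : Fin m → Γ(X.left, ⊤))
    (h : ∀ (X' : Over S) (e : X' ⟶ X) (t : X' ⟶ D.T), ∃ t' : X' ⟶ D.T,
      (e ≫ cellPt D eneg epos y τ x) * (t ≫ D.i) * (e ≫ cellPt D eneg epos y τ x)⁻¹ = t' ≫ D.i) :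
    y = 0 ∧ x = 0 := by
  haveI := D.maximalTorus.1
  have key : ∀ (X' : Over S) (e : X' ⟶ X) (t : X' ⟶ D.T),
      (fun k => rt D t (eneg k) * e.left.appTop (y k)) = (fun k => e.left.appTop (y k)) ∧
        (fun k => rt D t (epos k) * e.left.appTop (x k)) = (fun k => e.left.appTop (x k)) := by
    intro X' e t
    obtain ⟨t', ht'⟩ := h X' e t
    rw [comp_cellPt] at ht'
    set y' := fun k => e.left.appTop (y k)
    set x' := fun k => e.left.appTop (x k)
    set τ' := e ≫ τ
    set g := cellPt D eneg epos y' τ' x' with hg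
    have h1 : (t' ≫ D.i) * g * (t' ≫ D.i)⁻¹ = g * ((t * t'⁻¹) ≫ D.i) := by
      rw [MonObj.mul_comp, GrpObj.inv_comp, ← ht']
      group
    have h2 : g * ((t * t'⁻¹) ≫ D.i) = cellPt D eneg epos y' (τ' * (t * t'⁻¹))
        (fun k => rt D (t * t'⁻¹)⁻¹ (epos k) * x' k) := by
      rw [hg, cellPt_eq, cellPt_eq, ← conj_rp, MonObj.mul_comp τ', GrpObj.inv_comp]
      group
    rw [h2, cellPt_conj] at h1
    obtain ⟨e1, e2, e3⟩ := cellPt_inj D eneg epos hneg hpos h1
    have ht : t = t' := mul_inv_eq_one.1 (mul_left_cancel (a := τ') (by rw [_root_.mul_one]; exact e2.symm))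
    subst ht
    refine ⟨e1, ?_⟩
    have h3 : (fun k => rt D (t * t⁻¹)⁻¹ (epos k) * x' k) = x' := by
      funext k
      rw [mul_inv_cancel, inv_one, rt_eq_ch, (chars D).one, _root_.one_mul]
    rwa [h3] at e3
  exact ⟨funext fun k => eq_zero_of_fixed D (eneg k) _ fun X' e t => congrFun (key X' e t).1 k,
    funext fun k => eq_zero_of_fixed D (epos k) _ fun X' e t => congrFun (key X' e t).2 k⟩

include hneg hpos in
/-- A point commuting with the torus is a point of it. -/
theorem exists_torus_of_commute {X : Over S} (g : X ⟶ G)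
    (h : ∀ (X' : Over S) (e : X' ⟶ X) (t : X' ⟶ D.T), (e ≫ g) * (t ≫ D.i) = (t ≫ D.i) * (e ≫ g)) :
    ∃ t : X ⟶ D.T, t ≫ D.i = g := by
  obtain ⟨y, τ, x, hg⟩ := exists_cellPt D eneg epos hneg hpos g fun p => by
    obtain ⟨t, ht⟩ := RankOne16.mem_maxTorus_pt D.reductive D.maximalTorus (Red.geomPt p ≫ X.hom)
      (RankOne16.geomHom p ≫ g) fun X' e t => by rw [← Category.assoc]; exact h X' _ t
    have h1 := cellPt_mem D eneg epos 0 t 0 (IsLocalRing.closedPoint _)
    rw [cellPt_torus, ht, Over.comp_left, Scheme.Hom.comp_apply, RankOne16.geomHom_apply] at h1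
    exact h1
  obtain ⟨hy, hx⟩ := cellPt_mem_torus_of_normalize D eneg epos hneg hpos y τ x fun X' e t =>
    ⟨t, by rw [← hg, h, mul_inv_cancel_right]⟩
  exact ⟨τ, by rw [hg, hy, hx, cellPt_torus]⟩

include hneg hpos in
/-- A point of the torus killed by all roots is central. -/
theorem commute_of_rt_eq_one {X : Over S} (t : X ⟶ D.T) (ht : ∀ c, rt D t c = 1)
    (X' : Over S) (x : X' ⟶ X) (h : X' ⟶ G) : (x ≫ t ≫ D.i) * h = h * (x ≫ t ≫ D.i) := by
  obtain ⟨X'', e, a, c, he, -, -, ha, hc, hh⟩ := RankOne16.exists_cover_div (RankOne16.Rig.of_isReductive D.reductive)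
    (haveI := isOpenImmersion_cellMap D b eneg epos hneg hpos; (RedSub.cellMap D eneg epos).left.opensRange)
    (fun s => unit_mem D eneg epos s) h
  haveI := he
  have key : ∀ (k : X'' ⟶ G), (∀ p, k.left p ∈ Set.range (RedSub.cellMap D eneg epos).left) →
      Commute (e ≫ x ≫ t ≫ D.i) k := fun k hk => by
    obtain ⟨y, τ, z, rfl⟩ := exists_cellPt D eneg epos hneg hpos k hk
    have hc1 := cellPt_conj D eneg epos (e ≫ x ≫ t) y τ z
    have e1 : ∀ c, rt D (e ≫ x ≫ t) c = 1 := fun c => by rw [rt_comp, rt_comp, ht, map_one, map_one]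
    simp only [e1, _root_.one_mul] at hc1
    simp only [Category.assoc] at hc1
    exact mul_inv_eq_iff_eq_mul.1 hc1
  rw [← cancel_epi e, MonObj.comp_mul, MonObj.comp_mul, hh]
  exact ((key a ha).mul_right (key c hc).inv_right).eq

end Groth.Agent.RedCell16
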