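import Groth.Agent.Lib.RedCell16.WordStep

/-!
# Conjugated root groups, for the construction of a Chevalley system from a pinning
-/

set_option autoImplicit false
set_option linter.style.haveILetI false
set_option linter.unusedSimpArgs false
set_option linter.unusedSectionVars false
set_option backward.isDefEq.respectTransparency false
set_option backward.isDefEq.respectTransparency.types false

universe u

open CategoryTheory CategoryTheory.Limits MonoidalCategory CartesianMonoidalCategory MonObj AlgebraicGeometry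

noncomputable section

namespace Groth.Agent.RedCell16

open DiagGL RootDLib
open RankOne (P A)

variable {S : Scheme.{u}} {G : Over S} [GrpObj G]

/-- Conjugation by a point of the base, as an endomorphism of `G`. -/
def kap (g : 𝟙_ (Over S) ⟶ G) : G ⟶ G := (toUnit G ≫ g) * 𝟙 G * (toUnit G ≫ g)⁻¹

theorem comp_kap (g : 𝟙_ (Over S) ⟶ G) {X : Over S} (x : X ⟶ G) : x ≫ kap g = cj (toUnit X ≫ g) x := by
  simp only [kap, cj, MonObj.comp_mul, GrpObj.comp_inv, Category.comp_id, ← Category.assoc,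
    Subsingleton.elim (x ≫ toUnit G) (toUnit X)]

instance isIso_kap (g : 𝟙_ (Over S) ⟶ G) : IsIso (kap g) := by
  refine ⟨⟨kap g⁻¹, ?_, ?_⟩⟩ <;>
  · rw [← Category.id_comp (kap _ ≫ kap _), ← Category.assoc, comp_kap, comp_kap, cj_cj, GrpObj.comp_inv]
    simp [cj]

instance isMonHom_kap (g : 𝟙_ (Over S) ⟶ G) : IsMonHom (kap g) :=
  TorsorSch25.isMonHom_of_points _ fun X x y => by rw [comp_kap, comp_kap, comp_kap, cj_mul]

theorem P_comp_kap (u : Red.Ga S ⟶ G) (g : 𝟙_ (Over S) ⟶ G) {X : Over S} (x : Γ(X.left, ⊤)) :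
    P (u ≫ kap g) x = cj (toUnit X ≫ g) (P u x) := by
  rw [RankOne.P, ← Category.assoc, comp_kap]; rfl

variable (D : Red.SplitRed G) [D.P.IsReduced]

theorem Ac_refl (a c : D.idx) {X : Over S} (v : (Γ(X.left, ⊤))ˣ) :
    Ac D (D.P.reflectionPerm a c) v = Ac D a (v ^ (-D.P.pairing a c)) * Ac D c v := by
  haveI := D.maximalTorus.1
  show GmPts.ptOfUnit v ≫ coChar D (D.P.reflectionPerm a c) ≫ D.i =
    (GmPts.ptOfUnit (v ^ (-D.P.pairing a c)) ≫ coChar D a ≫ D.i) * (GmPts.ptOfUnit v ≫ coChar D c ≫ D.i)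
  rw [← Category.assoc (GmPts.ptOfUnit v) (coChar D (D.P.reflectionPerm a c)),
    ← Category.assoc (GmPts.ptOfUnit (v ^ (-D.P.pairing a c))) (coChar D a),
    ← Category.assoc (GmPts.ptOfUnit v) (coChar D c), ← MonObj.mul_comp]
  congr 1
  refine (chars D).inj fun w => ?_
  rw [show w = Multiplicative.ofAdd w.toAdd from rfl, (chars D).mul, ch_coChar, ch_coChar, ch_coChar,
    GmPts.unitOfPt_ptOfUnit, GmPts.unitOfPt_ptOfUnit, ← Units.val_mul]
  congr 1
  rw [← zpow_mul, ← zpow_add]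
  congr 1
  simp only [co, LinearMap.toAddMonoidHom_coe, RootPairing.coroot_reflectionPerm,
    RootPairing.coreflection_apply_coroot, map_sub, map_smul, LinearMap.sub_apply, LinearMap.smul_apply,
    LinearMap.flip_apply, smul_eq_mul]
  ring

theorem cj_Wy_Ac {a : D.idx} (E : DualPair D a) (c : D.idx) {X : Over S} (v : (Γ(X.left, ⊤))ˣ) :
    cj (Wy D a X) (Ac D c v) = Ac D (D.P.reflectionPerm a c) v := by
  rw [cj_Ac D E, Ac_refl]

theorem cj_Wd_Ac (l : List D.idx) (hl : ∀ c ∈ l, DualPair D c) (a : D.idx) {X : Over S} (v : (Γ(X.left, ⊤))ˣ) :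
    cj (toUnit X ≫ Wd D l) (Ac D a v) = Ac D (wprod D.P l • a) v := by
  induction l with
  | nil => simp [Wd, cj]
  | cons c l ih =>
    rw [Wd, List.map_cons, List.prod_cons, MonObj.comp_mul, ← cj_cj, comp_W₁, ih fun x hx => hl x (List.mem_cons_of_mem c hx),
      cj_Wy_Ac D (hl c List.mem_cons_self), wprod_cons, mul_smul, refl_smul]

theorem cj_Wd_P (b₀ : D.P.Base) (l : List D.idx) (hl : ∀ c ∈ l, DualPair D c) (a : D.idx) :
    ∃ ν : ∀ X : Over S, Γ(X.left, ⊤), ∀ (X : Over S) (x : Γ(X.left, ⊤)),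
      cj (toUnit X ≫ Wd D l) (P (D.u a) x) = P (D.u (wprod D.P l • a)) (ν X * x) := by
  induction l with
  | nil => exact ⟨fun X => 1, fun X x => by simp [Wd, cj]⟩
  | cons c l ih =>
    obtain ⟨ν, hν⟩ := ih fun x hx => hl x (List.mem_cons_of_mem c hx)
    obtain ⟨μ', -, hμ⟩ := exists_cj_coeff D b₀ (hl c List.mem_cons_self) (wprod D.P l • a) _ rfl
    refine ⟨fun X => μ' X * ν X, fun X x => ?_⟩
    rw [Wd, List.map_cons, List.prod_cons, MonObj.comp_mul, ← cj_cj, comp_W₁, hν, hμ, wprod_cons, mul_smul, refl_smul,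
      _root_.mul_assoc]

/-- The conjugate of a root group is a root group. -/
theorem isRootHom_kap (b₀ : D.P.Base) (l : List D.idx) (hl : ∀ c ∈ l, DualPair D c) (a c : D.idx)
    (hc : wprod D.P l • a = c) :
    Red.IsRootHom D.i (D.split.hom.hom.hom ≫ Red.chi S (D.P.root c)) (D.u a ≫ kap (Wd D l)) := by
  obtain ⟨hm, hcl, -⟩ := D.rootHom a
  refine ⟨inferInstance, ?_, fun X t x => ?_⟩
  · rw [Over.comp_left]
    haveI : IsIso (kap (Wd D l)).left := ((Over.forget _).mapIso (asIso (kap (Wd D l)))).isIso_hom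
    infer_instance
  obtain ⟨ν, hν⟩ := cj_Wd_P D b₀ l hl a
  refine ⟨GaPts.ptOfFn (Red.gmFn (t ≫ rootChar D c) * Red.gaFn x), ?_, GaPts.gaFn_ptOfFn _⟩
  rw [RankOne.comp_eq_P (D.u a ≫ kap (Wd D l)) x, RankOne.comp_eq_P (D.u a ≫ kap (Wd D l)), GaPts.gaFn_ptOfFn,
    P_comp_kap, P_comp_kap, hν, hν, hc, mul_left_comm, conj_P]
  rfl

section Rel

variable (D : Red.Pinning G)
  (avc : D.idx → (Red.Gm S ⟶ D.T))
  (havc : ∀ a, avc a = Red.DSmap S (D.P.coroot a).toAddMonoidHom ≫ D.split.inv.hom.hom)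
  (hpair : ∀ a ∈ D.base.support, ∀ (X : Over S) (x y : X ⟶ Red.Ga S), IsUnit (1 + Red.gaFn x * Red.gaFn y) →
      ∃ (x' y' : X ⟶ Red.Ga S) (z : X ⟶ Red.Gm S), Red.gmFn z = 1 + Red.gaFn x * Red.gaFn y ∧
        Red.gaFn x' * Red.gmFn z = Red.gaFn x ∧ Red.gaFn y' * Red.gmFn z = Red.gaFn y ∧
        (x ≫ D.u a) * (y ≫ D.u (D.P.reflectionPerm a a)) = (y' ≫ D.u (D.P.reflectionPerm a a)) * (z ≫ avc a ≫ D.i) * (x' ≫ D.u a))

/-- `g` agrees up to signs with a word of Weyl group element `v`. -/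
def Rel (g : 𝟙_ (Over S) ⟶ G) (v : D.P.Aut) : Prop :=
  ∃ l : List D.idx, (∀ c ∈ l, c ∈ D.base.support) ∧ wprod D.P l = v ∧
    (Wd D.toSplitRed l)⁻¹ * g ∈ sgnGrp D.toSplitRed

theorem Rel.word {l : List D.idx} (hl : ∀ c ∈ l, c ∈ D.base.support) : Rel D (Wd D.toSplitRed l) (wprod D.P l) :=
  ⟨l, hl, rfl, by rw [_root_.inv_mul_cancel]; exact Subgroup.one_mem _⟩

variable [D.P.IsReduced]

include havc hpair in
theorem Wd_mem_normalizer (l : List D.idx) (hl : ∀ c ∈ l, c ∈ D.base.support) :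
    Wd D.toSplitRed l ∈ Subgroup.normalizer (sgnGrp D.toSplitRed : Set (𝟙_ (Over S) ⟶ G)) :=
  Subgroup.list_prod_mem _ fun x hx => by
    obtain ⟨c, hc, rfl⟩ := List.mem_map.1 hx
    exact W₁_mem_normalizer D.toSplitRed D.base (pinned_dualPair D avc havc hpair (hl c hc))

include havc hpair in
theorem conj_mem_sgnGrp {l : List D.idx} (hl : ∀ c ∈ l, c ∈ D.base.support) {k : 𝟙_ (Over S) ⟶ G}
    (hk : k ∈ sgnGrp D.toSplitRed) : (Wd D.toSplitRed l)⁻¹ * k * Wd D.toSplitRed l ∈ sgnGrp D.toSplitRed :=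
  (Subgroup.mem_normalizer_iff''.1 (Wd_mem_normalizer D avc havc hpair l hl) k).1 hk

include havc hpair in
theorem Rel.mul {g h : 𝟙_ (Over S) ⟶ G} {v v' : D.P.Aut} (hg : Rel D g v) (hh : Rel D h v') :
    Rel D (g * h) (v * v') := by
  obtain ⟨l, hl, rfl, hk⟩ := hg
  obtain ⟨l', hl', rfl, hk'⟩ := hh
  refine ⟨l ++ l', by simpa [or_imp, forall_and] using ⟨hl, hl'⟩, wprod_append l l', ?_⟩
  have := Subgroup.mul_mem _ (conj_mem_sgnGrp D avc havc hpair hl' hk) hk'
  rw [Wd, List.map_append, List.prod_append]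
  convert this using 1
  simp only [Wd]
  group

omit [D.P.IsReduced] in
theorem wprod_reverse (l : List D.idx) : wprod D.P l.reverse = (wprod D.P l)⁻¹ := by
  induction l with
  | nil => simp
  | cons c l ih => rw [List.reverse_cons, wprod_append, ih, wprod_cons, wprod_nil, _root_.mul_one, wprod_cons, _root_.mul_inv_rev, RootPairing.Equiv.reflection_inv]

include havc hpair in
theorem Rel.inv {g : 𝟙_ (Over S) ⟶ G} {v : D.P.Aut} (hg : Rel D g v) : Rel D g⁻¹ v⁻¹ := by
  obtain ⟨l, hl, rfl, hk⟩ := hg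
  have hr : ∀ c ∈ l.reverse, c ∈ D.base.support := fun c hc => hl c (List.mem_reverse.1 hc)
  refine ⟨l.reverse, hr, wprod_reverse D l, ?_⟩
  have h1 := word_mod D avc havc hpair (l ++ l.reverse) [] (by simpa [or_imp, forall_and] using hl) (by simp)
    (by rw [wprod_append, wprod_reverse, _root_.mul_inv_cancel, wprod_nil])
  rw [Wd, List.map_append, List.prod_append] at h1
  have := Subgroup.mul_mem _ (conj_mem_sgnGrp D avc havc hpair hr (Subgroup.inv_mem _ hk)) h1
  convert this using 1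
  simp only [Wd, List.map_nil, List.prod_nil]
  group

include havc hpair in
theorem Rel.sgn {g : 𝟙_ (Over S) ⟶ G} {v : D.P.Aut} (hg : Rel D g v) {a a₀ : D.idx} (ha : a ∈ D.base.support)
    (ha₀ : a₀ ∈ D.base.support) (hv : v • a = a₀) : Sgn D.toSplitRed g a a₀ := by
  obtain ⟨l, hl, rfl, hk⟩ := hg
  exact sgn_congr D.toSplitRed hk (word_sign D avc havc hpair l hl ha ha₀ hv)

end Rel

end Groth.Agent.RedCell16
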