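import Groth.Agent.Lib.RedCell16.WeightApps
import Groth.Agent.Lib.RankOne16.Weyl
import Groth.Agent.Lib.RankOne16.UnitVal
import Groth.Agent.Lib.RootD.Weyl

/-!
# Conjugation of root groups by the Weyl elements of simple roots
-/

set_option autoImplicit false
set_option linter.style.haveILetI false
set_option linter.unusedSimpArgs false
set_option backward.isDefEq.respectTransparency false
set_option backward.isDefEq.respectTransparency.types false

universe u

open CategoryTheory CategoryTheory.Limits MonoidalCategory CartesianMonoidalCategory MonObj AlgebraicGeometry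

noncomputable section

namespace Groth.Agent.RedCell16

open DiagGL RootDLib
open RankOne (P A)

variable {S : Scheme.{u}} {G : Over S} [GrpObj G] (D : Red.SplitRed G)

/-- The coroot cocharacter. -/
abbrev coChar (a : D.idx) : Red.Gm S ⟶ D.T :=
  Red.DSmap S (D.P.coroot a).toAddMonoidHom ≫ D.split.inv.hom.hom

theorem ch_coChar (a : D.idx) {X : Over S} (z : X ⟶ Red.Gm S) (x : D.M) :
    (chars D).ch (z ≫ coChar D a) (Multiplicative.ofAdd x) =
      ((GmPts.unitOfPt z ^ co D a x : (Γ(X.left, ⊤))ˣ) : Γ(X.left, ⊤)) := by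
  have h1 : (z : X ⟶ Red.DS S ℤ) ≫ Red.chi S (1 : ℤ) = z := by
    refine (charsDS S ℤ).inj fun w => ?_
    rw [show Red.chi S (1 : ℤ) = Red.DSmap S (zmultiplesHom ℤ (1 : ℤ)) from rfl]
    rw [DSmap_ch]
    congr 1
    show Multiplicative.ofAdd (w.toAdd • (1 : ℤ)) = w
    simp
  have h2 : ∀ j : ℤ, (charsDS S ℤ).ch z (Multiplicative.ofAdd j) =
      ((GmPts.unitOfPt z ^ j : (Γ(X.left, ⊤))ˣ) : Γ(X.left, ⊤)) := fun j => by
    let f : Multiplicative ℤ →* (Γ(X.left, ⊤))ˣ := ((charsDS S ℤ).ch z).toHomUnits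
    have hf : f (Multiplicative.ofAdd 1) = GmPts.unitOfPt z := Units.ext (by
      show (charsDS S ℤ).ch z (Multiplicative.ofAdd 1) = _
      rw [← AttrBorel21.gmFn_chi, h1]
      rfl)
    have e : f (Multiplicative.ofAdd j) = f (Multiplicative.ofAdd 1) ^ j := by
      rw [← map_zpow, ← ofAdd_zsmul, smul_eq_mul, _root_.mul_one]
    rw [← hf, ← e]
    rfl
  have h3 : (z ≫ coChar D a) ≫ D.split.hom.hom.hom = z ≫ Red.DSmap S (D.P.coroot a).toAddMonoidHom := by
    simp only [coChar, Category.assoc]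
    rw [show D.split.inv.hom.hom ≫ D.split.hom.hom.hom = 𝟙 _ from congrArg (fun f => f.hom.hom) D.split.inv_hom_id,
      Category.comp_id]
  show (charsDS S D.M).ch ((z ≫ coChar D a) ≫ D.split.hom.hom.hom) _ = _
  rw [h3, DSmap_ch]
  exact h2 _

instance isMonHom_coChar (a : D.idx) : IsMonHom (coChar D a) :=
  TorsorSch25.isMonHom_of_points (G := Red.Gm S) (G' := D.T) (coChar D a) fun X z z' => (chars D).inj fun w => by
    rw [(chars D).mul, show w = Multiplicative.ofAdd w.toAdd from rfl, ch_coChar, ch_coChar, ch_coChar,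
      GmPts.unitOfPt_mul, mul_zpow, Units.val_mul]

theorem coChar_rootChar (a : D.idx) : coChar D a ≫ rootChar D a = (𝟙 (Red.Gm S)) ^ 2 := by
  apply GmPts.gmFn_injective
  show Red.gmFn (coChar D a ≫ rootChar D a) = Red.gmFn ((𝟙 (Red.Gm S)) ^ 2)
  have h := ch_coChar D a (𝟙 (Red.Gm S)) (D.P.root a)
  rw [Category.id_comp, ← chars_chi, co_self] at h
  rw [pow_two, GmPts.gmFn_mul, show Red.gmFn (𝟙 (Red.Gm S)) = ((GmPts.unitOfPt (𝟙 (Red.Gm S)) : (Γ((Red.Gm S).left, ⊤))ˣ) : Γ((Red.Gm S).left, ⊤)) from (GmPts.val_unitOfPt _).symm]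
  rw [show (2 : ℤ) = 1 + 1 from rfl, zpow_add, zpow_one, Units.val_mul] at h
  exact h

/-- The rank one datum of a root with a dual pair of root groups. -/
theorem datum_of_pair (a : D.idx)
    (hF : ∀ (X : Over S) (x y : X ⟶ Red.Ga S), IsUnit (1 + Red.gaFn x * Red.gaFn y) →
      ∃ (x' y' : X ⟶ Red.Ga S) (z : X ⟶ Red.Gm S), Red.gmFn z = 1 + Red.gaFn x * Red.gaFn y ∧
        Red.gaFn x' * Red.gmFn z = Red.gaFn x ∧ Red.gaFn y' * Red.gmFn z = Red.gaFn y ∧
        (x ≫ D.u a) * (y ≫ D.u (D.P.reflectionPerm a a)) =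
          (y' ≫ D.u (D.P.reflectionPerm a a)) * (z ≫ coChar D a ≫ D.i) * (x' ≫ D.u a)) :
    RankOne.Datum D.i (rootChar D a) (D.u a) (D.u (D.P.reflectionPerm a a)) (coChar D a) :=
  ⟨D.maximalTorus.1, (D.rootHom a).1, (D.rootHom _).1, isMonHom_coChar D a,
    fun X t x => (D.rootHom a).2.2 X t x, conj_neg D a, coChar_rootChar D a, hF⟩

variable (a : D.idx) {pm : Red.Ga S ⟶ G}
  (E : RankOne.Datum D.i (rootChar D a) (D.u a) pm (coChar D a))

include E in
/-- **A Weyl element carries the root group of `c` onto that of `s c`.** -/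
theorem exists_weyl_conj [D.P.IsReduced] (b : D.P.Base) (c : D.idx) : ∃ ν : ∀ X : Over S, (Γ(X.left, ⊤))ˣ,
    ∀ (X : Over S) (x : Γ(X.left, ⊤)),
      P (D.u (D.P.reflectionPerm a c)) x =
        RankOne16.W (D.u a) pm * P (D.u c) ((((ν X)⁻¹ : (Γ(X.left, ⊤))ˣ) : Γ(X.left, ⊤)) * x) *
          (RankOne16.W (D.u a) pm)⁻¹ := by
  haveI := D.maximalTorus.1
  haveI := (D.rootHom c).1
  haveI := E.hom_pp
  haveI := E.hom_pm
  haveI := E.hom_av
  haveI := mono_u D c
  set d := D.P.reflectionPerm a c with hd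
  let W : ∀ X : Over S, X ⟶ G := fun X => RankOne16.W (D.u a) pm
  let V : ∀ X : Over S, Γ(X.left, ⊤) → (X ⟶ G) := fun X x => W X * P (D.u c) x * (W X)⁻¹
  have hconj : ∀ (X : Over S) (t : X ⟶ D.T) (x : Γ(X.left, ⊤)),
      (t ≫ D.i) * V X x * (t ≫ D.i)⁻¹ = V X (rt D t d * x) := fun X t x => by
    set t' := (GmPts.ptOfUnit (GmPts.unitOfPt (t ≫ rootChar D a)) ≫ coChar D a)⁻¹ * t with ht'
    have h1 : W X * (t ≫ D.i) * (W X)⁻¹ = t' ≫ D.i := by
      rw [RankOne16.W_conj_T E t, ht', MonObj.mul_comp, GrpObj.inv_comp, RankOne.A]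
      simp only [Category.assoc]
    have hA : Commute (W X * W X) (t ≫ D.i) := by
      show _ * _ = _ * _
      rw [RankOne16.W_mul_W E, RankOne.A, ← Category.assoc, ← MonObj.mul_comp, ← MonObj.mul_comp, torus_comm]
    have h2 : (W X)⁻¹ * (t ≫ D.i) * W X = t' ≫ D.i := by
      rw [← h1]
      calc _ = (W X)⁻¹ * ((t ≫ D.i) * (W X * W X)) * (W X)⁻¹ := by group
        _ = (W X)⁻¹ * ((W X * W X) * (t ≫ D.i)) * (W X)⁻¹ := by rw [hA.eq]
        _ = _ := by group
    have h3 : rt D t' c = rt D t d := by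
      have hroot : D.P.root d = D.P.root c - co D a (D.P.root c) • D.P.root a := by
        rw [hd, D.P.root_reflectionPerm, RootPairing.reflection_apply]
        congr 2
        show D.P.toLinearMap (D.P.root c) (D.P.coroot a) = _
        rw [D.pairing_eq]
        rfl
      rw [rt_eq_ch, rt_eq_ch, ht', (chars D).mul, hroot]
      have e1 : ∀ y : X ⟶ D.T, (chars D).ch y⁻¹ (Multiplicative.ofAdd (D.P.root c)) *
          (chars D).ch y (Multiplicative.ofAdd (D.P.root c)) = 1 := fun y => by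
        rw [← (chars D).mul, inv_mul_cancel, (chars D).one]
      have e2 := e1 (GmPts.ptOfUnit (GmPts.unitOfPt (t ≫ rootChar D a)) ≫ coChar D a)
      rw [ch_coChar, GmPts.unitOfPt_ptOfUnit] at e2
      let f : Multiplicative D.M →* (Γ(X.left, ⊤))ˣ := ((chars D).ch t).toHomUnits
      have e3 : GmPts.unitOfPt (t ≫ rootChar D a) = f (Multiplicative.ofAdd (D.P.root a)) :=
        Units.ext (chars_chi D t _)
      rw [Units.mul_eq_one_iff_eq_inv.1 e2, e3, sub_eq_add_neg, ofAdd_add, map_mul, ← neg_smul, ofAdd_zsmul,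
        ← zpow_neg]
      show (((f (Multiplicative.ofAdd (D.P.root a))) ^ (-(co D a (D.P.root c))) : (Γ(X.left, ⊤))ˣ) : Γ(X.left, ⊤)) *
        (f (Multiplicative.ofAdd (D.P.root c)) : Γ(X.left, ⊤)) = (f (Multiplicative.ofAdd (D.P.root c)) : Γ(X.left, ⊤)) *
          (f ((Multiplicative.ofAdd (D.P.root a)) ^ (-(co D a (D.P.root c)))) : Γ(X.left, ⊤))
      rw [map_zpow, _root_.mul_comm]
    show (t ≫ D.i) * (W X * P (D.u c) x * (W X)⁻¹) * (t ≫ D.i)⁻¹ = _
    have h4 : (t ≫ D.i) * W X = W X * (t' ≫ D.i) := by rw [← h2]; group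
    calc _ = ((t ≫ D.i) * W X) * P (D.u c) x * ((t ≫ D.i) * W X)⁻¹ := by group
      _ = W X * ((t' ≫ D.i) * P (D.u c) x * (t' ≫ D.i)⁻¹) * (W X)⁻¹ := by rw [h4]; group
      _ = _ := by rw [conj_P, h3]
  obtain ⟨ν, hν, hV⟩ := exists_coeff_root D b d V
    (fun X X' g x => by simp only [V, W, MonObj.comp_mul, GrpObj.comp_inv, RankOne.comp_P, RankOne16.comp_W])
    (fun X => by simp only [V, RankOne.P_zero, _root_.mul_one, mul_inv_cancel]) hconj
  have hu : ∀ X : Over S, IsUnit (ν X) := fun X => RankOne16.isUnit_of_geom _ fun p hp => by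
    rw [hν] at hp
    have h := hV _ (1 : Γ((RankOne16.kPt (Red.geomPt p ≫ X.hom)).left, ⊤))
    haveI := (D.rootHom d).1
    simp only [V, hp, zero_mul, RankOne.P_zero, mul_inv_eq_one, mul_eq_left] at h
    rw [← RankOne.P_zero (f := D.u c)] at h
    have h2 := congrArg Red.gaFn ((cancel_mono (D.u c)).1 h)
    rw [GaPts.gaFn_ptOfFn, GaPts.gaFn_ptOfFn] at h2
    obtain ⟨v, hv⟩ := RankOne16.exists_zpow_ne_one (K := AlgebraicClosure (X.left.residueField p)) (Red.geomPt p ≫ X.hom) 1 one_ne_zero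
    haveI := subsingleton_of_zero_eq_one h2.symm
    exact hv (Units.ext (Subsingleton.elim _ _))
  refine ⟨fun X => (hu X).unit, fun X x => ?_⟩
  have h := hV X (((((hu X).unit)⁻¹ : (Γ(X.left, ⊤))ˣ) : Γ(X.left, ⊤)) * x)
  rw [← _root_.mul_assoc (ν X), IsUnit.mul_val_inv, _root_.one_mul] at h
  exact h.symm

end Groth.Agent.RedCell16
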