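import Groth.Agent.Lib.RedCell16.PairRoots
import Groth.Agent.Lib.RedCell16.CommOrd
import Groth.Agent.Lib.RedCell16.Conj

/-!
# Rank two computations: generalities
-/

set_option autoImplicit false
set_option linter.style.haveILetI false
set_option linter.unusedSimpArgs false
set_option linter.unusedSectionVars false
set_option backward.isDefEq.respectTransparency false
set_option backward.isDefEq.respectTransparency.types false

universe u

open CategoryTheory CategoryTheory.Limits MonoidalCategory CartesianMonoidalCategory MonObj AlgebraicGeometry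

noncomputable section

namespace Groth.Agent.RedCell16

open DiagGL RootDLib
open RankOne (P A)

variable {S : Scheme.{u}} {G : Over S} [GrpObj G] (D : Red.SplitRed G)

/-- The root groups of `a` and `-a` are dual. -/
abbrev DualPair (a : D.idx) : Prop :=
  RankOne.Datum D.i (rootChar D a) (D.u a) (D.u (ng D.P a)) (coChar D a)

/-- The Weyl element of `a`. -/
abbrev Wy (a : D.idx) (X : Over S) : X ⟶ G := RankOne16.W (D.u a) (D.u (ng D.P a))

/-- Conjugation. -/
abbrev cj {X : Over S} (g w : X ⟶ G) : X ⟶ G := g * w * g⁻¹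

theorem comp_Wy (a : D.idx) {X X' : Over S} (g : X' ⟶ X) : g ≫ Wy D a X = Wy D a X' := RankOne16.comp_W g

theorem cj_mul {X : Over S} (g w w' : X ⟶ G) : cj g (w * w') = cj g w * cj g w' := by simp only [cj]; group

theorem cj_cj {X : Over S} (g g' w : X ⟶ G) : cj g (cj g' w) = cj (g * g') w := by simp only [cj]; group

theorem cj_comm {X : Over S} (g p q : X ⟶ G) :
    cj g (p * q * p⁻¹ * q⁻¹) = cj g p * cj g q * (cj g p)⁻¹ * (cj g q)⁻¹ := by simp only [cj]; group

theorem refl_root (c d : D.idx) {X : Over S} (v : (Γ(X.left, ⊤))ˣ) :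
    rt D (GmPts.ptOfUnit v ≫ coChar D c) d = ((v ^ D.P.pairing d c : (Γ(X.left, ⊤))ˣ) : Γ(X.left, ⊤)) := by
  rw [rt_eq_ch, ch_coChar, GmPts.unitOfPt_ptOfUnit, co_root]

theorem cj_Wy_Wy {a : D.idx} (E : DualPair D a) (c : D.idx) (X : Over S) (x : Γ(X.left, ⊤)) (k : ℤ)
    (hk : D.P.pairing c a = k) :
    cj (Wy D a X) (cj (Wy D a X) (P (D.u c) x)) =
      P (D.u c) ((((-1 : (Γ(X.left, ⊤))ˣ) ^ k : (Γ(X.left, ⊤))ˣ) : Γ(X.left, ⊤)) * x) := by
  haveI := D.maximalTorus.1
  rw [cj_cj, cj, RankOne16.W_mul_W E, A, ← Category.assoc, conj_P, refl_root, hk]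

theorem cj_self {a : D.idx} (E : DualPair D a) (X : Over S) (x : Γ(X.left, ⊤)) :
    cj (Wy D a X) (P (D.u a) x) = P (D.u (ng D.P a)) (-x) ∧
      cj (Wy D a X) (P (D.u (ng D.P a)) x) = P (D.u a) (-x) :=
  ⟨RankOne16.W_conj_P E x, RankOne16.W_conj_M E x⟩

variable [D.P.IsReduced]

theorem commute_Wy (b₀ : D.P.Base) {a c : D.idx} (hp : D.P.root a + D.P.root c ∉ Set.range D.P.root)
    (hm : D.P.root c - D.P.root a ∉ Set.range D.P.root) (hp0 : D.P.root a + D.P.root c ≠ 0)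
    (hm0 : D.P.root c - D.P.root a ≠ 0) (X : Over S) (x : Γ(X.left, ⊤)) :
    cj (Wy D a X) (P (D.u c) x) = P (D.u c) x := by
  have h1 : ∀ y, Commute (P (D.u a) y : X ⟶ G) (P (D.u c) x) := fun y =>
    commute_rootGroups D b₀ a c hp0 hp X y x
  have h2 : ∀ y, Commute (P (D.u (ng D.P a)) y : X ⟶ G) (P (D.u c) x) := fun y =>
    commute_rootGroups D b₀ (ng D.P a) c (by rw [root_ng, neg_add_eq_sub]; exact hm0)
      (by rw [root_ng, neg_add_eq_sub]; exact hm) X y x
  have h : Commute (Wy D a X) (P (D.u c) x) := ((h1 _).mul_left (h2 _)).mul_left (h1 _)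
  rw [cj, h.eq, mul_inv_cancel_right]

/-- The coefficient of the conjugation by a Weyl element. -/
theorem exists_cj_coeff (b₀ : D.P.Base) {a : D.idx} (E : DualPair D a) (c d : D.idx)
    (hd : D.P.reflectionPerm a c = d) :
    ∃ ν : ∀ X : Over S, Γ(X.left, ⊤), (∀ (X X' : Over S) (g : X' ⟶ X), g.left.appTop (ν X) = ν X') ∧
      ∀ (X : Over S) (x : Γ(X.left, ⊤)), cj (Wy D a X) (P (D.u c) x) = P (D.u d) (ν X * x) := by
  obtain ⟨ν, hν⟩ := exists_weyl_conj D a E b₀ c
  have key : ∀ (X : Over S) (x : Γ(X.left, ⊤)), cj (Wy D a X) (P (D.u c) x) = P (D.u d) ((ν X : Γ(X.left, ⊤)) * x) :=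
    fun X x => by rw [← hd, hν X, Units.inv_mul_cancel_left]
  refine ⟨fun X => (ν X : Γ(X.left, ⊤)), fun X X' g => ?_, key⟩
  have h := congrArg (g ≫ ·) (key X 1)
  simp only [cj, MonObj.comp_mul, GrpObj.comp_inv, RankOne.comp_P, comp_Wy, map_one, map_mul, _root_.mul_one] at h
  haveI := mono_u D d
  have h2 := congrArg Red.gaFn ((cancel_mono (D.u d)).1 (h.symm.trans (key X' 1)))
  rwa [GaPts.gaFn_ptOfFn, GaPts.gaFn_ptOfFn, _root_.mul_one] at h2

theorem rp_three {X : Over S} (e : Fin 3 → D.idx) (v : Fin 3 → Γ(X.left, ⊤)) :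
    rp D e v = P (D.u (e 0)) (v 0) * (P (D.u (e 1)) (v 1) * P (D.u (e 2)) (v 2)) := by
  simp [rp_eq_prod, List.ofFn_succ]

theorem rp_two {X : Over S} (e : Fin 2 → D.idx) (v : Fin 2 → Γ(X.left, ⊤)) :
    rp D e v = P (D.u (e 0)) (v 0) * P (D.u (e 1)) (v 1) := by
  simp [rp_eq_prod, List.ofFn_succ]

theorem rp_four {X : Over S} (e : Fin 4 → D.idx) (v : Fin 4 → Γ(X.left, ⊤)) :
    rp D e v = P (D.u (e 0)) (v 0) * (P (D.u (e 1)) (v 1) * (P (D.u (e 2)) (v 2) * P (D.u (e 3)) (v 3))) := by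
  simp [rp_eq_prod, List.ofFn_succ]

theorem rp_five {X : Over S} (e : Fin 5 → D.idx) (v : Fin 5 → Γ(X.left, ⊤)) :
    rp D e v = P (D.u (e 0)) (v 0) *
      (P (D.u (e 1)) (v 1) * (P (D.u (e 2)) (v 2) * (P (D.u (e 3)) (v 3) * P (D.u (e 4)) (v 4)))) := by
  simp [rp_eq_prod, List.ofFn_succ]

omit [D.P.IsReduced] in
/-- A natural polynomial `A T + B T²` vanishes only for vanishing coefficients. -/
theorem quad_eq_zero (N₁ N₂ : ∀ X : Over S, Γ(X.left, ⊤))
    (h₁ : ∀ (X X' : Over S) (g : X' ⟶ X), g.left.appTop (N₁ X) = N₁ X')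
    (h₂ : ∀ (X X' : Over S) (g : X' ⟶ X), g.left.appTop (N₂ X) = N₂ X')
    (h : ∀ (X : Over S) (u : Γ(X.left, ⊤)), N₁ X * u + N₂ X * u ^ 2 = 0) (X : Over S) :
    N₁ X = 0 ∧ N₂ X = 0 := by
  have key : ∀ (R : Type u) [CommRing R] (φ : Spec (CommRingCat.of R) ⟶ S),
      N₁ (RankOne16.sp φ) = 0 ∧ N₂ (RankOne16.sp φ) = 0 := fun R _ φ => by
    obtain ⟨r₁, e₁⟩ := (RankOne16.fn φ).surjective (N₁ (RankOne16.sp φ))
    obtain ⟨r₂, e₂⟩ := (RankOne16.fn φ).surjective (N₂ (RankOne16.sp φ))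
    let ψ := Spec.map (CommRingCat.ofHom (Polynomial.C : R →+* Polynomial R)) ≫ φ
    have hh := h (RankOne16.sp ψ) (RankOne16.fn ψ Polynomial.X)
    rw [← h₁ _ _ (RankOne16.spMap φ (Polynomial.C : R →+* Polynomial R)), ← h₂ _ _ (RankOne16.spMap φ (Polynomial.C : R →+* Polynomial R)),
      ← e₁, ← e₂, RankOne16.spMap_fn, RankOne16.spMap_fn, ← map_pow, ← map_mul, ← map_mul, ← map_add,
      map_eq_zero_iff _ (RankOne16.fn ψ).injective] at hh
    have c1 := congrArg (fun q => Polynomial.coeff q 1) hh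
    have c2 := congrArg (fun q => Polynomial.coeff q 2) hh
    simp [Polynomial.coeff_X] at c1 c2
    rw [← e₁, ← e₂, c1, c2, map_zero]
    exact ⟨rfl, rfl⟩
  exact ⟨RankOne16.ext_of_affine fun R _ φ e => by rw [h₁, map_zero]; exact (key R φ).1,
    RankOne16.ext_of_affine fun R _ φ e => by rw [h₂, map_zero]; exact (key R φ).2⟩

section Roots

variable {D} {a b : D.idx} {p : ℤ}

omit [D.P.IsReduced] in
theorem root_coords_a (a b : D.idx) : D.P.root a = (1 : ℤ) • D.P.root a + (0 : ℤ) • D.P.root b := by simp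

omit [D.P.IsReduced] in
theorem root_coords_b (a b : D.idx) : D.P.root b = (0 : ℤ) • D.P.root a + (1 : ℤ) • D.P.root b := by simp

omit [D.P.IsReduced] in
theorem root_coords_ng {a b c : D.idx} {i j : ℤ} (h : D.P.root c = i • D.P.root a + j • D.P.root b) :
    D.P.root (ng D.P c) = (-i) • D.P.root a + (-j) • D.P.root b := by
  rw [root_ng, h, neg_add, neg_smul, neg_smul]

omit [D.P.IsReduced] in
theorem PairSys.root_refl_a (h : PairSys D.P a b p) {c : D.idx} {i j : ℤ}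
    (hc : D.P.root c = i • D.P.root a + j • D.P.root b) :
    D.P.root (D.P.reflectionPerm a c) = (p * j - i) • D.P.root a + j • D.P.root b := by
  rw [root_refl, ← RootPairing.root_coroot'_eq_pairing, hc, (h.coroot_eval i j).1]
  simp only [sub_smul, mul_smul, two_smul]; abel

omit [D.P.IsReduced] in
theorem PairSys.root_refl_b (h : PairSys D.P a b p) {c : D.idx} {i j : ℤ}
    (hc : D.P.root c = i • D.P.root a + j • D.P.root b) :
    D.P.root (D.P.reflectionPerm b c) = i • D.P.root a + (i - j) • D.P.root b := by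
  rw [root_refl, ← RootPairing.root_coroot'_eq_pairing, hc, (h.coroot_eval i j).2]
  simp only [sub_smul, mul_smul, two_smul]; abel

omit [D.P.IsReduced] in
theorem eq_of_coords {c d : D.idx} {i j : ℤ} (hc : D.P.root c = i • D.P.root a + j • D.P.root b)
    (hd : D.P.root d = i • D.P.root a + j • D.P.root b) : c = d := D.P.root.injective (hc.trans hd.symm)

/-- The combinations of two roots of the span lie in the list. -/
theorem PairSys.comb_mem (h : PairSys D.P a b p) {x y d : D.idx} {x1 x2 y1 y2 : ℤ} {i j : ℕ}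
    (hx : D.P.root x = x1 • D.P.root a + x2 • D.P.root b) (hy : D.P.root y = y1 • D.P.root a + y2 • D.P.root b)
    (hd : IsComb D x y d i j) :
    ((i : ℤ) * x1 + j * y1, (i : ℤ) * x2 + j * y2) ∈ pairList p ∧
      D.P.root d = ((i : ℤ) * x1 + j * y1) • D.P.root a + ((i : ℤ) * x2 + j * y2) • D.P.root b := by
  haveI := D.fintypeIdx
  have e : D.P.root d = ((i : ℤ) * x1 + j * y1) • D.P.root a + ((i : ℤ) * x2 + j * y2) • D.P.root b := by
    rw [hd.2.2, hx, hy]; simp only [smul_add, add_smul, mul_smul]; abel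
  exact ⟨h.mem_list e, e⟩

theorem PairSys.notMem (h : PairSys D.P a b p) {i j : ℤ} (hij : (i, j) ∉ pairList p) :
    i • D.P.root a + j • D.P.root b ∉ Set.range D.P.root := fun ⟨d, hd⟩ => by
  haveI := D.fintypeIdx
  exact hij (h.mem_list hd)

theorem PairSys.commute_root (h : PairSys D.P a b p) (b₀ : D.P.Base) {x y : D.idx} {x1 x2 y1 y2 : ℤ}
    (hx : D.P.root x = x1 • D.P.root a + x2 • D.P.root b) (hy : D.P.root y = y1 • D.P.root a + y2 • D.P.root b)
    (h0 : (x1 + y1, x2 + y2) ≠ 0) (hn : (x1 + y1, x2 + y2) ∉ pairList p) (X : Over S) (s t : Γ(X.left, ⊤)) :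
    Commute (P (D.u x) s : X ⟶ G) (P (D.u y) t) := by
  have e : D.P.root x + D.P.root y = (x1 + y1) • D.P.root a + (x2 + y2) • D.P.root b := by
    rw [hx, hy]; simp only [add_smul]; abel
  refine commute_rootGroups D b₀ x y (fun he => h0 ?_) (e ▸ h.notMem hn) X s t
  haveI := D.fintypeIdx
  obtain ⟨e1, e2⟩ := h.coords_inj (e ▸ he)
  simp [e1, e2]

omit [D.P.IsReduced] in
theorem PairSys.exists_pos [D.P.IsReduced] (h : PairSys D.P a b p) (b₀ : D.P.Base) (s t : ℤ) :
    ∃ b' : D.P.Base, ∀ (x : D.idx) (i j : ℤ), D.P.root x = i • D.P.root a + j • D.P.root b → 0 < s * i + t * j →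
      x ∈ RedSub.posRoots D.P b' := by
  haveI := D.fintypeIdx
  let f : D.M →+ ℤ := (2 * s + t) • co D a + (p * s + 2 * t) • co D b
  have hf : ∀ {c : D.idx} {i j : ℤ}, D.P.root c = i • D.P.root a + j • D.P.root b →
      f (D.P.root c) = (4 - p) * (s * i + t * j) := fun {c i j} hc => by
    have e1 : co D a (D.P.root c) = 2 * i - p * j := by
      rw [co_root, ← RootPairing.root_coroot'_eq_pairing, hc, (h.coroot_eval i j).1]
    have e2 : co D b (D.P.root c) = 2 * j - i := by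
      rw [co_root, ← RootPairing.root_coroot'_eq_pairing, hc, (h.coroot_eval i j).2]
    simp only [f, AddMonoidHom.add_apply, AddMonoidHom.smul_apply, e1, e2, smul_eq_mul]
    ring
  obtain ⟨b', hb'⟩ := exists_base_pos b₀ f
  have h4 : 0 < 4 - p := by rcases h.hp with rfl | rfl | rfl <;> norm_num
  exact ⟨b', fun x i j hx hpos => hb' x (by rw [hf hx]; positivity)⟩

theorem PairSys.coords_injective (h : PairSys D.P a b p) {k : ℕ} (e : Fin k → D.idx) (c : Fin k → ℤ × ℤ)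
    (hc : ∀ l, D.P.root (e l) = (c l).1 • D.P.root a + (c l).2 • D.P.root b) (hinj : Function.Injective c) :
    Function.Injective e := fun l l' he => hinj (by
  haveI := D.fintypeIdx
  obtain ⟨e1, e2⟩ := h.coords_ext ((hc l).symm.trans ((congrArg D.P.root he).trans (hc l')))
  exact Prod.ext e1 e2)

/-- The roots in an open half plane give coordinates, in any order. -/
theorem PairSys.rp_inj (h : PairSys D.P a b p) (b₀ : D.P.Base) (s t : ℤ) {k : ℕ} (e : Fin k → D.idx)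
    (c : Fin k → ℤ × ℤ) (hc : ∀ l, D.P.root (e l) = (c l).1 • D.P.root a + (c l).2 • D.P.root b)
    (hinj : Function.Injective c) (hpos : ∀ l, 0 < s * (c l).1 + t * (c l).2)
    (hall : ∀ v ∈ pairList p, 0 < s * v.1 + t * v.2 → ∃ l, c l = v)
    {X : Over S} {v v' : Fin k → Γ(X.left, ⊤)} (he : rp D e v = rp D e v') : v = v' := by
  obtain ⟨b', hb'⟩ := h.exists_pos b₀ s t
  obtain ⟨n, m, eneg, epos, hneg, hposE⟩ := exists_enum D b'
  refine RedCell16.rp_inj D eneg epos hneg hposE (Set.range e) ?_ ?_ X e (h.coords_injective e c hc hinj)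
    (fun l => ⟨l, rfl⟩) v v' he
  · rintro _ ⟨l, rfl⟩
    exact hb' _ _ _ (hc l) (hpos l)
  · rintro _ _ d i j ⟨l1, rfl⟩ ⟨l2, rfl⟩ hd
    obtain ⟨hm, e'⟩ := h.comb_mem (hc l1) (hc l2) hd
    obtain ⟨l, hl⟩ := hall _ hm (by
      have := hpos l1
      have := hpos l2
      have h1 : (0 : ℤ) < i := by exact_mod_cast hd.1
      have h2 : (0 : ℤ) < j := by exact_mod_cast hd.2.1
      simp only
      nlinarith)
    exact ⟨l, eq_of_coords (hc l) (by rw [hl]; exact e')⟩

/-- The commutator formula for two roots of the span. -/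
theorem PairSys.exists_comm (h : PairSys D.P a b p) (b₀ : D.P.Base) (s t : ℤ) {x y : D.idx} (cx cy : ℤ × ℤ)
    (hx : D.P.root x = cx.1 • D.P.root a + cx.2 • D.P.root b) (hy : D.P.root y = cy.1 • D.P.root a + cy.2 • D.P.root b)
    (hxp : 0 < s * cx.1 + t * cx.2) (hyp : 0 < s * cy.1 + t * cy.2) {k : ℕ} (e : Fin k → D.idx)
    (c : Fin k → ℤ × ℤ) (hc : ∀ l, D.P.root (e l) = (c l).1 • D.P.root a + (c l).2 • D.P.root b)
    (hinj : Function.Injective c) (i j : Fin k → ℕ)
    (hij : ∀ l, 0 < i l ∧ 0 < j l ∧ ((i l : ℤ) * cx.1 + j l * cy.1, (i l : ℤ) * cx.2 + j l * cy.2) = c l)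
    (hdet : cx.1 * cy.2 - cx.2 * cy.1 ≠ 0)
    (hall : ∀ v ∈ pairList p, 0 < (v.1 * cy.2 - v.2 * cy.1) * (cx.1 * cy.2 - cx.2 * cy.1) →
      0 < (cx.1 * v.2 - cx.2 * v.1) * (cx.1 * cy.2 - cx.2 * cy.1) → ∃ l, c l = v) :
    ∃ C : ∀ X : Over S, Fin k → Γ(X.left, ⊤),
      (∀ (X X' : Over S) (g : X' ⟶ X) l, g.left.appTop (C X l) = C X' l) ∧ ∀ (X : Over S) (u w : Γ(X.left, ⊤)),
      comm D x y u w = rp D e fun l => C X l * u ^ i l * w ^ j l := by
  obtain ⟨b', hb'⟩ := h.exists_pos b₀ s t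
  obtain ⟨-, C, hCn, hC⟩ := exists_comm_coeff_ord D b' x y (hb' x _ _ hx hxp) (hb' y _ _ hy hyp) e i j
    (h.coords_injective e c hc hinj) (fun l => ⟨(hij l).1, (hij l).2.1, by
      rw [hc, ← (hij l).2.2, hx, hy]; simp only [smul_add, add_smul, mul_smul]; abel⟩)
    (fun d i' j' hd => by
      obtain ⟨hm, e'⟩ := h.comb_mem hx hy hd
      have h2 : 0 < (cx.1 * cy.2 - cx.2 * cy.1) * (cx.1 * cy.2 - cx.2 * cy.1) := mul_self_pos.2 hdet
      have hi : (0 : ℤ) < i' := by exact_mod_cast hd.1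
      have hj : (0 : ℤ) < j' := by exact_mod_cast hd.2.1
      obtain ⟨l, hl⟩ := hall _ hm (by simp only; nlinarith) (by simp only; nlinarith)
      exact ⟨l, eq_of_coords (hc l) (by rw [hl]; exact e')⟩)
  exact ⟨C, hCn, hC⟩

end Roots

omit [D.P.IsReduced] in
/-- The identity behind the first coefficient of a commutator. -/
theorem comm_identity {a b c : D.idx} (X : Over S) (y z : Γ(X.left, ⊤))
    (hcomm : ∀ u, Commute (P (D.u a) u : X ⟶ G) (P (D.u c) z))
    (hW : cj (Wy D a X) (P (D.u b) y) = P (D.u c) z) :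
    comm D a b 1 y * P (D.u b) y = P (D.u c) z * comm D c (ng D.P a) (-z) 1 := by
  haveI := (D.rootHom a).1
  haveI := (D.rootHom c).1
  haveI := (D.rootHom (ng D.P a)).1
  have h1 : comm D a b 1 y * P (D.u b) y = cj (P (D.u a) 1) (P (D.u b) y) := by simp only [comm, cj]; group
  have h2 : cj (P (D.u a) 1) (P (D.u b) y) =
      cj (P (D.u (ng D.P a)) 1) (cj (P (D.u a) (1 : Γ(X.left, ⊤)))⁻¹ (cj (Wy D a X) (P (D.u b) y))) := by
    simp only [cj, RankOne16.W, RankOne.w, RankOne.P_neg]; group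
  have h3 : cj (P (D.u a) (1 : Γ(X.left, ⊤)))⁻¹ (P (D.u c) z) = P (D.u c) z := by
    rw [cj, (hcomm 1).inv_left.eq, mul_inv_cancel_right]
  rw [h1, h2, hW, h3]
  simp only [comm, cj, RankOne.P_neg]; group

end Groth.Agent.RedCell16
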