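import Groth.Agent.Lib.RedCell16.Weight
import Groth.Agent.Lib.RedCell16.BaseExists

/-!
# Root groups are determined by their weight, and commute when no sum is a root
-/

set_option autoImplicit false
set_option linter.style.haveILetI false
set_option linter.unusedSimpArgs false
set_option backward.isDefEq.respectTransparency false
set_option backward.isDefEq.respectTransparency.types false

universe u

open CategoryTheory CategoryTheory.Limits MonoidalCategory CartesianMonoidalCategory MonObj AlgebraicGeometry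

noncomputable section

namespace Groth.Agent.RedCell16

open DiagGL RootDLib
open RankOne (P)

variable {S : Scheme.{u}} {G : Over S} [GrpObj G] (D : Red.SplitRed G)

theorem rt_exists_tor {X : Over S} (ℓ : D.M →+ ℤ) (v : (Γ(X.left, ⊤))ˣ) (t : X ⟶ D.T)
    (ht : ∀ m, (chars D).ch t (Multiplicative.ofAdd m) = ((v ^ ℓ m : (Γ(X.left, ⊤))ˣ) : Γ(X.left, ⊤))) (c : D.idx)
    (k : ℕ) (hk : ℓ (D.P.root c) = k) : rt D t c = (v : Γ(X.left, ⊤)) ^ k := by
  rw [rt_eq_ch, ht, hk, zpow_natCast, Units.val_pow_eq_pow_val]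

/-- **A natural family of the weight of a root is the root group up to a scalar.** -/
theorem exists_coeff_root [D.P.IsReduced] (b : D.P.Base) (c : D.idx) (V : ∀ X : Over S, Γ(X.left, ⊤) → (X ⟶ G))
    (hnat : ∀ (X X' : Over S) (g : X' ⟶ X) (a : Γ(X.left, ⊤)), g ≫ V X a = V X' (g.left.appTop a))
    (h0 : ∀ X : Over S, V X 0 = 1)
    (hconj : ∀ (X : Over S) (t : X ⟶ D.T) (a : Γ(X.left, ⊤)),
      (t ≫ D.i) * V X a * (t ≫ D.i)⁻¹ = V X (rt D t c * a)) :
    ∃ ν : ∀ X : Over S, Γ(X.left, ⊤), (∀ (X X' : Over S) (g : X' ⟶ X), g.left.appTop (ν X) = ν X') ∧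
      ∀ (X : Over S) (a : Γ(X.left, ⊤)), V X a = P (D.u c) (ν X * a) := by
  classical
  haveI := D.fintypeIdx
  haveI := torsionFree D.P
  obtain ⟨n, m, eneg, epos, hneg, hpos⟩ := exists_enum D b
  let W : WeightFam D :=
    { F := V, nat := hnat, zero := h0, ℓ := co D c, k := 2, k_ne := two_ne_zero
      conj := fun X v t a ht => by
        rw [hconj, rt_exists_tor D (co D c) v t ht c 2 (co_self D c)] }
  obtain ⟨y, x, h1, hn, hy, hx, ha⟩ := W.exists_coords D eneg epos hneg hpos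
  have hfix : ∀ (X : Over S) (ℓ : D.M →+ ℤ), ℓ (D.P.root c) = 0 →
      (∀ i, ℓ (D.P.root (eneg i)) ≠ 0 → y X i = 0) ∧ (∀ i, ℓ (D.P.root (epos i)) ≠ 0 → x X i = 0) := fun X ℓ hℓ => by
    refine coord_eq_zero D eneg epos hneg hpos _ _ ℓ fun X' e v t ht => ?_
    rw [← h1, W.nat, map_one]
    show (t ≫ D.i) * V X' 1 * (t ≫ D.i)⁻¹ = V X' 1
    rw [hconj, rt_exists_tor D ℓ v t ht c 0 hℓ, pow_zero, _root_.one_mul]
  have key : ∀ (d : D.idx) (q : ℕ), 0 < q → co D c (D.P.root d) = ((2 * q : ℕ) : ℤ) →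
      (∀ ℓ : D.M →+ ℤ, ℓ (D.P.root c) = 0 → ℓ (D.P.root d) = 0) → d = c := fun d q hq hd hs => by
    have h2 := two_smul_eq D c _ hs
    rw [hd, Nat.cast_mul, mul_smul, Nat.cast_ofNat] at h2
    have h3 : D.P.root d = (q : ℤ) • D.P.root c := zsmul_right_injective (two_ne_zero) h2
    rcases RootPairing.IsReduced.eq_or_eq_neg (P := D.P) d c (fun hli => by
      have := LinearIndependent.pair_iff.1 hli 1 (-(q : ℤ)) (by rw [one_smul, h3, neg_smul, add_neg_cancel])
      omega) with h | h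
    · exact D.P.root.injective h
    · rw [h, ← sub_eq_zero, show -D.P.root c - (q : ℤ) • D.P.root c = (-1 - (q : ℤ)) • D.P.root c by
        rw [sub_smul, neg_smul, one_smul], smul_eq_zero] at h3
      exact absurd h3 (by simp only [not_or]; exact ⟨by omega, root_ne_zero D.P c⟩)
  have hy0 : ∀ X i, eneg i ≠ c → y X i = 0 := fun X i hi => by
    by_contra hne
    obtain ⟨q, hq, hd⟩ : ∃ q : ℕ, 0 < q ∧ co D c (D.P.root (eneg i)) = ((2 * q : ℕ) : ℤ) := by
      by_contra h'; push Not at h'; exact hne (hy X i h')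
    exact hi (key _ q hq hd fun ℓ hℓ => by by_contra h'; exact hne ((hfix X ℓ hℓ).1 i h'))
  have hx0 : ∀ X i, epos i ≠ c → x X i = 0 := fun X i hi => by
    by_contra hne
    obtain ⟨q, hq, hd⟩ : ∃ q : ℕ, 0 < q ∧ co D c (D.P.root (epos i)) = ((2 * q : ℕ) : ℤ) := by
      by_contra h'; push Not at h'; exact hne (hx X i h')
    exact hi (key _ q hq hd fun ℓ hℓ => by by_contra h'; exact hne ((hfix X ℓ hℓ).2 i h'))
  by_cases hcpos : c ∈ RedSub.posRoots D.P b
  · obtain ⟨i, hi⟩ := (hpos.2.symm ▸ hcpos : c ∈ Set.range epos)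
    refine ⟨fun X => x X i, fun X X' g => congrFun (hn X X' g).2 i, fun X a => ?_⟩
    show W.F X a = _
    have hc : ∀ j, eneg j ≠ c := fun j h => (RootComb21.mem_negRoots_iff b c).1 (h ▸ hneg.2 ▸ ⟨j, rfl⟩) hcpos
    rw [ha, show (fun j => y X j * a ^ _) = (0 : Fin n → Γ(X.left, ⊤)) from
      funext fun j => by rw [hy0 X j (hc j), zero_mul]; rfl,
      cellPt_single_pos D eneg epos _ i fun j hj => by
        rw [hx0 X j (fun h => hj (hpos.1 (h.trans hi.symm))), zero_mul], hi]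
    simp [W, co_self]
  · have hcneg := (RootComb21.mem_negRoots_iff b c).2 hcpos
    obtain ⟨i, hi⟩ := (hneg.2.symm ▸ hcneg : c ∈ Set.range eneg)
    refine ⟨fun X => y X i, fun X X' g => congrFun (hn X X' g).1 i, fun X a => ?_⟩
    show W.F X a = _
    have hc : ∀ j, epos j ≠ c := fun j h => hcpos (h ▸ hpos.2 ▸ ⟨j, rfl⟩)
    rw [ha, show (fun j => x X j * a ^ _) = (0 : Fin m → Γ(X.left, ⊤)) from
      funext fun j => by rw [hx0 X j (hc j), zero_mul]; rfl,
      cellPt_single_neg D eneg epos _ i fun j hj => by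
        rw [hy0 X j (fun h => hj (hneg.1 (h.trans hi.symm))), zero_mul], hi]
    simp [W, co_self]

theorem exists_unit_root {X : Over S} (x : (Γ(X.left, ⊤))ˣ) (k : ℕ) (hk : k ≠ 0) :
    ∃ (X' : Over S) (e : X' ⟶ X) (v : (Γ(X'.left, ⊤))ˣ), Epi e ∧ e.left.appTop (x : Γ(X.left, ⊤)) = (v : Γ(X'.left, ⊤)) ^ k := by
  rcases subsingleton_or_nontrivial Γ(X.left, ⊤) with hs | hs
  · exact ⟨X, 𝟙 X, 1, inferInstance, @Subsingleton.elim _ hs _ _⟩
  obtain ⟨X', e, r, he, hr⟩ := RankOne16.exists_root_cover X (Polynomial.X ^ k - Polynomial.C (x : Γ(X.left, ⊤)))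
    (Polynomial.monic_X_pow_sub_C _ hk) (by rwa [Polynomial.natDegree_X_pow_sub_C])
  rw [Polynomial.eval₂_sub, Polynomial.eval₂_X_pow, Polynomial.eval₂_C, sub_eq_zero] at hr
  have hu : IsUnit r := (isUnit_pow_iff hk).1 (hr ▸ x.isUnit.map e.left.appTop.hom)
  exact ⟨X', e, hu.unit, he, by rw [IsUnit.unit_spec]; exact hr.symm⟩

/-- **Root groups commute when the sum is not a root.** -/
theorem commute_rootGroups [D.P.IsReduced] (b : D.P.Base) (p q : D.idx) (h0 : D.P.root p + D.P.root q ≠ 0)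
    (hpq : D.P.root p + D.P.root q ∉ Set.range D.P.root) (X : Over S) (x y : Γ(X.left, ⊤)) :
    Commute (P (D.u p) x : X ⟶ G) (P (D.u q) y) := by
  classical
  haveI := D.fintypeIdx
  haveI := torsionFree D.P
  haveI := (D.rootHom p).1
  haveI := (D.rootHom q).1
  by_cases hqp : q = p
  · subst hqp
    show _ * _ = _ * _
    rw [← RankOne.P_add, ← RankOne.P_add, add_comm]
  have hΔ : 0 < det D p q := det_pos D p q (fun h => hqp (D.P.root.injective h)) fun h => h0 (by rw [h, add_neg_cancel])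
  obtain ⟨k, hk⟩ : ∃ k : ℕ, det D p q = k := ⟨_, (Int.toNat_of_nonneg hΔ.le).symm⟩
  have hk0 : k ≠ 0 := by omega
  obtain ⟨n, m, eneg, epos, hneg, hpos⟩ := exists_enum D b
  let C : ∀ X : Over S, Γ(X.left, ⊤) → Γ(X.left, ⊤) → (X ⟶ G) := fun X x y =>
    P (D.u p) x * P (D.u q) y * (P (D.u p) x)⁻¹ * (P (D.u q) y)⁻¹
  have hCn : ∀ (X X' : Over S) (g : X' ⟶ X) x y, g ≫ C X x y = C X' (g.left.appTop x) (g.left.appTop y) := fun X X' g x y => by
    simp only [C, MonObj.comp_mul, GrpObj.comp_inv, RankOne.comp_P]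
  have hCc : ∀ (X : Over S) (t : X ⟶ D.T) x y,
      (t ≫ D.i) * C X x y * (t ≫ D.i)⁻¹ = C X (rt D t p * x) (rt D t q * y) := fun X t x y => by
    simp only [C, ← conj_P]
    group
  let W1 : WeightFam D :=
    { F := fun X z => C X z 1
      nat := fun X X' g a => by rw [hCn, map_one]
      zero := fun X => by simp [C, RankOne.P_zero]
      ℓ := dualFun D p q, k := k, k_ne := hk0
      conj := fun X v t a ht => by
        rw [hCc, rt_exists_tor D _ v t ht p k ((dualFun_self D p q).trans hk),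
          rt_exists_tor D _ v t ht q 0 (dualFun_other D p q), pow_zero, _root_.one_mul] }
  let W2 : WeightFam D :=
    { F := fun X z => C X 1 z
      nat := fun X X' g a => by rw [hCn, map_one]
      zero := fun X => by simp [C, RankOne.P_zero]
      ℓ := dualFun D q p, k := k, k_ne := hk0
      conj := fun X v t a ht => by
        rw [hCc, rt_exists_tor D _ v t ht q k ((dualFun_self D q p).trans ((det_comm D p q).trans hk)),
          rt_exists_tor D _ v t ht p 0 (dualFun_other D q p), pow_zero, _root_.one_mul] }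
  obtain ⟨y1, x1, h1, -, hy1, hx1, -⟩ := W1.exists_coords D eneg epos hneg hpos
  obtain ⟨y2, x2, h2, -, hy2, hx2, -⟩ := W2.exists_coords D eneg epos hneg hpos
  have hone : ∀ X : Over S, C X 1 1 = 1 := fun X => by
    obtain ⟨e1, -, e2⟩ := cellPt_inj D eneg epos hneg hpos ((h1 X).symm.trans (h2 X))
    have hfix := fun ℓ (hp : ℓ (D.P.root p) = 0) (hq : ℓ (D.P.root q) = 0) =>
      coord_eq_zero D eneg epos hneg hpos (y1 X) (x1 X) ℓ fun X' e v t ht => by
        rw [← h1]
        show (t ≫ D.i) * (e ≫ C X 1 1) * (t ≫ D.i)⁻¹ = e ≫ C X 1 1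
        rw [hCn, map_one, hCc, rt_exists_tor D ℓ v t ht p 0 hp, rt_exists_tor D ℓ v t ht q 0 hq, pow_zero,
          _root_.one_mul]
    have key : ∀ (d : D.idx) (i j : ℕ), 0 < i → 0 < j → dualFun D p q (D.P.root d) = ((k * i : ℕ) : ℤ) →
        dualFun D q p (D.P.root d) = ((k * j : ℕ) : ℤ) →
        ¬ ∀ ℓ : D.M →+ ℤ, ℓ (D.P.root p) = 0 → ℓ (D.P.root q) = 0 → ℓ (D.P.root d) = 0 := fun d i j hi hj e1 e2 hs => by
      have h := det_smul_eq D p q _ hs
      rw [e1, e2, hk, Nat.cast_mul, Nat.cast_mul, mul_smul, mul_smul, ← smul_add] at h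
      exact not_root_comb D p q h0 hpq i j d hi hj (zsmul_right_injective (Int.natCast_ne_zero.2 hk0) h)
    have hy : y1 X = 0 := funext fun i => by
      by_contra hne
      obtain ⟨a, ha, ea⟩ : ∃ a : ℕ, 0 < a ∧ dualFun D p q (D.P.root (eneg i)) = ((k * a : ℕ) : ℤ) := by
        by_contra h'; push Not at h'; exact hne (hy1 X i h')
      obtain ⟨c, hc, ec⟩ : ∃ a : ℕ, 0 < a ∧ dualFun D q p (D.P.root (eneg i)) = ((k * a : ℕ) : ℤ) := by
        by_contra h'; push Not at h'; exact hne ((congrFun e1 i).trans (hy2 X i h'))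
      exact key _ a c ha hc ea ec fun ℓ hp hq => by by_contra h'; exact hne ((hfix ℓ hp hq).1 i h')
    have hx : x1 X = 0 := funext fun i => by
      by_contra hne
      obtain ⟨a, ha, ea⟩ : ∃ a : ℕ, 0 < a ∧ dualFun D p q (D.P.root (epos i)) = ((k * a : ℕ) : ℤ) := by
        by_contra h'; push Not at h'; exact hne (hx1 X i h')
      obtain ⟨c, hc, ec⟩ : ∃ a : ℕ, 0 < a ∧ dualFun D q p (D.P.root (epos i)) = ((k * a : ℕ) : ℤ) := by
        by_contra h'; push Not at h'; exact hne ((congrFun e2 i).trans (hx2 X i h'))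
      exact key _ a c ha hc ea ec fun ℓ hp hq => by by_contra h'; exact hne ((hfix ℓ hp hq).2 i h')
    rw [show C X 1 1 = _ from h1 X, hy, hx, cellPt_one]
  have hunit : ∀ (X : Over S) (u v : (Γ(X.left, ⊤))ˣ), Commute (P (D.u p) (u : Γ(X.left, ⊤)) : X ⟶ G) (P (D.u q) (v : Γ(X.left, ⊤))) :=
    fun X u v => by
    obtain ⟨X₁, e₁, r, he₁, hr⟩ := exists_unit_root u k hk0
    obtain ⟨X₂, e₂, s, he₂, hs⟩ := exists_unit_root (Units.map e₁.left.appTop.hom.toMonoidHom v) k hk0
    haveI := he₁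
    haveI := he₂
    obtain ⟨t₁, ht₁⟩ := exists_tor D (dualFun D p q) (Units.map e₂.left.appTop.hom.toMonoidHom r)
    obtain ⟨t₂, ht₂⟩ := exists_tor D (dualFun D q p) s
    have h := congrArg (fun g => ((t₁ * t₂) ≫ D.i) * g * ((t₁ * t₂) ≫ D.i)⁻¹) (hone X₂)
    simp only [hCc, _root_.mul_one, mul_inv_cancel] at h
    have ep : rt D (t₁ * t₂) p = (e₂ ≫ e₁).left.appTop (u : Γ(X.left, ⊤)) := by
      rw [rt_eq_ch, (chars D).mul, ← rt_eq_ch, ← rt_eq_ch,
        rt_exists_tor D _ _ t₁ ht₁ p k ((dualFun_self D p q).trans hk), rt_exists_tor D _ s t₂ ht₂ p 0 (dualFun_other D q p),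
        pow_zero, _root_.mul_one, Over.comp_left, Scheme.Hom.comp_appTop, CommRingCat.comp_apply, hr, map_pow]
      rfl
    have eq : rt D (t₁ * t₂) q = (e₂ ≫ e₁).left.appTop (v : Γ(X.left, ⊤)) := by
      rw [rt_eq_ch, (chars D).mul, ← rt_eq_ch, ← rt_eq_ch,
        rt_exists_tor D _ _ t₁ ht₁ q 0 (dualFun_other D p q),
        rt_exists_tor D _ s t₂ ht₂ q k ((dualFun_self D q p).trans ((det_comm D p q).trans hk)),
        pow_zero, _root_.one_mul, Over.comp_left, Scheme.Hom.comp_appTop, CommRingCat.comp_apply]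
      exact hs.symm
    simp only [_root_.mul_one, ep, eq] at h
    haveI : Epi (e₂ ≫ e₁) := epi_comp _ _
    show _ * _ = _ * _
    rw [← cancel_epi (e₂ ≫ e₁), MonObj.comp_mul, MonObj.comp_mul, RankOne.comp_P, RankOne.comp_P]
    exact commutatorElement_eq_one_iff_mul_comm.1 h
  obtain ⟨X₁, e₁, u, v, he₁, hx⟩ := RankOne16.exists_cover_two_units X x
  obtain ⟨X₂, e₂, u', v', he₂, hy⟩ := RankOne16.exists_cover_two_units X₁ (e₁.left.appTop y)
  haveI := he₁
  haveI := he₂
  haveI : Epi (e₂ ≫ e₁) := epi_comp _ _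
  show _ * _ = _ * _
  rw [← cancel_epi (e₂ ≫ e₁), MonObj.comp_mul, MonObj.comp_mul, RankOne.comp_P, RankOne.comp_P, Over.comp_left,
    Scheme.Hom.comp_appTop, CommRingCat.comp_apply, CommRingCat.comp_apply, hx, hy, map_add, RankOne.P_add, RankOne.P_add]
  let f := e₂.left.appTop.hom.toMonoidHom
  exact (((hunit X₂ (Units.map f u) u').mul_right (hunit X₂ (Units.map f u) v')).mul_left
    ((hunit X₂ (Units.map f v) u').mul_right (hunit X₂ (Units.map f v) v'))).eq

end Groth.Agent.RedCell16
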