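import Groth.Agent.Lib.RedCell16.DualUnique
import Groth.Agent.Lib.RedCell16.WeightApps
import Groth.Agent.Lib.RedCell16.Pair
import Groth.Agent.Lib.RedCell16.Centre

/-!
# Points of the base realising elements of the Weyl group
-/

set_option autoImplicit false
set_option linter.style.haveILetI false
set_option linter.unusedSimpArgs false
set_option linter.unusedSectionVars false
set_option backward.isDefEq.respectTransparency false
set_option backward.isDefEq.respectTransparency.types false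

universe u

open CategoryTheory CategoryTheory.Limits MonoidalCategory CartesianMonoidalCategory MonObj AlgebraicGeometry

noncomputable section

namespace Groth.Agent.RedCell16

open DiagGL RootDLib
open RankOne (P A)

variable {S : Scheme.{u}} {G : Over S} [GrpObj G] (D : Red.SplitRed G)

/-- `g` normalises the torus and acts on it as `v`. -/
def Nrm (g : 𝟙_ (Over S) ⟶ G) (v : D.P.Aut) : Prop :=
  ∀ (X : Over S) (t : X ⟶ D.T), ∃ t' : X ⟶ D.T,
    (toUnit X ≫ g) * (t ≫ D.i) * (toUnit X ≫ g)⁻¹ = t' ≫ D.i ∧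
      ∀ m : D.M, (chars D).ch t' (Multiplicative.ofAdd m) = (chars D).ch t (Multiplicative.ofAdd (v⁻¹ • m))

theorem toUnit_comp {X Y : Over S} (e : Y ⟶ X) (g : 𝟙_ (Over S) ⟶ G) : e ≫ toUnit X ≫ g = toUnit Y ≫ g := by
  rw [← Category.assoc, Subsingleton.elim (e ≫ toUnit X) (toUnit Y)]

variable {D}

theorem Nrm.one : Nrm D 1 1 := fun X t => ⟨t, by rw [MonObj.comp_one]; group, fun m => by rw [_root_.inv_one, one_smul]⟩

theorem Nrm.mul {g h : 𝟙_ (Over S) ⟶ G} {v w : D.P.Aut} (hg : Nrm D g v) (hh : Nrm D h w) : Nrm D (g * h) (v * w) :=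
  fun X t => by
  obtain ⟨t₁, h1, e1⟩ := hh X t
  obtain ⟨t₂, h2, e2⟩ := hg X t₁
  refine ⟨t₂, ?_, fun m => by rw [e2, e1, _root_.mul_inv_rev, mul_smul]⟩
  rw [← h2, ← h1, MonObj.comp_mul]
  group

theorem Nrm.inv {g : 𝟙_ (Over S) ⟶ G} {v : D.P.Aut} (hg : Nrm D g v) : Nrm D g⁻¹ v⁻¹ := fun X t => by
  obtain ⟨t', ht'⟩ := (chars D).surj (T := X) (((chars D).ch t).comp (MonoidHom.mk'
    (fun w : Multiplicative D.M => Multiplicative.ofAdd (v • w.toAdd)) fun a b => by
      simp only [toAdd_mul, smul_add, ofAdd_add]))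
  have ht : ∀ m : D.M, (chars D).ch t' (Multiplicative.ofAdd m) = (chars D).ch t (Multiplicative.ofAdd (v • m)) :=
    fun m => by rw [ht']; rfl
  refine ⟨t', ?_, fun m => by rw [_root_.inv_inv, ht]⟩
  obtain ⟨t₂, h2, e2⟩ := hg X t'
  have : t₂ = t := (chars D).inj fun w => by
    rw [show w = Multiplicative.ofAdd w.toAdd from rfl, e2, ht, smul_inv_smul]
  rw [← this, ← h2, GrpObj.comp_inv]
  group

theorem Nrm.list {f : D.idx → (𝟙_ (Over S) ⟶ G)} (hf : ∀ a, Nrm D (f a) (RootPairing.Equiv.reflection D.P a)) :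
    ∀ l : List D.idx, Nrm D (l.map f).prod (wprod D.P l)
  | [] => Nrm.one
  | a :: l => by
    rw [List.map_cons, List.prod_cons, wprod_cons]
    exact (hf a).mul (Nrm.list hf l)

theorem Nrm.torus (τ : 𝟙_ (Over S) ⟶ D.T) : Nrm D (τ ≫ D.i) 1 := fun X t => by
  haveI := D.maximalTorus.1
  refine ⟨t, ?_, fun m => by rw [_root_.inv_one, one_smul]⟩
  rw [← Category.assoc, mul_inv_eq_iff_eq_mul, ← MonObj.mul_comp, ← MonObj.mul_comp, torus_comm D]

variable (D)

/-- The points realising the reflections normalise accordingly. -/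
theorem nrm_of_realises {nr : D.idx → (𝟙_ (Over S) ⟶ G)} (hnr : RedSub.RealisesReflections D nr) (a : D.idx) :
    Nrm D (nr a) (RootPairing.Equiv.reflection D.P a) := fun X t => by
  refine ⟨t ≫ D.split.hom.hom.hom ≫ Red.DSmap S (D.P.reflection a).toLinearMap.toAddMonoidHom ≫ D.split.inv.hom.hom,
    ?_, fun m => ?_⟩
  · rw [hnr a X t]; simp only [Category.assoc]
  · show (charsDS S D.M).ch ((t ≫ _) ≫ D.split.hom.hom.hom) _ = (charsDS S D.M).ch (t ≫ D.split.hom.hom.hom) _
    simp only [Category.assoc]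
    rw [show D.split.inv.hom.hom ≫ D.split.hom.hom.hom = 𝟙 _ from congrArg (fun f => f.hom.hom) D.split.inv_hom_id,
      Category.comp_id, ← Category.assoc, DSmap_ch, RootPairing.Equiv.reflection_inv,
      RootPairing.Equiv.reflection_smul]
    rfl

theorem exists_realises : ∃ nr : D.idx → (𝟙_ (Over S) ⟶ G), RedSub.RealisesReflections D nr :=
  ⟨fun a => (D.refl a).choose, fun a => (D.refl a).choose_spec⟩

variable [D.P.IsReduced]

/-- The conjugate of a root group by a realiser. -/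
theorem Nrm.cj_P (b : D.P.Base) {g : 𝟙_ (Over S) ⟶ G} {v : D.P.Aut} (hg : Nrm D g v) (c : D.idx) :
    ∃ ν : ∀ X : Over S, Γ(X.left, ⊤), ∀ (X : Over S) (a : Γ(X.left, ⊤)),
      cj (toUnit X ≫ g) (P (D.u c) a) = P (D.u (v • c)) (ν X * a) := by
  haveI := (D.rootHom c).1
  obtain ⟨ν, -, h⟩ := exists_coeff_root D b (v • c) (fun X a => cj (toUnit X ≫ g) (P (D.u c) a))
    (fun X X' e a => by simp only [cj, MonObj.comp_mul, GrpObj.comp_inv, RankOne.comp_P, toUnit_comp])
    (fun X => by simp [cj, RankOne.P_zero]) (fun X t a => by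
      obtain ⟨t', h1, e1⟩ := hg.inv X t
      rw [GrpObj.comp_inv, _root_.inv_inv] at h1
      have h2 : rt D t' c = rt D t (v • c) := by
        rw [rt_eq_ch, rt_eq_ch, e1, _root_.inv_inv, smul_root]
      rw [← h2, ← conj_P, ← h1]
      simp only [cj]
      group)
  exact ⟨ν, h⟩

/-- Two realisers of the same element differ by a point of the torus. -/
theorem Nrm.exists_torus (b : D.P.Base) {g h : 𝟙_ (Over S) ⟶ G} {v : D.P.Aut} (hg : Nrm D g v) (hh : Nrm D h v) :
    ∃ τ : 𝟙_ (Over S) ⟶ D.T, h = g * (τ ≫ D.i) := by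
  obtain ⟨n, m, eneg, epos, hneg, hpos⟩ := exists_enum D b
  obtain ⟨τ, hτ⟩ := exists_torus_of_commute D eneg epos hneg hpos (g⁻¹ * h) fun X' e t => by
    obtain ⟨t', h1, e1⟩ := (hg.inv.mul hh) X' t
    rw [_root_.inv_mul_cancel, _root_.inv_one] at e1
    rw [show t' = t from (chars D).inj fun w => by
      rw [show w = Multiplicative.ofAdd w.toAdd from rfl, e1, one_smul]] at h1
    rw [Subsingleton.elim e (toUnit X')]
    exact mul_inv_eq_iff_eq_mul.1 h1
  exact ⟨τ, by rw [hτ]; group⟩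

/-- The Weyl element of a dual pair realises its reflection. -/
theorem nrm_W (a : D.idx) {pm : Red.Ga S ⟶ G} (E : RankOne.Datum D.i (rootChar D a) (D.u a) pm (coChar D a)) :
    Nrm D (RankOne16.W (D.u a) pm) (RootPairing.Equiv.reflection D.P a) := fun X t => by
  haveI := D.maximalTorus.1
  haveI := E.hom_av
  refine ⟨(GmPts.ptOfUnit (GmPts.unitOfPt (t ≫ rootChar D a)) ≫ coChar D a)⁻¹ * t, ?_, fun m => ?_⟩
  · rw [RankOne16.comp_W, RankOne16.W_conj_T E t, MonObj.mul_comp, GrpObj.inv_comp, RankOne.A]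
    simp only [Category.assoc]
  · rw [RootPairing.Equiv.reflection_inv, RootPairing.Equiv.reflection_smul, RootPairing.reflection_apply,
      (chars D).mul]
    let f : Multiplicative D.M →* (Γ(X.left, ⊤))ˣ := ((chars D).ch t).toHomUnits
    have e3 : GmPts.unitOfPt (t ≫ rootChar D a) = f (Multiplicative.ofAdd (D.P.root a)) :=
      Units.ext (chars_chi D t _)
    let z := GmPts.ptOfUnit (GmPts.unitOfPt (t ≫ rootChar D a)) ≫ coChar D a
    have e1 : (chars D).ch z⁻¹ (Multiplicative.ofAdd m) * (chars D).ch z (Multiplicative.ofAdd m) = 1 := by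
      rw [← (chars D).mul, _root_.inv_mul_cancel, (chars D).one]
    rw [show z = GmPts.ptOfUnit (GmPts.unitOfPt (t ≫ rootChar D a)) ≫ coChar D a from rfl, ch_coChar,
      GmPts.unitOfPt_ptOfUnit] at e1
    rw [Units.mul_eq_one_iff_eq_inv.1 e1, e3]
    have : D.P.coroot' a m = co D a m := by
      show D.P.toLinearMap m (D.P.coroot a) = _
      rw [D.pairing_eq]
      rfl
    rw [this, sub_eq_add_neg, ofAdd_add, ← neg_smul, ofAdd_zsmul, ← zpow_neg]
    show (((f (Multiplicative.ofAdd (D.P.root a))) ^ (-(co D a m)) : (Γ(X.left, ⊤))ˣ) : Γ(X.left, ⊤)) *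
      (f (Multiplicative.ofAdd m) : Γ(X.left, ⊤)) = ((chars D).ch t) (Multiplicative.ofAdd m * Multiplicative.ofAdd (D.P.root a) ^ (-(co D a m)))
    rw [map_mul]
    show _ = (f (Multiplicative.ofAdd m) : Γ(X.left, ⊤)) *
      (f ((Multiplicative.ofAdd (D.P.root a)) ^ (-(co D a m))) : Γ(X.left, ⊤))
    rw [map_zpow, _root_.mul_comm]

end Groth.Agent.RedCell16
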