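import Groth.Agent.Lib.RedCell16.CommForm

/-!
# Products over closed sets of positive roots, in any order

The filtration by the height shows that every enumeration gives coordinates.
-/

set_option autoImplicit false
set_option linter.style.haveILetI false
set_option linter.unusedSimpArgs false
set_option linter.unusedSectionVars false
set_option backward.isDefEq.respectTransparency false
set_option backward.isDefEq.respectTransparency.types false

universe u

open CategoryTheory CategoryTheory.Limits MonoidalCategory CartesianMonoidalCategory MonObj AlgebraicGeometry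

noncomputable section

namespace Groth.Agent.RedCell16

open DiagGL RootDLib
open RankOne (P)

variable {S : Scheme.{u}} {G : Over S} [GrpObj G] (D : Red.SplitRed G) {n m : ℕ} (eneg : Fin n → D.idx)
  (epos : Fin m → D.idx) {b : D.P.Base}

theorem height_comb {p q d : D.idx} (i j : ℤ) (h : D.P.root d = i • D.P.root p + j • D.P.root q) :
    b.height d = i * b.height p + j * b.height q := by
  obtain ⟨f, -, -, hf⟩ := b.exists_root_eq_sum_int p
  obtain ⟨g, -, -, hg⟩ := b.exists_root_eq_sum_int q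
  have hfg : D.P.root d = ∑ l ∈ b.support, (i • f + j • g) l • D.P.root l := by
    simp_rw [Pi.add_apply, Pi.smul_apply, add_smul, smul_assoc, Finset.sum_add_distrib, ← Finset.smul_sum, ← hf, ← hg]
    exact h
  rw [RootPairing.Base.height_eq_sum hf, RootPairing.Base.height_eq_sum hg, RootPairing.Base.height_eq_sum hfg]
  simp [Finset.sum_add_distrib, Finset.mul_sum]

theorem height_pos {c : D.idx} (hc : c ∈ RedSub.posRoots D.P b) : 0 < b.height c := by
  classical
  suffices H : ∀ x ∈ AddSubmonoid.closure (D.P.root '' (b.support : Set D.idx)),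
      ∃ f : D.idx → ℕ, x = ∑ l ∈ b.support, (f l : ℤ) • D.P.root l by
    obtain ⟨f, hf⟩ := H _ hc
    refine lt_of_le_of_ne ?_ (Ne.symm (b.height_ne_zero c))
    rw [RootPairing.Base.height_eq_sum hf]
    exact Finset.sum_nonneg fun l _ => Int.natCast_nonneg _
  intro x hx
  refine AddSubmonoid.closure_induction ?_ ⟨0, by simp⟩ ?_ hx
  · rintro - ⟨j, hj, rfl⟩
    refine ⟨Pi.single j 1, ?_⟩
    rw [Finset.sum_eq_single_of_mem j hj (fun l _ hl => by simp [hl])]
    simp
  · rintro _ _ _ _ ⟨f, rfl⟩ ⟨g, rfl⟩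
    exact ⟨f + g, by simp [add_smul, Finset.sum_add_distrib]⟩

theorem exists_height_bound (b : D.P.Base) : ∃ B : ℕ, ∀ c : D.idx, b.height c < B := by
  haveI := D.fintypeIdx
  refine ⟨(Finset.univ.sup fun c => (b.height c).toNat) + 1, fun c => ?_⟩
  have := Finset.le_sup (f := fun c => (b.height c).toNat) (Finset.mem_univ c)
  push_cast
  omega

variable (hneg : RedSub.Enumerates (RedSub.negRoots D.P b) eneg)
  (hpos : RedSub.Enumerates (RedSub.posRoots D.P b) epos)
  (R : Set D.idx) (hR : ∀ d ∈ R, d ∈ RedSub.posRoots D.P b)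
  (hcl : ∀ (p q d : D.idx) (i j : ℕ), p ∈ R → q ∈ R → IsComb D p q d i j → d ∈ R)
  (X : Over S)

/-- The group generated by the root elements of the roots in `R` of height at least `h`. -/
def fil (b : D.P.Base) (h : ℤ) : Subgroup (X ⟶ G) :=
  Subgroup.closure {g | ∃ (d : D.idx) (a : Γ(X.left, ⊤)), d ∈ R ∧ h ≤ b.height d ∧ g = P (D.u d) a}

theorem fil_anti {h h' : ℤ} (hh : h ≤ h') : fil D R X b h' ≤ fil D R X b h :=
  Subgroup.closure_mono fun _ ⟨d, a, hd, hd', hg⟩ => ⟨d, a, hd, hh.trans hd', hg⟩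

theorem P_mem_fil {h : ℤ} {d : D.idx} (hd : d ∈ R) (hh : h ≤ b.height d) (a : Γ(X.left, ⊤)) :
    P (D.u d) a ∈ fil D R X b h :=
  Subgroup.subset_closure ⟨d, a, hd, hh, rfl⟩

/-- Coordinates supported on the roots of `R` of height at least `h`. -/
def Supp {k : ℕ} (b : D.P.Base) (e : Fin k → D.idx) (h : ℤ) (v : Fin k → Γ(X.left, ⊤)) : Prop :=
  ∀ l, ¬ (e l ∈ R ∧ h ≤ b.height (e l)) → v l = 0

theorem supp_add {k : ℕ} {e : Fin k → D.idx} {h : ℤ} {v w : Fin k → Γ(X.left, ⊤)} (hv : Supp D R X b e h v)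
    (hw : Supp D R X b e h w) : Supp D R X b e h (v + w) := fun l hl => by simp [hv l hl, hw l hl]

theorem supp_mono {k : ℕ} {e : Fin k → D.idx} {h h' : ℤ} (hh : h ≤ h') {v : Fin k → Γ(X.left, ⊤)}
    (hv : Supp D R X b e h' v) : Supp D R X b e h v := fun l hl => hv l fun ⟨h1, h2⟩ => hl ⟨h1, hh.trans h2⟩

theorem rp_mem_fil {h : ℤ} : ∀ {k : ℕ} (e : Fin k → D.idx) (v : Fin k → Γ(X.left, ⊤)),
    Supp D R X b e h v → rp D e v ∈ fil D R X b h
  | 0, e, v, _ => by
    rw [show v = 0 from funext fun i => i.elim0, rp_zero_fn]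
    exact Subgroup.one_mem _
  | k + 1, e, v, hv => by
    haveI := (D.rootHom (e 0)).1
    rw [rp_succ]
    refine mul_mem ?_ (rp_mem_fil (fun l => e l.succ) (fun l => v l.succ) fun l hl => hv l.succ hl)
    by_cases h0 : e 0 ∈ R ∧ h ≤ b.height (e 0)
    · exact P_mem_fil D R X h0.1 h0.2 _
    · rw [hv 0 h0, RankOne.P_zero]; exact Subgroup.one_mem _

theorem fil_eq_bot {h : ℤ} (hh : ∀ c, b.height c < h) : fil D R X b h = ⊥ := by
  rw [fil, Subgroup.closure_eq_bot_iff]
  rintro g ⟨d, a, -, hd, -⟩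
  exact absurd hd (not_le.2 (hh d))

include hneg hpos hR hcl

theorem comm_mem_fil [D.P.IsReduced] {h : ℤ} {p q : D.idx} (hp : p ∈ R) (hq : q ∈ R) (hh : h ≤ b.height q)
    (x y : Γ(X.left, ⊤)) : comm D p q x y ∈ fil D R X b (h + 1) := by
  obtain ⟨i, j, C, -, hC, hc⟩ := exists_comm_coeff D eneg epos hneg hpos p q (hR p hp) (hR q hq)
  rw [hc]
  refine rp_mem_fil D R X epos _ fun l hl => ?_
  rw [hC X l fun hcb => hl ⟨hcl p q _ _ _ hp hq hcb, ?_⟩, zero_mul, zero_mul]
  rw [height_comb D _ _ hcb.2.2]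
  have h1 := height_pos D (hR p hp)
  have h2 := height_pos D (hR q hq)
  have h3 : (1 : ℤ) ≤ i l := by exact_mod_cast hcb.1
  have h4 : (1 : ℤ) ≤ j l := by exact_mod_cast hcb.2.1
  nlinarith

theorem conj_mem_fil [D.P.IsReduced] {h : ℤ} {g w : X ⟶ G} (hg : g ∈ fil D R X b 0) (hw : w ∈ fil D R X b h) :
    g * w * g⁻¹ ∈ fil D R X b h := by
  suffices H : ∀ w ∈ fil D R X b h, g * w * g⁻¹ ∈ fil D R X b h ∧ g⁻¹ * w * g ∈ fil D R X b h from (H w hw).1
  have gen : ∀ (p : D.idx) (a : Γ(X.left, ⊤)), p ∈ R → ∀ w ∈ fil D R X b h,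
      P (D.u p) a * w * (P (D.u p) a)⁻¹ ∈ fil D R X b h := by
    intro p a hp w hw
    refine Subgroup.closure_induction ?_ (by simp) ?_ ?_ hw
    · rintro _ ⟨q, c, hq, hh, rfl⟩
      rw [show P (D.u p) a * P (D.u q) c * (P (D.u p) a)⁻¹ = comm D p q a c * P (D.u q) c by rw [comm]; group]
      exact mul_mem (fil_anti D R X (by omega) (comm_mem_fil D eneg epos hneg hpos R hR hcl X hp hq hh a c))
        (P_mem_fil D R X hq hh c)
    · intro x y _ _ hx hy
      rw [show P (D.u p) a * (x * y) * (P (D.u p) a)⁻¹ =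
        (P (D.u p) a * x * (P (D.u p) a)⁻¹) * (P (D.u p) a * y * (P (D.u p) a)⁻¹) by group]
      exact mul_mem hx hy
    · intro x _ hx
      rw [show P (D.u p) a * x⁻¹ * (P (D.u p) a)⁻¹ = (P (D.u p) a * x * (P (D.u p) a)⁻¹)⁻¹ by group]
      exact inv_mem hx
  refine Subgroup.closure_induction ?_ (by simp) ?_ ?_ hg
  · rintro _ ⟨p, a, hp, -, rfl⟩ w hw
    haveI := (D.rootHom p).1
    refine ⟨gen p a hp w hw, ?_⟩
    have h2 := gen p (-a) hp w hw
    rwa [RankOne.P_neg, inv_inv] at h2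
  · intro x y _ _ hx hy w hw
    constructor
    · rw [show x * y * w * (x * y)⁻¹ = x * (y * w * y⁻¹) * x⁻¹ by group]
      exact (hx _ (hy w hw).1).1
    · rw [show (x * y)⁻¹ * w * (x * y) = y⁻¹ * (x⁻¹ * w * x) * y by group]
      exact (hy _ (hx w hw).2).2
  · intro x _ hx w hw
    rw [inv_inv]
    exact ⟨(hx w hw).2, (hx w hw).1⟩

theorem central_mem_fil [D.P.IsReduced] {h : ℤ} {g : X ⟶ G} (hg : g ∈ fil D R X b 0) {q : D.idx} (hq : q ∈ R)
    (hh : h ≤ b.height q) (c : Γ(X.left, ⊤)) :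
    g * P (D.u q) c * g⁻¹ * (P (D.u q) c)⁻¹ ∈ fil D R X b (h + 1) := by
  refine Subgroup.closure_induction ?_ (by simp) ?_ ?_ hg
  · rintro _ ⟨p, a, hp, -, rfl⟩
    exact comm_mem_fil D eneg epos hneg hpos R hR hcl X hp hq hh a c
  · intro x y hxm _ hx hy
    set z := P (D.u q) c
    rw [show x * y * z * (x * y)⁻¹ * z⁻¹ = (x * (y * z * y⁻¹ * z⁻¹) * x⁻¹) * (x * z * x⁻¹ * z⁻¹) by group]
    exact mul_mem (conj_mem_fil D eneg epos hneg hpos R hR hcl X hxm hy) hx
  · intro x hxm hx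
    set z := P (D.u q) c
    rw [show x⁻¹ * z * x⁻¹⁻¹ * z⁻¹ = x⁻¹ * (x * z * x⁻¹ * z⁻¹)⁻¹ * x⁻¹⁻¹ by group]
    exact conj_mem_fil D eneg epos hneg hpos R hR hcl X (inv_mem hxm) (inv_mem hx)

theorem rp_add [D.P.IsReduced] {h : ℤ} (hh : 0 ≤ h) : ∀ {k : ℕ} (e : Fin k → D.idx) (v w : Fin k → Γ(X.left, ⊤)),
    Supp D R X b e 0 v → Supp D R X b e h w →
      (rp D e v * rp D e w)⁻¹ * rp D e (v + w) ∈ fil D R X b (h + 1)
  | 0, e, v, w, _, _ => by
    rw [show v = 0 from funext fun i => i.elim0, show w = 0 from funext fun i => i.elim0, add_zero, rp_zero_fn]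
    simp
  | k + 1, e, v, w, hv, hw => by
    haveI := (D.rootHom (e 0)).1
    have hv' : Supp D R X b (fun l => e l.succ) 0 (fun l => v l.succ) := fun l hl => hv l.succ hl
    have hw' : Supp D R X b (fun l => e l.succ) h (fun l => w l.succ) := fun l hl => hw l.succ hl
    have IH := rp_add hh (fun l => e l.succ) _ _ hv' hw'
    rw [rp_succ D e v, rp_succ D e w, rp_succ D e (v + w), Pi.add_apply, RankOne.P_add,
      show (fun l : Fin k => (v + w) l.succ) = (fun l => v l.succ) + fun l => w l.succ from rfl]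
    set V := rp D (fun l => e l.succ) fun l => v l.succ
    set W := rp D (fun l => e l.succ) fun l => w l.succ
    set Q := rp D (fun l => e l.succ) ((fun l => v l.succ) + fun l => w l.succ)
    set z := P (D.u (e 0)) (w 0) with hz
    rw [show (P (D.u (e 0)) (v 0) * V * (z * W))⁻¹ * (P (D.u (e 0)) (v 0) * z * Q) =
      (W⁻¹ * (z⁻¹ * (V⁻¹ * z * V⁻¹⁻¹ * z⁻¹) * z⁻¹⁻¹) * W⁻¹⁻¹) * ((V * W)⁻¹ * Q) by group]
    refine mul_mem (conj_mem_fil D eneg epos hneg hpos R hR hcl X
      (inv_mem (fil_anti D R X hh (rp_mem_fil D R X _ _ hw'))) ?_) IH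
    by_cases h0 : e 0 ∈ R ∧ h ≤ b.height (e 0)
    · exact conj_mem_fil D eneg epos hneg hpos R hR hcl X (inv_mem (P_mem_fil D R X h0.1 (hh.trans h0.2) _))
        (central_mem_fil D eneg epos hneg hpos R hR hcl X (inv_mem (rp_mem_fil D R X _ _ hv')) h0.1 h0.2 _)
    · rw [hz, hw 0 h0, RankOne.P_zero]
      simp

theorem exists_rp_mod [D.P.IsReduced] {h : ℤ} (hh : 0 ≤ h) {k : ℕ} (e : Fin k → D.idx)
    (he : R ⊆ Set.range e) {w : X ⟶ G} (hw : w ∈ fil D R X b h) :
    ∃ z, Supp D R X b e h z ∧ (rp D e z)⁻¹ * w ∈ fil D R X b (h + 1) := by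
  classical
  refine Subgroup.closure_induction ?_ ⟨0, fun _ _ => rfl, by simp [rp_zero_fn]⟩ ?_ ?_ hw
  · rintro _ ⟨d, a, hd, hd', rfl⟩
    obtain ⟨l, rfl⟩ := he hd
    refine ⟨Pi.single l a, fun i hi => ?_, ?_⟩
    · by_cases hil : i = l
      · subst hil; exact absurd ⟨hd, hd'⟩ hi
      · simp [hil]
    · rw [rp_single D e (Pi.single l a) l (fun i hi => by simp [hi]), Pi.single_eq_same, inv_mul_cancel]
      exact Subgroup.one_mem _
  · rintro x y - hy ⟨z1, hz1, hn1⟩ ⟨z2, hz2, hn2⟩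
    refine ⟨z1 + z2, supp_add D R X hz1 hz2, ?_⟩
    have hadd := rp_add D eneg epos hneg hpos R hR hcl X hh e z1 z2 (supp_mono D R X hh hz1) hz2
    rw [show (rp D e (z1 + z2))⁻¹ * (x * y) = ((rp D e z1 * rp D e z2)⁻¹ * rp D e (z1 + z2))⁻¹ *
      ((rp D e z2)⁻¹ * ((rp D e z1)⁻¹ * x) * (rp D e z2)⁻¹⁻¹) * ((rp D e z2)⁻¹ * y) by group]
    exact mul_mem (mul_mem (inv_mem hadd) (conj_mem_fil D eneg epos hneg hpos R hR hcl X
      (inv_mem (fil_anti D R X hh (rp_mem_fil D R X _ _ hz2))) hn1)) hn2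
  · rintro x - ⟨z, hz, hn⟩
    have hz' : Supp D R X b e h (-z) := fun l hl => by rw [Pi.neg_apply, hz l hl, neg_zero]
    refine ⟨-z, hz', ?_⟩
    have hadd := rp_add D eneg epos hneg hpos R hR hcl X hh e z (-z) (supp_mono D R X hh hz) hz'
    rw [add_neg_cancel, rp_zero_fn, _root_.mul_one] at hadd
    rw [show (rp D e (-z))⁻¹ * x⁻¹ = ((rp D e z * rp D e (-z)) *
      ((rp D e (-z))⁻¹ * ((rp D e z)⁻¹ * x) * (rp D e (-z))⁻¹⁻¹))⁻¹ by group]
    exact inv_mem (mul_mem (inv_mem_iff.1 hadd) (conj_mem_fil D eneg epos hneg hpos R hR hcl X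
      (inv_mem (fil_anti D R X hh (rp_mem_fil D R X _ _ hz'))) hn))

theorem exists_rp_mul [D.P.IsReduced] {k : ℕ} (e : Fin k → D.idx) (he : R ⊆ Set.range e) {h : ℤ} (hh : 0 ≤ h)
    (v : Fin k → Γ(X.left, ⊤)) (hv : Supp D R X b e 0 v) {w : X ⟶ G} (hw : w ∈ fil D R X b h) :
    ∃ z, Supp D R X b e h z ∧ rp D e v * w = rp D e (v + z) := by
  obtain ⟨B, hB⟩ := exists_height_bound D b
  obtain ⟨t, ht⟩ : ∃ t : ℕ, (B : ℤ) ≤ h + t := ⟨B, by omega⟩
  induction t generalizing h v w with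
  | zero =>
    rw [fil_eq_bot D R X (fun c => lt_of_lt_of_le (hB c) (by simpa using ht)), Subgroup.mem_bot] at hw
    exact ⟨0, fun _ _ => rfl, by rw [hw, add_zero, _root_.mul_one]⟩
  | succ t ih =>
    obtain ⟨z1, hz1, hn⟩ := exists_rp_mod D eneg epos hneg hpos R hR hcl X hh e he hw
    have hadd := rp_add D eneg epos hneg hpos R hR hcl X hh e v z1 hv hz1
    obtain ⟨z2, hz2, h2⟩ := ih (h := h + 1) (by omega) (v + z1) (supp_add D R X hv (supp_mono D R X hh hz1))
      (mul_mem (inv_mem hadd) hn) (by push_cast at ht; omega)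
    refine ⟨z1 + z2, supp_add D R X hz1 (supp_mono D R X (by omega) hz2), ?_⟩
    rw [← add_assoc, ← h2]
    group

/-- Every product of root elements of `R` has coordinates in any enumeration. -/
theorem exists_rp_eq [D.P.IsReduced] {k k' : ℕ} (e : Fin k → D.idx) (he : R ⊆ Set.range e) (e' : Fin k' → D.idx)
    (v' : Fin k' → Γ(X.left, ⊤)) (hv' : ∀ l, e' l ∉ R → v' l = 0) :
    ∃ v, (∀ l, e l ∉ R → v l = 0) ∧ rp D e' v' = rp D e v := by
  have h : rp D e' v' ∈ fil D R X b 0 := rp_mem_fil D R X e' v' fun l hl => hv' l fun hR' =>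
    hl ⟨hR', (height_pos D (hR _ hR')).le⟩
  obtain ⟨z, hz, hzv⟩ := exists_rp_mul D eneg epos hneg hpos R hR hcl X e he le_rfl 0 (fun _ _ => rfl) h
  exact ⟨z, fun l hl => hz l fun h' => hl h'.1, by rw [rp_zero_fn, _root_.one_mul, zero_add] at hzv; exact hzv⟩

theorem exists_sum_mod [D.P.IsReduced] {h : ℤ} (hh : 0 ≤ h) : ∀ {k : ℕ} (e : Fin k → D.idx)
    (d : Fin k → Γ(X.left, ⊤)), Supp D R X b e h d →
      ∃ dd : Fin m → Γ(X.left, ⊤), Supp D R X b epos h dd ∧
        (∀ l, dd l = ∑ i, open Classical in if e i = epos l then d i else 0) ∧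
        (rp D epos dd)⁻¹ * rp D e d ∈ fil D R X b (h + 1)
  | 0, e, d, _ => ⟨0, fun _ _ => rfl, fun _ => by simp, by
      rw [show d = 0 from funext fun i => i.elim0, rp_zero_fn, rp_zero_fn]; simp⟩
  | k + 1, e, d, hd => by
    classical
    haveI := (D.rootHom (e 0)).1
    obtain ⟨dd, h1, h2, h3⟩ := exists_sum_mod hh (fun l => e l.succ) (fun l => d l.succ) fun l hl => hd l.succ hl
    let s : Fin m → Γ(X.left, ⊤) := fun l => if e 0 = epos l then d 0 else 0
    have hs : Supp D R X b epos h s := fun l hl => by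
      simp only [s]
      split_ifs with he
      · exact hd 0 (by rwa [he])
      · rfl
    have hs' : rp D epos s = P (D.u (e 0)) (d 0) := by
      by_cases h0 : e 0 ∈ R ∧ h ≤ b.height (e 0)
      · obtain ⟨l0, hl0⟩ := (hpos.2.symm ▸ hR _ h0.1 : e 0 ∈ Set.range epos)
        rw [rp_single D epos s l0 fun j hj => if_neg fun he => hj (hpos.1 (hl0.trans he).symm), hl0]
        simp [s, hl0]
      · rw [show s = 0 from funext fun l => by simp [s, hd 0 h0], rp_zero_fn, hd 0 h0, RankOne.P_zero]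
    refine ⟨s + dd, supp_add D R X hs h1, fun l => ?_, ?_⟩
    · rw [Pi.add_apply, h2, Fin.sum_univ_succ]
    · have hadd := rp_add D eneg epos hneg hpos R hR hcl X hh epos s dd (supp_mono D R X hh hs) h1
      rw [rp_succ D e d, ← hs', show (rp D epos (s + dd))⁻¹ * (rp D epos s * rp D (fun l => e l.succ) fun l => d l.succ) =
        ((rp D epos s * rp D epos dd)⁻¹ * rp D epos (s + dd))⁻¹ *
          ((rp D epos dd)⁻¹ * rp D (fun l => e l.succ) fun l => d l.succ) by group]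
      exact mul_mem (inv_mem hadd) h3

theorem rp_inj [D.P.IsReduced] {k : ℕ} (e : Fin k → D.idx) (he : Function.Injective e) (heR : ∀ l, e l ∈ R)
    (v v' : Fin k → Γ(X.left, ⊤)) (h : rp D e v = rp D e v') : v = v' := by
  classical
  suffices H : ∀ t : ℕ, ∀ l, b.height (e l) < t → v l = v' l from funext fun l =>
    H ((b.height (e l)).toNat + 1) l (by have := height_pos D (hR _ (heR l)); push_cast; omega)
  intro t
  induction t with
  | zero => exact fun l hl => absurd hl (not_lt.2 (by simpa using (height_pos D (hR _ (heR l))).le))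
  | succ t ih =>
    set d := v' - v with hd
    have hds : Supp D R X b e t d := fun l hl => by
      rw [hd, Pi.sub_apply, sub_eq_zero]
      exact (ih l (not_le.1 fun h' => hl ⟨heR l, h'⟩)).symm
    have hv : Supp D R X b e 0 v := fun l hl => absurd ⟨heR l, (height_pos D (hR _ (heR l))).le⟩ hl
    have hadd := rp_add D eneg epos hneg hpos R hR hcl X (Int.natCast_nonneg t) e v d hv hds
    rw [hd, add_sub_cancel, ← h, show (rp D e v * rp D e (v' - v))⁻¹ * rp D e v = (rp D e (v' - v))⁻¹ by group,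
      ← hd] at hadd
    obtain ⟨dd, hdd, hsum, hmod⟩ := exists_sum_mod D eneg epos hneg hpos R hR hcl X (Int.natCast_nonneg t) e d hds
    have hmem : rp D epos dd ∈ fil D R X b ((t : ℤ) + 1) := by
      have h2 := mul_mem (inv_mem_iff.1 hadd) (inv_mem hmod)
      rwa [show rp D e d * ((rp D epos dd)⁻¹ * rp D e d)⁻¹ = rp D epos dd by group] at h2
    obtain ⟨z, hz, hzv⟩ := exists_rp_mul D eneg epos hneg hpos R hR hcl X epos
      (fun c hc => hpos.2.symm ▸ hR c hc) (by positivity) 0 (fun _ _ => rfl) hmem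
    rw [rp_zero_fn, _root_.one_mul, zero_add, ← cellPt_zero_left D eneg, ← cellPt_zero_left D eneg] at hzv
    obtain ⟨-, -, hdz⟩ := cellPt_inj D eneg epos hneg hpos hzv
    intro l hl
    by_cases hlt : b.height (e l) < t
    · exact ih l hlt
    · obtain ⟨l', hl'⟩ := (hpos.2.symm ▸ hR _ (heR l) : e l ∈ Set.range epos)
      have h1 := hsum l'
      rw [hdz, hz l' (fun h' => by rw [hl'] at h'; push_cast at hl; omega),
        Finset.sum_eq_single l (fun i _ hi => if_neg fun h' => hi (he (h'.trans hl'))) (by simp), if_pos hl'.symm,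
        hd, Pi.sub_apply] at h1
      exact (sub_eq_zero.1 h1.symm).symm

omit hneg hpos hR hcl in
theorem rp_eq_prod : ∀ {k : ℕ} (e : Fin k → D.idx) (v : Fin k → Γ(X.left, ⊤)),
    rp D e v = (List.ofFn fun l => P (D.u (e l)) (v l)).prod
  | 0, e, v => by rw [show v = 0 from funext fun i => i.elim0, rp_zero_fn]; simp
  | k + 1, e, v => by rw [rp_succ, rp_eq_prod (fun l => e l.succ), List.ofFn_succ, List.prod_cons]


end Groth.Agent.RedCell16
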