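import Groth.Agent.Lib.RedCell16.Realise
import Groth.Agent.Lib.RedCell16.PosProd

/-!
# The unipotent groups generated by the positive, resp. negative root groups
-/

set_option autoImplicit false
set_option linter.style.haveILetI false
set_option linter.unusedSimpArgs false
set_option linter.unusedSectionVars false
set_option backward.isDefEq.respectTransparency false
set_option backward.isDefEq.respectTransparency.types false

universe u

open CategoryTheory CategoryTheory.Limits MonoidalCategory CartesianMonoidalCategory MonObj AlgebraicGeometry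

noncomputable section

namespace Groth.Agent.RedCell16

open DiagGL RootDLib
open RankOne (P A)

variable {S : Scheme.{u}} {G : Over S} [GrpObj G] (D : Red.SplitRed G)

/-- The roots of a subset, generating. -/
def gens (R : Set D.idx) (X : Over S) : Subgroup (X ⟶ G) :=
  Subgroup.closure {g | ∃ (d : D.idx) (a : Γ(X.left, ⊤)), d ∈ R ∧ g = P (D.u d) a}

theorem P_mem_gens {R : Set D.idx} {X : Over S} {d : D.idx} (hd : d ∈ R) (a : Γ(X.left, ⊤)) :
    P (D.u d) a ∈ gens D R X :=
  Subgroup.subset_closure ⟨d, a, hd, rfl⟩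

theorem gens_mono {R R' : Set D.idx} (h : R ⊆ R') (X : Over S) : gens D R X ≤ gens D R' X :=
  Subgroup.closure_mono fun _ ⟨d, a, hd, hg⟩ => ⟨d, a, h hd, hg⟩

theorem conj_gens {R : Set D.idx} {X : Over S} (g : X ⟶ G) (H : Subgroup (X ⟶ G))
    (h : ∀ d ∈ R, ∀ a : Γ(X.left, ⊤), g * P (D.u d) a * g⁻¹ ∈ H) {w : X ⟶ G} (hw : w ∈ gens D R X) :
    g * w * g⁻¹ ∈ H := by
  refine Subgroup.closure_induction ?_ (by simp) ?_ ?_ hw
  · rintro _ ⟨d, a, hd, rfl⟩; exact h d hd a
  · intro x y _ _ hx hy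
    rw [show g * (x * y) * g⁻¹ = (g * x * g⁻¹) * (g * y * g⁻¹) by group]
    exact Subgroup.mul_mem _ hx hy
  · intro x _ hx
    rw [show g * x⁻¹ * g⁻¹ = (g * x * g⁻¹)⁻¹ by group]
    exact Subgroup.inv_mem _ hx

theorem rp_mem_gens {R : Set D.idx} {X : Over S} : ∀ {k : ℕ} (e : Fin k → D.idx) (v : Fin k → Γ(X.left, ⊤)),
    (∀ l, e l ∈ R) → rp D e v ∈ gens D R X
  | 0, e, v, _ => by
    rw [show v = 0 from funext fun i => i.elim0, rp_zero_fn]
    exact Subgroup.one_mem _
  | k + 1, e, v, h => by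
    rw [rp_succ]
    exact Subgroup.mul_mem _ (P_mem_gens D (h 0) _) (rp_mem_gens _ _ fun l => h l.succ)

theorem torus_conj_gens {R : Set D.idx} {X : Over S} (t : X ⟶ D.T) {w : X ⟶ G} (hw : w ∈ gens D R X) :
    (t ≫ D.i) * w * (t ≫ D.i)⁻¹ ∈ gens D R X :=
  conj_gens D _ _ (fun d hd a => by rw [conj_P]; exact P_mem_gens D hd _) hw

theorem rp_append {X : Over S} {k k' : ℕ} (e : Fin k → D.idx) (e' : Fin k' → D.idx)
    (v : Fin (k + k') → Γ(X.left, ⊤)) :
    rp D (Fin.append e e') v = rp D e (fun i => v (Fin.castAdd k' i)) * rp D e' (fun i => v (Fin.natAdd k i)) := by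
  rw [rp_eq_prod, rp_eq_prod, rp_eq_prod, ← List.prod_append, ← List.ofFn_fin_append]
  congr 2
  funext i
  refine Fin.addCases (fun j => ?_) (fun j => ?_) i <;> simp

theorem exists_enum_set (R : Set D.idx) : ∃ (k : ℕ) (e : Fin k → D.idx), RedSub.Enumerates R e := by
  classical
  haveI := D.fintypeIdx
  refine ⟨_, fun i => ((Fintype.equivFin R).symm i).1, Subtype.val_injective.comp (Equiv.injective _), ?_⟩
  ext x
  exact ⟨fun ⟨i, hi⟩ => hi ▸ ((Fintype.equivFin R).symm i).2, fun hx => ⟨Fintype.equivFin R ⟨x, hx⟩, by simp⟩⟩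

variable [D.P.IsReduced]

/-- The negative roots are the positive roots of another base. -/
theorem exists_negBase (b : D.P.Base) : ∃ bn : D.P.Base,
    RedSub.posRoots D.P bn = RedSub.negRoots D.P b ∧ RedSub.negRoots D.P bn = RedSub.posRoots D.P b := by
  haveI := D.fintypeIdx
  have hcl : RootD.IsClosedSub D.P (RedSub.negRoots D.P b) := fun i j k hi hj hk => by
    show -D.P.root k ∈ AddSubmonoid.closure _
    rw [hk, neg_add]
    exact add_mem hi hj
  have hcov : ∀ a, a ∈ RedSub.negRoots D.P b ∨ ng D.P a ∈ RedSub.negRoots D.P b := fun a => by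
    by_cases h : a ∈ RedSub.negRoots D.P b
    · exact Or.inl h
    · refine Or.inr ((RootComb21.mem_negRoots_iff_ng b _).2 ?_)
      rw [ng_ng]
      by_contra h'
      exact h ((RootComb21.mem_negRoots_iff b a).2 h')
  obtain ⟨bn, hbn⟩ := RootComb21.exists_posRoots_subset b hcl hcov
  have h1 : RedSub.posRoots D.P bn = RedSub.negRoots D.P b := by
    refine hbn.antisymm fun c hc => ?_
    by_contra hn
    have h2 := hbn ((RootComb21.mem_negRoots_iff_ng bn c).1 ((RootComb21.mem_negRoots_iff bn c).2 hn))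
    have h3 := (RootComb21.mem_negRoots_iff_ng b _).1 h2
    rw [ng_ng] at h3
    exact (RootComb21.mem_negRoots_iff b c).1 hc h3
  refine ⟨bn, h1, ?_⟩
  ext c
  rw [RootComb21.mem_negRoots_iff, h1, RootComb21.mem_negRoots_iff, not_not]

theorem posRoots_comb (b : D.P.Base) {p q d : D.idx} {i j : ℕ} (hp : p ∈ RedSub.posRoots D.P b)
    (hq : q ∈ RedSub.posRoots D.P b) (h : IsComb D p q d i j) : d ∈ RedSub.posRoots D.P b := by
  show D.P.root d ∈ AddSubmonoid.closure _
  rw [h.2.2, natCast_zsmul, natCast_zsmul]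
  exact add_mem (nsmul_mem hp i) (nsmul_mem hq j)

/-- Coordinates of the group of the positive root groups. -/
theorem exists_coords (b : D.P.Base) {X : Over S} {k : ℕ} (e : Fin k → D.idx)
    (he : RedSub.posRoots D.P b ⊆ Set.range e) {w : X ⟶ G} (hw : w ∈ gens D (RedSub.posRoots D.P b) X) :
    ∃ z, w = rp D e z := by
  obtain ⟨n, m, eneg, epos, hneg, hpos⟩ := exists_enum D b
  have hw' : w ∈ fil D (RedSub.posRoots D.P b) X b 0 := by
    refine (Subgroup.closure_le _).2 ?_ hw
    rintro _ ⟨d, a, hd, rfl⟩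
    exact P_mem_fil D _ X hd (height_pos D hd).le a
  obtain ⟨z, -, hz⟩ := exists_rp_mul D eneg epos hneg hpos (RedSub.posRoots D.P b) (fun _ h => h)
    (fun p q d i j => posRoots_comb D b) X e he le_rfl 0 (fun _ _ => rfl) hw'
  exact ⟨0 + z, by rw [← hz, rp_zero_fn, _root_.one_mul]⟩

/-- Splitting along a partition of the positive roots. -/
theorem exists_split (b : D.P.Base) {X : Over S} (R₁ R₂ : Set D.idx) (h : RedSub.posRoots D.P b = R₁ ∪ R₂)
    {w : X ⟶ G} (hw : w ∈ gens D (RedSub.posRoots D.P b) X) :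
    ∃ w₁ ∈ gens D R₁ X, ∃ w₂ ∈ gens D R₂ X, w = w₁ * w₂ := by
  obtain ⟨k₁, e₁, h₁⟩ := exists_enum_set D R₁
  obtain ⟨k₂, e₂, h₂⟩ := exists_enum_set D R₂
  obtain ⟨z, hz⟩ := exists_coords D b (Fin.append e₁ e₂) (by
    rw [h]
    rintro x (hx | hx)
    · obtain ⟨i, rfl⟩ := h₁.2.symm ▸ hx
      exact ⟨Fin.castAdd k₂ i, Fin.append_left _ _ i⟩
    · obtain ⟨i, rfl⟩ := h₂.2.symm ▸ hx
      exact ⟨Fin.natAdd k₁ i, Fin.append_right _ _ i⟩) hw
  rw [rp_append] at hz
  exact ⟨_, rp_mem_gens D _ _ fun l => h₁.2 ▸ Set.mem_range_self l, _,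
    rp_mem_gens D _ _ fun l => h₂.2 ▸ Set.mem_range_self l, hz⟩

end Groth.Agent.RedCell16
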