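import Groth.Agent.Lib.RedCell16.BorelGlobal
import Groth.Agent.Lib.TorPts21.CentralizerInter
import Groth.Agent.Lib.TorPts21.BorelCentre
import Groth.Agent.Lib.OrbitTop19.Smooth
import Groth.Agent.Lib.AbRigid.SmoothGI
import Groth.Agent.Lib.RootD.Transfer
import Groth.Agent.S8070

/-!
# The group structure on the parametrisation, and maximality over a field
-/

set_option autoImplicit false
set_option linter.style.haveILetI false
set_option linter.unusedSimpArgs false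
set_option linter.unusedSectionVars false
set_option backward.isDefEq.respectTransparency false
set_option backward.isDefEq.respectTransparency.types false

universe u

open CategoryTheory CategoryTheory.Limits MonoidalCategory CartesianMonoidalCategory MonObj AlgebraicGeometry
open scoped commutatorElement

noncomputable section

namespace Groth.Agent.RedCell16

open DiagGL RootDLib
open RankOne (P A)
open AttrBorel21 (powPt powFn powPt_powFn)

section Global

variable {S : Scheme.{u}} {G : Over S} [GrpObj G] (D : Red.SplitRed G) [D.P.IsReduced] (b : D.P.Base)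

/-- The subgroup `T U` on points. -/
def borelPts (X : Over S) : Subgroup (X ⟶ G) where
  carrier := {g | ∃ (t : X ⟶ D.T), ∃ z ∈ gens D (RedSub.posRoots D.P b) X, g = (t ≫ D.i) * z}
  one_mem' := ⟨1, 1, Subgroup.one_mem _, by haveI := D.maximalTorus.1; rw [MonObj.one_comp]; group⟩
  mul_mem' := by
    haveI := D.maximalTorus.1
    rintro _ _ ⟨t, z, hz, rfl⟩ ⟨t', z', hz', rfl⟩
    refine ⟨t * t', (t'⁻¹ ≫ D.i) * z * (t'⁻¹ ≫ D.i)⁻¹ * z', mul_mem (torus_conj_gens D t'⁻¹ hz) hz', ?_⟩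
    rw [MonObj.mul_comp, GrpObj.inv_comp]
    group
  inv_mem' := by
    haveI := D.maximalTorus.1
    rintro _ ⟨t, z, hz, rfl⟩
    refine ⟨t⁻¹, (t ≫ D.i) * z⁻¹ * (t ≫ D.i)⁻¹, torus_conj_gens D t (inv_mem hz), ?_⟩
    rw [GrpObj.inv_comp]
    group

theorem torus_mem_borelPts {X : Over S} (t : X ⟶ D.T) : t ≫ D.i ∈ borelPts D b X :=
  ⟨t, 1, Subgroup.one_mem _, (_root_.mul_one _).symm⟩

theorem gens_le_borelPts {X : Over S} : gens D (RedSub.posRoots D.P b) X ≤ borelPts D b X := fun z hz =>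
  ⟨1, z, hz, by haveI := D.maximalTorus.1; rw [MonObj.one_comp, _root_.one_mul]⟩

variable {m : ℕ} (epos : Fin m → D.idx) (hpos : RedSub.Enumerates (RedSub.posRoots D.P b) epos)

include hpos

theorem factor_iff {X : Over S} (g : X ⟶ G) :
    (∃ d, d ≫ RedSub.borelMap D epos = g) ↔ g ∈ borelPts D b X := by
  constructor
  · rintro ⟨d, rfl⟩
    obtain ⟨t, z, rfl⟩ := exists_mkB D d
    exact ⟨t, _, rp_mem_gens D _ _ fun i => hpos.2 ▸ Set.mem_range_self i, mkB_comp D epos t z⟩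
  · rintro ⟨t, z, hz, rfl⟩
    obtain ⟨v, rfl⟩ := exists_coords D b epos hpos.2.ge hz
    exact ⟨mkB D t v, mkB_comp D epos t v⟩

/-- The parametrised subgroup is a group. -/
theorem exists_grpObj [Mono (RedSub.borelMap D epos)] :
    ∃ _ : GrpObj (D.T ⊗ RedSub.pow (Red.Ga S) m), IsMonHom (RedSub.borelMap D epos) := by
  have hid : RedSub.borelMap D epos ∈ borelPts D b _ := (factor_iff D b epos hpos _).1 ⟨𝟙 _, Category.id_comp _⟩
  have hf : ∀ {X : Over S} (d : X ⟶ D.T ⊗ RedSub.pow (Red.Ga S) m), d ≫ RedSub.borelMap D epos ∈ borelPts D b X :=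
    fun d => (factor_iff D b epos hpos _).1 ⟨d, rfl⟩
  choose mm hm using (factor_iff D b epos hpos _).2
    (mul_mem (hf (fst (D.T ⊗ RedSub.pow (Red.Ga S) m) (D.T ⊗ RedSub.pow (Red.Ga S) m))) (hf (snd _ _)))
  choose ee he using (factor_iff D b epos hpos (1 : 𝟙_ (Over S) ⟶ G)).2 (Subgroup.one_mem _)
  choose nn hn using (factor_iff D b epos hpos _).2 (inv_mem hid)
  exact ⟨SubGrp13.grpObjOfMono _ hm he hn, SubGrp13.isMonHom_grpObjOfMono _ hm he hn⟩

variable {n : ℕ} (eneg : Fin n → D.idx) (hneg : RedSub.Enumerates (RedSub.negRoots D.P b) eneg)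

include hneg

/-- The parametrised subgroup is solvable. -/
theorem isSolvableGrp_borel [GrpObj (D.T ⊗ RedSub.pow (Red.Ga S) m)] [IsMonHom (RedSub.borelMap D epos)]
    [Mono (RedSub.borelMap D epos)] : Red.IsSolvableGrp (D.T ⊗ RedSub.pow (Red.Ga S) m) := by
  haveI := D.fintypeIdx
  haveI := D.maximalTorus.1
  obtain ⟨B, hB⟩ := exists_height_bound D b
  refine ⟨B + 1, fun X => ?_⟩
  let R := RedSub.posRoots D.P b
  have hcl : ∀ (p q d : D.idx) (i j : ℕ), p ∈ R → q ∈ R → IsComb D p q d i j → d ∈ R :=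
    fun p q d i j => posRoots_comb D b
  have hR : ∀ d ∈ R, d ∈ RedSub.posRoots D.P b := fun _ h => h
  have hgens : gens D R X ≤ fil D R X b 0 := (Subgroup.closure_le _).2 (by
    rintro _ ⟨d, a, hd, rfl⟩
    exact P_mem_fil D R X hd (height_pos D hd).le a)
  let φ : (X ⟶ D.T ⊗ RedSub.pow (Red.Ga S) m) →* (X ⟶ G) :=
    MonoidHom.mk' (fun d => d ≫ RedSub.borelMap D epos) fun d d' => MonObj.mul_comp d d' _
  have comm_fil : ∀ (h : ℤ), 0 ≤ h → ⁅fil D R X b h, fil D R X b h⁆ ≤ fil D R X b (h + 1) := fun h hh => by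
    rw [Subgroup.commutator_le]
    intro g hg c hc
    have hg0 := fil_anti D R X hh hg
    rw [commutatorElement_def]
    refine Subgroup.closure_induction ?_ (by simp) ?_ ?_ hc
    · rintro _ ⟨q, a, hq, hq', rfl⟩
      exact central_mem_fil D eneg epos hneg hpos R hR hcl X hg0 hq hq' a
    · intro x y hxm _ hx hy
      rw [show g * (x * y) * g⁻¹ * (x * y)⁻¹ = (g * x * g⁻¹ * x⁻¹) * (x * (g * y * g⁻¹ * y⁻¹) * x⁻¹) by group]
      exact mul_mem hx (conj_mem_fil D eneg epos hneg hpos R hR hcl X (fil_anti D R X hh hxm) hy)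
    · intro x hxm hx
      rw [show g * x⁻¹ * g⁻¹ * x⁻¹⁻¹ = x⁻¹ * (g * x * g⁻¹ * x⁻¹)⁻¹ * x⁻¹⁻¹ by group]
      exact conj_mem_fil D eneg epos hneg hpos R hR hcl X (inv_mem (fil_anti D R X hh hxm)) (inv_mem hx)
  have key : ∀ k : ℕ, (derivedSeries (X ⟶ D.T ⊗ RedSub.pow (Red.Ga S) m) (k + 1)).map φ ≤ fil D R X b k := by
    intro k
    induction k with
    | zero =>
      rw [derivedSeries_succ, derivedSeries_zero, Subgroup.map_commutator, Subgroup.commutator_le]
      rintro _ ⟨d, -, rfl⟩ _ ⟨d', -, rfl⟩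
      obtain ⟨t, z, hz, hd⟩ := (factor_iff D b epos hpos _).1 ⟨d, rfl⟩
      obtain ⟨t', z', hz', hd'⟩ := (factor_iff D b epos hpos _).1 ⟨d', rfl⟩
      show ⁅d ≫ RedSub.borelMap D epos, d' ≫ RedSub.borelMap D epos⁆ ∈ _
      rw [hd, hd', commutatorElement_def]
      refine hgens ?_
      have hc : (t ≫ D.i) * (t' ≫ D.i) = (t' ≫ D.i) * (t ≫ D.i) := by
        rw [← MonObj.mul_comp, ← MonObj.mul_comp, torus_comm D]
      have e : (t ≫ D.i) * z * ((t' ≫ D.i) * z') * ((t ≫ D.i) * z)⁻¹ * ((t' ≫ D.i) * z')⁻¹ =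
          ((t * t') ≫ D.i) * ((t'⁻¹ ≫ D.i) * z * (t'⁻¹ ≫ D.i)⁻¹ * z' * z⁻¹) * ((t * t') ≫ D.i)⁻¹ *
            ((t' ≫ D.i) * z'⁻¹ * (t' ≫ D.i)⁻¹) := by
        have h3 : ((t ≫ D.i) * (t' ≫ D.i))⁻¹ * (t' ≫ D.i) = (t ≫ D.i)⁻¹ := by rw [hc]; group
        rw [MonObj.mul_comp, GrpObj.inv_comp]
        calc _ = (t ≫ D.i) * (t' ≫ D.i) * ((t' ≫ D.i)⁻¹ * z * (t' ≫ D.i) * z' * z⁻¹) *
              ((t ≫ D.i)⁻¹ * z'⁻¹ * (t' ≫ D.i)⁻¹) := by group
          _ = _ := by rw [← h3]; group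
      rw [e]
      exact mul_mem (torus_conj_gens D _ (mul_mem (mul_mem (torus_conj_gens D t'⁻¹ hz) hz') (inv_mem hz)))
        (torus_conj_gens D t' (inv_mem hz'))
    | succ k ih =>
      rw [derivedSeries_succ, Subgroup.map_commutator]
      refine (Subgroup.commutator_mono ih ih).trans ?_
      exact_mod_cast comm_fil (k : ℤ) (Int.natCast_nonneg k)
  refine (Subgroup.eq_bot_iff_forall _).2 fun d hd => ?_
  have h1 := key B ⟨d, hd, rfl⟩
  rw [fil_eq_bot D R X hB, Subgroup.mem_bot] at h1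
  exact (cancel_mono (RedSub.borelMap D epos)).1 (h1.trans (MonObj.one_comp (RedSub.borelMap D epos)).symm)

end Global

section Field

variable {K : Type u} [Field K] [IsAlgClosed K]

/-- A product of connected smooth groups is connected. -/
theorem connectedSpace_grpTensor (U V : Over (Spec (CommRingCat.of K))) [GrpObj U] [GrpObj V] [Smooth U.hom]
    [Smooth V.hom] [ConnectedSpace U.left] [ConnectedSpace V.left] : ConnectedSpace (U ⊗ V).left := by
  haveI := AbRigid.irreducibleSpace_of_isAlgClosed U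
  haveI := AbRigid.geometricallyIrreducible_of_connected V
  haveI : IrreducibleSpace ↥(Limits.pullback U.hom V.hom) := inferInstance
  exact inferInstanceAs (ConnectedSpace ↥(Limits.pullback U.hom V.hom))

theorem connectedSpace_powGa : ∀ m : ℕ, ConnectedSpace (RedSub.pow (Red.Ga (Spec (CommRingCat.of K))) m).left
  | 0 => inferInstanceAs (ConnectedSpace (PrimeSpectrum K))
  | m + 1 => by
    haveI := connectedSpace_powGa m
    letI := grpPow (k := K) m
    obtain ⟨-, hs, -⟩ := lft_pow (k := K) m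
    haveI := hs
    obtain ⟨-, hGs, hGc⟩ := AttrBorel21.smooth_affine_Ga K
    haveI := hGs
    haveI := hGc
    exact connectedSpace_grpTensor (Red.Ga (Spec (CommRingCat.of K))) (RedSub.pow _ m)

variable {G : Over (Spec (CommRingCat.of K))} [GrpObj G]

/-- A subgroup which has all rational points of a larger smooth connected group is equal to it. -/
theorem isIso_of_pts {B B' : Over (Spec (CommRingCat.of K))} (i : B ⟶ G) (i' : B' ⟶ G) (f : B ⟶ B')
    (hf : f ≫ i' = i) [IsClosedImmersion i.left] [IsClosedImmersion i'.left] [Smooth B'.hom]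
    (h : ∀ x : VecGrp.pt K K ⟶ B', ∃ y : VecGrp.pt K K ⟶ B, y ≫ i = x ≫ i') : IsIso f := by
  haveI : IsClosedImmersion f.left := by
    haveI : IsClosedImmersion (f.left ≫ i'.left) := by rw [← Over.comp_left, hf]; infer_instance
    exact IsClosedImmersion.of_comp f.left i'.left
  haveI : Mono i' := Over.mono_of_mono_left _
  haveI : JacobsonSpace B'.left := LocallyOfFiniteType.jacobsonSpace B'.hom
  haveI : IsReduced B'.left := AbRigid.isReduced_of_smooth_over_field B'.hom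
  haveI : Surjective f.left := ⟨fun z => by
    by_contra hz
    obtain ⟨x, hx⟩ := BorelFix21.exists_pt_mem (G := B') (Z := (Set.range f.left)ᶜ)
      f.left.isClosedEmbedding.isClosed_range.isOpen_compl.isLocallyClosed ⟨z, hz⟩
    obtain ⟨y, hy⟩ := h x
    refine hx ⟨InvRing21.img y, ?_⟩
    have e : y ≫ f = x := (cancel_mono i').1 (by rw [Category.assoc, hf, hy])
    rw [← e]
    rfl⟩
  haveI : IsIso f.left := isIso_of_isClosedImmersion_of_surjective f.left
  haveI : IsIso ((Over.forget _).map f) := ‹IsIso f.left›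
  exact isIso_of_reflects_iso f (Over.forget _)

variable (D : Red.SplitRed G) [D.P.IsReduced] (b : D.P.Base)

/-- A connected smooth solvable subgroup containing the torus and the positive root groups has no other rational points. -/
theorem mem_borelPts_of_solvable [IsAffine G.left] [Smooth G.hom] [ConnectedSpace G.left]
    {B' : Over (Spec (CommRingCat.of K))} [GrpObj B'] (i' : B' ⟶ G) [IsMonHom i'] [IsClosedImmersion i'.left]
    [Smooth B'.hom] [ConnectedSpace B'.left] (hsol : Red.IsSolvableGrp B')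
    (t : D.T ⟶ B') (ht : t ≫ i' = D.i)
    (hu : ∀ c ∈ RedSub.posRoots D.P b, ∃ v : Red.Ga (Spec (CommRingCat.of K)) ⟶ B', v ≫ i' = D.u c)
    (x : RankOne16.kPt (𝟙 (Spec (CommRingCat.of K))) ⟶ B') :
    x ≫ i' ∈ borelPts D b _ := by
  haveI := D.fintypeIdx
  obtain ⟨B₀, _, i₀, f, hB₀, hf⟩ := BorelFix21.exists_le_borel i' hsol
  haveI := hB₀.1
  haveI := hB₀.2.1
  haveI : Mono i₀ := Over.mono_of_mono_left _
  have hsome : ∀ c ∈ RedSub.posRoots D.P b, ∃ v : Red.Ga (Spec (CommRingCat.of K)) ⟶ B₀, v ≫ i₀ = D.u c :=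
    fun c hc => by
      obtain ⟨v, hv⟩ := hu c hc
      exact ⟨v ≫ f, by rw [Category.assoc, hf, hv]⟩
  have hxor := Groth.Agent.S8070.result K G D B₀ i₀ (TorPts21.isBorel_of_isBorelOver hB₀) (t ≫ f)
    (by rw [Category.assoc, hf, ht])
  have hpos : ∀ c : D.idx, (∃ v : Red.Ga (Spec (CommRingCat.of K)) ⟶ B₀, v ≫ i₀ = D.u c) →
      c ∈ RedSub.posRoots D.P b := fun c hc => by
    by_contra hn
    have h1 : ng D.P c ∈ RedSub.posRoots D.P b :=
      (RootComb21.mem_negRoots_iff_ng b c).1 ((RootComb21.mem_negRoots_iff b c).2 hn)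
    rcases hxor c with ⟨-, h⟩ | ⟨-, h⟩
    · exact h (hsome _ h1)
    · exact h hc
  let H : ∀ X : Over (Spec (CommRingCat.of K)), Subgroup (X ⟶ G) := fun X =>
    (MonoidHom.mk' (fun y : X ⟶ B₀ => y ≫ i₀) fun y y' => MonObj.mul_comp y y' i₀).range
  have hT : ∀ {X} (s : X ⟶ D.T), s ≫ D.i ∈ H X := fun s =>
    ⟨s ≫ t ≫ f, by show (s ≫ t ≫ f) ≫ i₀ = _; rw [Category.assoc, Category.assoc, hf, ht]⟩
  have hU : ∀ {X} {z : X ⟶ G}, z ∈ gens D (RedSub.posRoots D.P b) X → z ∈ H X := fun {X} {z} hz => by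
    refine (Subgroup.closure_le (K := H X)).2 ?_ hz
    rintro _ ⟨c, a, hc, rfl⟩
    obtain ⟨v, hv⟩ := hsome c hc
    exact ⟨GaPts.ptOfFn a ≫ v, by show (GaPts.ptOfFn a ≫ v) ≫ i₀ = _; rw [Category.assoc, hv]; rfl⟩
  obtain ⟨nr, hnr⟩ := exists_realises D
  obtain ⟨bn, hbn, hbp⟩ := exists_negBase D b
  -- the point is in a cell for the negative base
  haveI := D.maximalTorus.1
  obtain ⟨v₀, hv₀, hv₀im⟩ := exists_weyl_image_eq (isPosSys_posOf (RootComb21.isSimpleSys_support bn))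
    (isPosSys_posOf (RootComb21.isSimpleSys_support b))
  obtain ⟨l₀, hl₀⟩ := exists_word_weyl hv₀
  let X := RankOne16.kPt (𝟙 (Spec (CommRingCat.of K)))
  have hN₀ := nrm_word D nr hnr l₀
  let N₀ := toUnit X ≫ Nw D nr l₀
  obtain ⟨l, u, hu', s, z, hz, e⟩ := cov_all D bn nr hnr (𝟙 _) ((x ≫ i') * N₀)
  have hu1 : u ∈ gens D (RedSub.posRoots D.P b) X := by rw [← hbp]; exact hu'
  have hz1 : N₀ * z * N₀⁻¹ ∈ gens D (RedSub.posRoots D.P b) X := conj_gens D N₀ _ (fun c hc a => by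
    obtain ⟨ν, hν⟩ := hN₀.cj_P D b c
    have h1 := hν X a
    rw [cj] at h1
    rw [h1]
    refine P_mem_gens D ?_ _
    rw [RootComb21.posRoots_eq, ← hv₀im, hl₀]
    exact ⟨c, by rw [← RootComb21.posRoots_eq]; exact hc, rfl⟩) hz
  let N : 𝟙_ (Over (Spec (CommRingCat.of K))) ⟶ G := Nw D nr l * (Nw D nr l₀)⁻¹
  have hN : Nrm D N (wprod D.P l * (wprod D.P l₀)⁻¹) := (nrm_word D nr hnr l).mul hN₀.inv
  obtain ⟨s', hs', -⟩ := nrm_word D nr hnr l X s
  have eg : x ≫ i' = u * (s' ≫ D.i) * (toUnit X ≫ N) * (N₀ * z * N₀⁻¹) := by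
    rw [eq_mul_inv_of_mul_eq e, ← hs']
    simp only [N, N₀, MonObj.comp_mul, GrpObj.comp_inv]
    group
    rfl
  have hgH : x ≫ i' ∈ H X := ⟨x ≫ f, by show (x ≫ f) ≫ i₀ = _; rw [Category.assoc, hf]⟩
  have hNX : toUnit X ≫ N ∈ H X := by
    have : toUnit X ≫ N = (s' ≫ D.i)⁻¹ * u⁻¹ * (x ≫ i') * (N₀ * z * N₀⁻¹)⁻¹ := by rw [eg]; group
    rw [this]
    exact mul_mem (mul_mem (mul_mem (inv_mem (hT s')) (inv_mem (hU hu1))) hgH) (inv_mem (hU hz1))
  have hNa : ∀ Y : Over (Spec (CommRingCat.of K)), toUnit Y ≫ N ∈ H Y := fun Y => by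
    obtain ⟨w, hw⟩ := hNX
    refine ⟨(Over.homMk Y.hom (Category.comp_id _) : Y ⟶ X) ≫ w, ?_⟩
    show (_ ≫ w) ≫ i₀ = _
    rw [Category.assoc, show w ≫ i₀ = toUnit X ≫ N from hw, toUnit_comp]
  set v := wprod D.P l * (wprod D.P l₀)⁻¹ with hv
  have hW : ∀ l' : List D.idx, wprod D.P l' ∈ D.P.weylGroup := fun l' => by
    rw [weylGroup_eq_closure]; exact wprod_mem fun _ _ => Set.mem_univ _
  have hv1 : v = 1 := by
    refine eq_one_of_mapsTo (RootComb21.isSimpleSys_support b)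
      (Subgroup.mul_mem _ (hW l) (Subgroup.inv_mem _ (hW l₀))) fun c hc => ?_
    rw [← RootComb21.posRoots_eq]
    apply hpos
    obtain ⟨ν, hν⟩ := hN.inv.cj_P D b (v • c)
    let Y := Red.Ga (Spec (CommRingCat.of K))
    have h1 := hν Y (Red.gaFn (𝟙 Y))
    rw [cj, GrpObj.comp_inv, _root_.inv_inv, inv_smul_smul] at h1
    have hcp : c ∈ RedSub.posRoots D.P b := by rw [RootComb21.posRoots_eq]; exact mem_posOf_of_mem hc
    have h3 : D.u (v • c) = (toUnit Y ≫ N) * P (D.u c) (ν Y * Red.gaFn (𝟙 Y)) * (toUnit Y ≫ N)⁻¹ := by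
      rw [← h1, show P (D.u (v • c)) (Red.gaFn (𝟙 Y)) = D.u (v • c) by
        rw [RankOne.P, GaPts.gaFn_injective (GaPts.gaFn_ptOfFn (Red.gaFn (𝟙 Y))), Category.id_comp]]
      group
    obtain ⟨w, hw⟩ : D.u (v • c) ∈ H Y := by
      rw [h3]
      exact mul_mem (mul_mem (hNa Y) (hU (P_mem_gens D hcp _))) (inv_mem (hNa Y))
    exact ⟨w, hw⟩
  rw [hv1] at hN
  obtain ⟨τ, hτ⟩ := Nrm.one.exists_torus D b hN
  rw [eg, show toUnit X ≫ N = (toUnit X ≫ τ) ≫ D.i by rw [hτ, _root_.one_mul, Category.assoc]]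
  exact mul_mem (mul_mem (mul_mem (gens_le_borelPts D b hu1) (torus_mem_borelPts D b s'))
    (torus_mem_borelPts D b _)) (gens_le_borelPts D b hz1)

end Field

end Groth.Agent.RedCell16
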