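import Groth.Agent.Lib.RedCell16.Pair
import Groth.Agent.Lib.RedCell16.BaseExists

/-!
# Pinned groups: glue to the rank two computations
-/

set_option autoImplicit false
set_option linter.style.haveILetI false
set_option linter.unusedSimpArgs false
set_option backward.isDefEq.respectTransparency false
set_option backward.isDefEq.respectTransparency.types false

universe u

open CategoryTheory CategoryTheory.Limits MonoidalCategory CartesianMonoidalCategory MonObj AlgebraicGeometry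

noncomputable section

namespace Groth.Agent.RedCell16

open DiagGL RootDLib
open RankOne (P A)

variable {S : Scheme.{u}} {G : Over S} [GrpObj G] (D : Red.Pinning G)
  (avc : D.idx → (Red.Gm S ⟶ D.T))
  (havc : ∀ a, avc a = Red.DSmap S (D.P.coroot a).toAddMonoidHom ≫ D.split.inv.hom.hom)
  (hpair : ∀ a ∈ D.base.support, ∀ (X : Over S) (x y : X ⟶ Red.Ga S), IsUnit (1 + Red.gaFn x * Red.gaFn y) →
      ∃ (x' y' : X ⟶ Red.Ga S) (z : X ⟶ Red.Gm S), Red.gmFn z = 1 + Red.gaFn x * Red.gaFn y ∧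
        Red.gaFn x' * Red.gmFn z = Red.gaFn x ∧ Red.gaFn y' * Red.gmFn z = Red.gaFn y ∧
        (x ≫ D.u a) * (y ≫ D.u (D.P.reflectionPerm a a)) = (y' ≫ D.u (D.P.reflectionPerm a a)) * (z ≫ avc a ≫ D.i) * (x' ≫ D.u a))

include havc hpair in
theorem pinned_dualPair {a : D.idx} (ha : a ∈ D.base.support) : DualPair D.toSplitRed a :=
  datum_of_pair D.toSplitRed a (by
    intro X x y hu
    obtain ⟨x', y', z, h1, h2, h3, h4⟩ := hpair a ha X x y hu
    refine ⟨x', y', z, h1, h2, h3, ?_⟩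
    rw [h4, havc])

theorem pinned_Wy (e₁ : 𝟙_ (Over S) ⟶ Red.Ga S) (he₁ : Red.gaFn e₁ = 1) (w : D.idx → (𝟙_ (Over S) ⟶ G))
    (hw : ∀ a, w a = (e₁ ≫ D.u a) * (e₁ ≫ D.u (D.P.reflectionPerm a a))⁻¹ * (e₁ ≫ D.u a)) (a : D.idx) (X : Over S) :
    toUnit X ≫ w a = Wy D.toSplitRed a X := by
  haveI := (D.rootHom (D.P.reflectionPerm a a)).1
  rw [hw, RankOne.comp_eq_P (D.u a) e₁, RankOne.comp_eq_P (D.u (D.P.reflectionPerm a a)) e₁, he₁, ← RankOne.P_neg]
  simp only [MonObj.comp_mul, RankOne.comp_P, map_one, map_neg]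
  rfl

theorem pinned_cj (e₁ : 𝟙_ (Over S) ⟶ Red.Ga S) (he₁ : Red.gaFn e₁ = 1) (w : D.idx → (𝟙_ (Over S) ⟶ G))
    (hw : ∀ a, w a = (e₁ ≫ D.u a) * (e₁ ≫ D.u (D.P.reflectionPerm a a))⁻¹ * (e₁ ≫ D.u a)) (a c : D.idx)
    {X : Over S} (x : X ⟶ Red.Ga S) :
    (toUnit X ≫ w a) * (x ≫ D.u c) * (toUnit X ≫ w a)⁻¹ = cj (Wy D.toSplitRed a X) (P (D.u c) (Red.gaFn x)) := by
  rw [pinned_Wy D e₁ he₁ w hw, RankOne.comp_eq_P (D.u c) x]

theorem pinned_pairSys [D.P.IsReduced] (a b : D.idx) (ha : a ∈ D.base.support) (hb : b ∈ D.base.support)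
    {p : ℤ} (hp : p = 1 ∨ p = 2 ∨ p = 3) (hba : D.P.pairing b a = -p) (hab : D.P.pairing a b = -1) :
    PairSys D.P a b p :=
  ⟨hp, hab, hba, D.base.sub_notMem_range_root hb ha⟩

theorem cj_inv {X : Over S} (g w : X ⟶ G) : (cj g w)⁻¹ = cj g w⁻¹ := by simp only [cj]; group

/-- A commutator evaluated at negatives gives the exchange rule. -/
theorem exchange {X : Over S} {p q r p' q' : X ⟶ G} (hp : p' = p⁻¹) (hq : q' = q⁻¹)
    (h : p' * q' * p'⁻¹ * q'⁻¹ = r) : p * q = q * p * r := by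
  subst hp hq; rw [← h]; group

theorem exchange' {X : Over S} {p q r p' q' : X ⟶ G} (hp : p' = p⁻¹) (hq : q' = q⁻¹)
    (h : p' * q' * p'⁻¹ * q'⁻¹ = r) : q * p = p * q * r⁻¹ := by
  subst hp hq; rw [← h]; group

end Groth.Agent.RedCell16
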