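import Groth.Agent.Lib.RedCell16.DualUnique
import Groth.Agent.Lib.RedCell16.Pinned

/-!
# Conjugates of Weyl elements
-/

set_option autoImplicit false
set_option linter.style.haveILetI false
set_option linter.unusedSimpArgs false
set_option linter.unusedSectionVars false
set_option backward.isDefEq.respectTransparency false
set_option backward.isDefEq.respectTransparency.types false

universe u

open CategoryTheory CategoryTheory.Limits MonoidalCategory CartesianMonoidalCategory MonObj AlgebraicGeometry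

noncomputable section

namespace Groth.Agent.RedCell16

open DiagGL RootDLib
open RankOne (P A)

variable {S : Scheme.{u}} {G : Over S} [GrpObj G] (D : Red.SplitRed G)

/-- The coroot torus element. -/
abbrev Ac (c : D.idx) {X : Over S} (v : (Γ(X.left, ⊤))ˣ) : X ⟶ G := A D.i (coChar D c) v

theorem Ac_mul (c : D.idx) {X : Over S} (v v' : (Γ(X.left, ⊤))ˣ) : Ac D c (v * v') = Ac D c v * Ac D c v' := by
  haveI := D.maximalTorus.1
  exact RankOne.A_mul v v'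

theorem Ac_one (c : D.idx) {X : Over S} : Ac D c (1 : (Γ(X.left, ⊤))ˣ) = 1 := by
  haveI := D.maximalTorus.1
  exact RankOne.A_one

theorem Ac_inv (c : D.idx) {X : Over S} (v : (Γ(X.left, ⊤))ˣ) : Ac D c v⁻¹ = (Ac D c v)⁻¹ := by
  haveI := D.maximalTorus.1
  exact RankOne.A_inv v

theorem Ac_comm (c d : D.idx) {X : Over S} (v v' : (Γ(X.left, ⊤))ˣ) :
    Ac D c v * Ac D d v' = Ac D d v' * Ac D c v := by
  haveI := D.maximalTorus.1
  show GmPts.ptOfUnit v ≫ coChar D c ≫ D.i * GmPts.ptOfUnit v' ≫ coChar D d ≫ D.i = _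
  rw [← Category.assoc, ← Category.assoc (GmPts.ptOfUnit v'), ← MonObj.mul_comp, torus_comm, MonObj.mul_comp,
    Category.assoc, Category.assoc]
  simp only [A, Category.assoc]

theorem cj_Ac_self {a : D.idx} (E : DualPair D a) {X : Over S} (v : (Γ(X.left, ⊤))ˣ) :
    cj (Wy D a X) (Ac D a v) = Ac D a v⁻¹ := by
  rw [Ac_inv]; exact RankOne16.W_conj_A E v

theorem cj_Ac {a : D.idx} (E : DualPair D a) (c : D.idx) {X : Over S} (v : (Γ(X.left, ⊤))ˣ) :
    cj (Wy D a X) (Ac D c v) = Ac D a (v ^ (-D.P.pairing a c)) * Ac D c v := by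
  haveI := D.maximalTorus.1
  show cj (Wy D a X) (A D.i (coChar D c) v) = _
  rw [A, ← Category.assoc, cj, RankOne16.W_conj_T E]
  congr 1
  · rw [← RankOne.A_inv]
    congr 1
    rw [zpow_neg, inv_inj]
    apply Units.ext
    exact refl_root D c a v

variable [D.P.IsReduced]

/-- **A point carrying a root group to another one carries the Weyl element to the Weyl element.** -/
theorem cj_Wy_of {c d : D.idx} (Ec : DualPair D c) (Ed : DualPair D d) (g : 𝟙_ (Over S) ⟶ G) (ε : ℤ)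
    (hε : ε = 1 ∨ ε = -1)
    (hP : ∀ (X : Over S) (x : Γ(X.left, ⊤)),
      cj (toUnit X ≫ g) (P (D.u c) x) = P (D.u d) ((ε : Γ(X.left, ⊤)) * x))
    (hA : ∀ (X : Over S) (v : (Γ(X.left, ⊤))ˣ), cj (toUnit X ≫ g) (Ac D c v) = Ac D d v) (X : Over S) :
    cj (toUnit X ≫ g) (Wy D c X) = if ε = 1 then Wy D d X else (Wy D d X)⁻¹ := by
  haveI := (D.rootHom c).1
  haveI := (D.rootHom d).1
  haveI := (D.rootHom (ng D.P c)).1
  haveI := (D.rootHom (ng D.P d)).1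
  have hsq : ∀ Y : Over S, (ε : Γ(Y.left, ⊤)) * ε = 1 := fun Y => by rcases hε with rfl | rfl <;> simp
  let Q : ∀ Y : Over S, Γ(Y.left, ⊤) → (Y ⟶ G) := fun Y y =>
    cj (toUnit Y ≫ g) (P (D.u (ng D.P c)) ((ε : Γ(Y.left, ⊤)) * y))
  let vd : Red.Ga S ⟶ G := Q (Red.Ga S) (Red.gaFn (𝟙 (Red.Ga S)))
  have hQ : ∀ (Y : Over S) (z : Y ⟶ Red.Ga S), z ≫ vd = Q Y (Red.gaFn z) := fun Y z => by
    simp only [vd, Q, cj, MonObj.comp_mul, GrpObj.comp_inv, RankOne.comp_P, map_mul, map_intCast]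
    rw [← Category.assoc, show z ≫ toUnit _ = toUnit Y from Subsingleton.elim _ _,
      show z.left.appTop (Red.gaFn (𝟙 (Red.Ga S))) = Red.gaFn z by rw [← GaPts.gaFn_comp, Category.comp_id]]
  haveI : IsMonHom vd := TorsorSch25.isMonHom_of_points vd fun Y z z' => by
    rw [hQ, hQ, hQ, GaPts.gaFn_mul]
    simp only [Q, mul_add, RankOne.P_add, cj_mul]
  have hdual : vd = D.u (ng D.P d) := by
    refine dual_unique D.reductive.1 D.i (coChar D d) (D.u d) vd (D.u (ng D.P d)) (fun Y x y hu => ?_) Ed.hF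
    obtain ⟨x', y', z, hz, hx, hy, h⟩ := Ec.hF Y (GaPts.ptOfFn ((ε : Γ(Y.left, ⊤)) * Red.gaFn x))
      (GaPts.ptOfFn ((ε : Γ(Y.left, ⊤)) * Red.gaFn y))
      (by rw [GaPts.gaFn_ptOfFn, GaPts.gaFn_ptOfFn, _root_.mul_mul_mul_comm, hsq, _root_.one_mul]; exact hu)
    rw [GaPts.gaFn_ptOfFn, GaPts.gaFn_ptOfFn, _root_.mul_mul_mul_comm, hsq, _root_.one_mul] at hz
    rw [GaPts.gaFn_ptOfFn] at hx hy
    refine ⟨GaPts.ptOfFn ((ε : Γ(Y.left, ⊤)) * Red.gaFn x'), GaPts.ptOfFn ((ε : Γ(Y.left, ⊤)) * Red.gaFn y'), z, hz,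
      ?_, ?_, ?_⟩
    · rw [GaPts.gaFn_ptOfFn, _root_.mul_assoc, hx, ← _root_.mul_assoc, hsq, _root_.one_mul]
    · rw [GaPts.gaFn_ptOfFn, _root_.mul_assoc, hy, ← _root_.mul_assoc, hsq, _root_.one_mul]
    · rw [RankOne.comp_eq_P (D.u c), RankOne.comp_eq_P (D.u (ng D.P c)), RankOne.comp_eq_P (D.u (ng D.P c)) y',
        RankOne.comp_eq_A, RankOne.comp_eq_P (D.u c) x', GaPts.gaFn_ptOfFn, GaPts.gaFn_ptOfFn] at h
      have h' := congrArg (cj (toUnit Y ≫ g)) h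
      rw [cj_mul, cj_mul, cj_mul, hP, hP, hA, ← _root_.mul_assoc (ε : Γ(Y.left, ⊤)), hsq, _root_.one_mul] at h'
      rw [RankOne.comp_eq_P (D.u d) x, RankOne.comp_eq_P (D.u d), RankOne.comp_eq_A, hQ, hQ, GaPts.gaFn_ptOfFn,
        GaPts.gaFn_ptOfFn]
      simp only [Q, ← _root_.mul_assoc (ε : Γ(Y.left, ⊤)), hsq, _root_.one_mul]
      exact h'
  have hQd : ∀ y : Γ(X.left, ⊤), cj (toUnit X ≫ g) (P (D.u (ng D.P c)) ((ε : Γ(X.left, ⊤)) * y)) = P (D.u (ng D.P d)) y :=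
    fun y => by
      have h := hQ X (GaPts.ptOfFn y)
      rw [hdual, GaPts.gaFn_ptOfFn] at h
      exact h.symm
  have e : cj (toUnit X ≫ g) (Wy D c X) =
      P (D.u d) (ε : Γ(X.left, ⊤)) * P (D.u (ng D.P d)) (-(ε : Γ(X.left, ⊤))) * P (D.u d) (ε : Γ(X.left, ⊤)) := by
    have h2 := hQd (-(ε : Γ(X.left, ⊤)))
    rw [_root_.mul_neg, hsq] at h2
    show cj (toUnit X ≫ g) (P (D.u c) (1 : Γ(X.left, ⊤)) * P (D.u (ng D.P c)) (-1) * P (D.u c) 1) = _
    rw [cj_mul, cj_mul, hP, h2, _root_.mul_one]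
  rw [e]
  rcases hε with rfl | rfl
  · rw [if_pos rfl, Int.cast_one]; rfl
  · rw [if_neg (by decide), Int.cast_neg, Int.cast_one, neg_neg]
    show _ = (P (D.u d) (1 : Γ(X.left, ⊤)) * P (D.u (ng D.P d)) (-1) * P (D.u d) 1)⁻¹
    simp only [RankOne.P_neg]
    group

omit [D.P.IsReduced] in
theorem Ac_pow (c : D.idx) {X : Over S} (v : (Γ(X.left, ⊤))ˣ) (k : ℕ) : Ac D c (v ^ k) = Ac D c v ^ k := by
  induction k with
  | zero => rw [pow_zero, pow_zero, Ac_one]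
  | succ k ih => rw [pow_succ, pow_succ, Ac_mul, ih]

omit [D.P.IsReduced] in
/-- A pair of torus elements under the first Weyl element. -/
theorem cj_pair {a b : D.idx} (Ea : DualPair D a) {X : Over S} (v : (Γ(X.left, ⊤))ˣ) (i j : ℤ) (k : ℤ)
    (hk : D.P.pairing a b = -k) :
    cj (Wy D a X) (Ac D a (v ^ i) * Ac D b (v ^ j)) = Ac D a (v ^ (k * j - i)) * Ac D b (v ^ j) := by
  rw [cj_mul, cj_Ac_self D Ea, cj_Ac D Ea, hk, neg_neg, ← _root_.mul_assoc, ← Ac_mul]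
  congr 2
  rw [← zpow_neg, ← zpow_mul, ← zpow_add]
  congr 1
  ring

end Groth.Agent.RedCell16
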