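import Groth.Agent.Lib.RootComb21.Exchange
import Groth.Agent.Lib.RootD.Transfer

/-!
# The chain order on a Weyl group
-/

set_option autoImplicit false
set_option linter.unusedSectionVars false
set_option linter.unusedSimpArgs false

open Set

noncomputable section

namespace Groth.Agent.RedCell16.Order

open RootDLib RootPairing

variable {ι M N : Type} [AddCommGroup M] [AddCommGroup N] {P : RootPairing ι ℤ M N}
variable [Finite ι] [P.IsReduced] (b : P.Base)

/-- The number of positive roots made negative. -/
def len (u : Equiv.Perm ι) : ℕ := Set.ncard {a : ι | a ∈ RedSub.posRoots P b ∧ u a ∈ RedSub.negRoots P b}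

/-- A covering step. -/
def Step (u v : Equiv.Perm ι) : Prop :=
  ∃ c : ι, c ∈ RedSub.posRoots P b ∧ v = P.reflectionPerm c * u ∧ len b v = len b u + 1

theorem wordPerm_congr {l l' : List ι} (h : wprod P l = wprod P l') : RedSub.wordPerm P l = RedSub.wordPerm P l' := by
  ext a; rw [RootComb21.wordPerm_apply, RootComb21.wordPerm_apply, h]

theorem wprod_cons_cons (a : ι) (l : List ι) : wprod P (a :: a :: l) = wprod P l := by
  rw [wprod_cons, wprod_cons, ← _root_.mul_assoc, refl_mul_self, _root_.one_mul]

theorem pos_or_neg (c : ι) : c ∈ RedSub.posRoots P b ∨ ng P c ∈ RedSub.posRoots P b := by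
  by_cases h : c ∈ RedSub.posRoots P b
  · exact Or.inl h
  · exact Or.inr ((RootComb21.mem_negRoots_iff_ng b c).1 ((RootComb21.mem_negRoots_iff b c).2 h))

theorem ng_pos_iff (c : ι) : ng P c ∈ RedSub.posRoots P b ↔ c ∉ RedSub.posRoots P b := by
  rw [← RootComb21.mem_negRoots_iff_ng, RootComb21.mem_negRoots_iff]

/-- Multiplying by a simple reflection on the side of the image increases the length by one. -/
theorem len_simple {a : ι} (ha : a ∈ b.support) (l : List ι) (h : (wprod P l)⁻¹ • a ∈ RedSub.posRoots P b) :
    len b (RedSub.wordPerm P (a :: l)) = len b (RedSub.wordPerm P l) + 1 := by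
  classical
  have hΔ := RootComb21.isSimpleSys_support b
  set g := wprod P l with hg
  have hkeep : ∀ d, d ∈ RedSub.posRoots P b → d ≠ a → P.reflectionPerm a d ∈ RedSub.posRoots P b := fun d hd hne => by
    rw [RootComb21.posRoots_eq] at hd ⊢
    exact reflect_mem_posOf ha hd hne (RootComb21.root_ne_two_smul _ _) hΔ
  have haP : a ∈ RedSub.posRoots P b := by rw [RootComb21.posRoots_eq]; exact mem_posOf_of_mem ha
  have hset : {x : ι | x ∈ RedSub.posRoots P b ∧ RedSub.wordPerm P (a :: l) x ∈ RedSub.negRoots P b} =
      insert (g⁻¹ • a) {x : ι | x ∈ RedSub.posRoots P b ∧ RedSub.wordPerm P l x ∈ RedSub.negRoots P b} := by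
    ext x
    simp only [Set.mem_setOf_eq, Set.mem_insert_iff, RootComb21.wordPerm_apply, RootComb21.mem_negRoots_iff,
      wprod_cons, mul_smul, refl_smul, ← hg]
    constructor
    · rintro ⟨hx, hn⟩
      by_cases hgx : g • x ∈ RedSub.posRoots P b
      · left
        by_contra hne
        exact hn (hkeep _ hgx fun e => hne (by rw [← e, inv_smul_smul]))
      · exact Or.inr ⟨hx, hgx⟩
    · rintro (rfl | ⟨hx, hgx⟩)
      · refine ⟨h, ?_⟩
        rw [smul_inv_smul, ← ng_pos_iff, show P.reflectionPerm a a = ng P a from rfl, ng_ng]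
        exact haP
      · refine ⟨hx, fun hp => hgx ?_⟩
        by_cases he : P.reflectionPerm a (g • x) = a
        · exfalso
          have h1 : g • x = ng P a := by
            have := congrArg (P.reflectionPerm a) he
            rwa [reflectionPerm_self] at this
          have h2 : x = ng P (g⁻¹ • a) := by rw [← smul_ng, ← h1, inv_smul_smul]
          rw [h2] at hx
          exact (ng_pos_iff b _).1 hx h
        · have := hkeep _ hp he
          rwa [reflectionPerm_self] at this
  rw [len, hset, Set.ncard_insert_of_notMem (fun hm => ?_) (Set.toFinite _), len]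
  have h2 := hm.2
  rw [RootComb21.wordPerm_apply, ← hg, smul_inv_smul, RootComb21.mem_negRoots_iff] at h2
  exact h2 haP

theorem len_simple' {a : ι} (ha : a ∈ b.support) (l : List ι) (h : (wprod P l)⁻¹ • a ∉ RedSub.posRoots P b) :
    len b (RedSub.wordPerm P (a :: l)) + 1 = len b (RedSub.wordPerm P l) := by
  have h' : (wprod P (a :: l))⁻¹ • a ∈ RedSub.posRoots P b := by
    rw [wprod_cons, _root_.mul_inv_rev, mul_smul, Equiv.reflection_inv, refl_smul,
      show P.reflectionPerm a a = ng P a from rfl, smul_ng, ng_pos_iff]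
    exact h
  rw [← len_simple b ha (a :: l) h', wordPerm_congr (wprod_cons_cons a l)]

theorem pos_of_len_lt {c : ι} (hc : c ∈ RedSub.posRoots P b) (l : List ι)
    (h : len b (RedSub.wordPerm P l) < len b (RedSub.wordPerm P (c :: l))) :
    (wprod P l)⁻¹ • c ∈ RedSub.posRoots P b := by
  by_contra hn
  have h' : (RedSub.wordPerm P (c :: l))⁻¹ c ∈ RedSub.posRoots P b := by
    rw [RootComb21.wordPerm_inv_apply, wprod_cons, _root_.mul_inv_rev, mul_smul, Equiv.reflection_inv, refl_smul,
      show P.reflectionPerm c c = ng P c from rfl, smul_ng, ng_pos_iff]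
    exact hn
  have h2 : len b (RedSub.wordPerm P (c :: l)) < len b (P.reflectionPerm c * RedSub.wordPerm P (c :: l)) :=
    RootComb21.inversions_lt b (c :: l) hc h'
  rw [RootComb21.wordPerm_cons', wordPerm_congr (wprod_cons_cons c l)] at h2
  omega

/-- The step lemma for a simple reflection. -/
theorem step_simple {a : ι} (ha : a ∈ b.support) (l : List ι) {v : Equiv.Perm ι}
    (h : Step b (RedSub.wordPerm P l) v) :
    Relation.ReflTransGen (Step b) (P.reflectionPerm a * RedSub.wordPerm P l) (P.reflectionPerm a * v) ∨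
      Relation.ReflTransGen (Step b) (P.reflectionPerm a * RedSub.wordPerm P l) v := by
  obtain ⟨c, hc, rfl, hlen⟩ := h
  have haP : a ∈ RedSub.posRoots P b := by rw [RootComb21.posRoots_eq]; exact mem_posOf_of_mem ha
  by_cases hs : (wprod P l)⁻¹ • a ∈ RedSub.posRoots P b
  swap
  · refine Or.inr (Relation.ReflTransGen.head ⟨a, haP, ?_, ?_⟩ (Relation.ReflTransGen.single ⟨c, hc, rfl, hlen⟩))
    · rw [RootComb21.wordPerm_cons', RootComb21.wordPerm_cons', wordPerm_congr (wprod_cons_cons a l)]
    · rw [RootComb21.wordPerm_cons']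
      exact (len_simple' b ha l hs).symm
  by_cases hca : c = a
  · subst hca; exact Or.inr .refl
  rw [RootComb21.wordPerm_cons', RootComb21.wordPerm_cons', RootComb21.wordPerm_cons'] at *
  have hcl : (wprod P l)⁻¹ • c ∈ RedSub.posRoots P b := pos_of_len_lt b hc l (by omega)
  let c' := P.reflectionPerm a c
  have hc' : c' ∈ RedSub.posRoots P b := by
    rw [RootComb21.posRoots_eq] at hc ⊢
    exact reflect_mem_posOf ha hc hca (RootComb21.root_ne_two_smul _ _) (RootComb21.isSimpleSys_support b)
  have hw : wprod P (a :: c :: l) = wprod P (c' :: a :: l) := by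
    simp only [wprod_cons]
    rw [show Equiv.reflection P c' = Equiv.reflection P a * Equiv.reflection P c * (Equiv.reflection P a)⁻¹ by
      rw [conj_reflection, refl_smul], _root_.mul_assoc, inv_mul_cancel_left, _root_.mul_assoc]
  have h1 := len_simple b ha l hs
  have h2 : len b (RedSub.wordPerm P (a :: l)) < len b (RedSub.wordPerm P (c' :: a :: l)) := by
    rw [← RootComb21.wordPerm_cons' c']
    refine RootComb21.inversions_lt b (a :: l) hc' ?_
    rw [RootComb21.wordPerm_inv_apply, wprod_cons, _root_.mul_inv_rev, mul_smul, Equiv.reflection_inv, refl_smul]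
    show (wprod P l)⁻¹ • P.reflectionPerm a (P.reflectionPerm a c) ∈ _
    rw [reflectionPerm_self]
    exact hcl
  rw [← wordPerm_congr hw] at h2
  refine Or.inl (Relation.ReflTransGen.single ⟨c', hc', ?_, ?_⟩)
  · rw [RootComb21.wordPerm_cons', wordPerm_congr hw]
  · by_cases hv : (wprod P (c :: l))⁻¹ • a ∈ RedSub.posRoots P b
    · rw [len_simple b ha (c :: l) hv, hlen, h1]
    · have := len_simple' b ha (c :: l) hv
      omega

theorem word_of_chain {l : List ι} {v : Equiv.Perm ι}
    (h : Relation.ReflTransGen (Step b) (RedSub.wordPerm P l) v) : ∃ l', v = RedSub.wordPerm P l' := by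
  induction h with
  | refl => exact ⟨l, rfl⟩
  | tail _ hs ih =>
    obtain ⟨l', rfl⟩ := ih
    obtain ⟨c, -, rfl, -⟩ := hs
    exact ⟨c :: l', RootComb21.wordPerm_cons' c l'⟩

/-- The lifting property. -/
theorem lifting {a : ι} (ha : a ∈ b.support) (l : List ι) {v : Equiv.Perm ι}
    (h : Relation.ReflTransGen (Step b) (RedSub.wordPerm P l) v) :
    Relation.ReflTransGen (Step b) (P.reflectionPerm a * RedSub.wordPerm P l) (P.reflectionPerm a * v) ∨
      Relation.ReflTransGen (Step b) (P.reflectionPerm a * RedSub.wordPerm P l) v := by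
  induction h with
  | refl => exact Or.inl .refl
  | tail hch hs ih =>
    rcases ih with ih | ih
    · obtain ⟨l', rfl⟩ := word_of_chain b hch
      rcases step_simple b ha l' hs with h | h
      · exact Or.inl (ih.trans h)
      · exact Or.inr (ih.trans h)
    · exact Or.inr (ih.tail hs)

/-- A non-trivial element has a descent. -/
theorem exists_descent (l : List ι) (h : wprod P l ≠ 1) :
    ∃ a ∈ b.support, (wprod P l)⁻¹ • a ∉ RedSub.posRoots P b := by
  by_contra hn
  push Not at hn
  refine h (inv_eq_one.1 (eq_one_of_mapsTo (RootComb21.isSimpleSys_support b) ?_ fun a ha => ?_))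
  · refine Subgroup.inv_mem _ ?_
    rw [weylGroup_eq_closure]
    exact wprod_mem fun _ _ => Set.mem_univ _
  · rw [← RootComb21.posRoots_eq]; exact hn a ha

end Groth.Agent.RedCell16.Order
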