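import Groth.Agent.Lib.RedCell16.Descent
import Groth.Agent.Lib.RedCell16.BruhatOrder
import Groth.Agent.Lib.RedCell16.BorelField

/-!
# Meeting of double cosets and opposite cells
-/

set_option autoImplicit false
set_option linter.style.haveILetI false
set_option linter.unusedSimpArgs false
set_option linter.unusedSectionVars false
set_option backward.isDefEq.respectTransparency false
set_option backward.isDefEq.respectTransparency.types false

universe u

open CategoryTheory CategoryTheory.Limits MonoidalCategory CartesianMonoidalCategory MonObj AlgebraicGeometry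

noncomputable section

namespace Groth.Agent.RedCell16

open DiagGL RootDLib
open RankOne (P A)

variable {S : Scheme.{u}} {G : Over S} [GrpObj G] (D : Red.SplitRed G) (b : D.P.Base)
  (nr : D.idx → (𝟙_ (Over S) ⟶ G)) [D.P.IsReduced] (hnr : RedSub.RealisesReflections D nr)

include hnr

theorem simple_two {a : D.idx} (ha : a ∈ b.support) {K : Type u} [Field K] [IsAlgClosed K]
    (x : Spec (CommRingCat.of K) ⟶ S) {l : List D.idx} {g : RankOne16.kPt x ⟶ G}
    (hg : InC D b nr (RankOne16.kPt x) l g) :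
    InC D b nr (RankOne16.kPt x) l ((toUnit (RankOne16.kPt x) ≫ nr a) * g) ∨
      InC D b nr (RankOne16.kPt x) (a :: l) ((toUnit (RankOne16.kPt x) ≫ nr a) * g) := by
  haveI := D.maximalTorus.1
  haveI := D.fintypeIdx
  haveI := (D.rootHom a).1
  have hΔ := RootComb21.isSimpleSys_support b
  set X := RankOne16.kPt x with hX
  obtain ⟨u, hu, t, z, hz, rfl⟩ := hg
  obtain ⟨bn, hbn, -⟩ := exists_negBase D b
  set na := ng D.P a with hna
  have hapos : a ∈ RedSub.posRoots D.P b := mem_posOf_of_mem ha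
  obtain ⟨u', hu', w, hw, rfl⟩ := exists_split D bn (RedSub.negRoots D.P b \ {na}) {na}
    (by rw [hbn, Set.sdiff_union_self, Set.union_eq_left.2 (Set.singleton_subset_iff.2 (ng_mem_neg D b hapos))])
    (by rw [hbn]; exact hu)
  -- the first part stays negative
  obtain ⟨hn', -⟩ : (toUnit X ≫ nr a) * u' * (toUnit X ≫ nr a)⁻¹ ∈ Um D b X ∧ True := by
    refine ⟨conj_gens D _ _ (fun d hd y => ?_) hu', trivial⟩
    obtain ⟨ν, hν⟩ := (nrm_of_realises D hnr a).cj_P D b d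
    rw [← cj, hν, refl_smul]
    refine P_mem_gens D ?_ _
    have h1 := (RootComb21.mem_negRoots_iff_ng b d).1 hd.1
    have h2 := reflect_mem_posOf ha h1 (fun e => hd.2 (by
      show d = na
      rw [hna, ← e, ng_ng])) (RootComb21.root_ne_two_smul _ _) hΔ
    rw [RootComb21.mem_negRoots_iff_ng, RootComb21.posRoots_eq]
    convert h2 using 1
    rw [← refl_smul, ← smul_ng, refl_smul]
  suffices h : InC D b nr X l ((toUnit X ≫ nr a) * (w * ((toUnit X ≫ Nw D nr l) * ((t ≫ D.i) * z)))) ∨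
      InC D b nr X (a :: l) ((toUnit X ≫ nr a) * (w * ((toUnit X ≫ Nw D nr l) * ((t ≫ D.i) * z)))) by
    suffices h' : ∀ l', InC D b nr X l' ((toUnit X ≫ nr a) * (w * ((toUnit X ≫ Nw D nr l) * ((t ≫ D.i) * z)))) →
        InC D b nr X l' ((toUnit X ≫ nr a) * (u' * w * (toUnit X ≫ Nw D nr l) * ((t ≫ D.i) * z))) from
      h.imp (h' l) (h' (a :: l))
    intro l' h
    obtain ⟨u'', hu'', t'', z'', hz'', e⟩ := h
    refine ⟨_, Subgroup.mul_mem _ hn' hu'', t'', z'', hz'', ?_⟩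
    rw [show (toUnit X ≫ nr a) * u' * (toUnit X ≫ nr a)⁻¹ * u'' * (toUnit X ≫ Nw D nr l') * ((t'' ≫ D.i) * z'') =
      (toUnit X ≫ nr a) * u' * (toUnit X ≫ nr a)⁻¹ * (u'' * (toUnit X ≫ Nw D nr l') * ((t'' ≫ D.i) * z'')) by group,
      ← e]
    group
  obtain ⟨y, rfl⟩ : ∃ y, w = P (D.u na) y := by
    haveI := (D.rootHom na).1
    refine Subgroup.closure_induction ?_ ⟨0, RankOne.P_zero.symm⟩ ?_ ?_ hw
    · rintro _ ⟨d, y, hd, rfl⟩; rw [Set.mem_singleton_iff.1 hd]; exact ⟨y, rfl⟩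
    · rintro _ _ - - ⟨y1, rfl⟩ ⟨y2, rfl⟩; exact ⟨y1 + y2, (RankOne.P_add _ _).symm⟩
    · rintro _ - ⟨y1, rfl⟩; exact ⟨-y1, (RankOne.P_neg _).symm⟩
  rcases posOf_cases D b ((wprod D.P l)⁻¹ • na) with hpos | hpos
  · obtain ⟨u1, hu1, t1, z1, hz1, e⟩ := inC_of_pos D b nr hnr hpos y t hz (Subgroup.one_mem _)
    refine Or.inr ⟨1, Subgroup.one_mem _, ?_⟩
    obtain ⟨ν, hν⟩ := (nrm_word D nr hnr l).inv.cj_P D b na
    have h1 := hν X y
    rw [GrpObj.comp_inv, cj, _root_.inv_inv] at h1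
    refine ⟨t, _, Subgroup.mul_mem _ (torus_conj_gens D t⁻¹ (P_mem_gens D hpos (ν X * y))) hz, ?_⟩
    rw [GrpObj.inv_comp, _root_.inv_inv, ← h1]
    simp only [Nw, List.map_cons, List.prod_cons, MonObj.comp_mul]
    group
  have hpos' : (wprod D.P l)⁻¹ • a ∈ RedSub.posRoots D.P b := by rwa [← smul_ng, hna, ng_ng] at hpos
  obtain ⟨vd, cu, hcun, hvd, E⟩ := exists_dual D a
  obtain ⟨τ, hτ⟩ := (nrm_W D a E).exists_torus D b (nrm_of_realises D hnr a)
  set τX := toUnit X ≫ τ with hτX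
  have hn : toUnit X ≫ nr a = RankOne16.W (D.u a) vd * (τX ≫ D.i) := by
    rw [hτ, MonObj.comp_mul, RankOne16.comp_W, hτX, Category.assoc]
  have h3 : (τX ≫ D.i) * P (D.u na) y = P (D.u na) (rt D τX na * y) * (τX ≫ D.i) := by
    rw [← conj_P, inv_mul_cancel_right]
  set y' := rt D τX na * y with hy'
  by_cases h0 : y' = 0
  · refine Or.inr ⟨1, Subgroup.one_mem _, t, z, hz, ?_⟩
    simp only [Nw, List.map_cons, List.prod_cons, MonObj.comp_mul]
    rw [hn, ← _root_.mul_assoc _ (P (D.u na) y),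
      _root_.mul_assoc _ (τX ≫ D.i) (P (D.u na) y), h3, h0]
    haveI := (D.rootHom na).1
    rw [RankOne.P_zero]
    simp only [_root_.mul_assoc, _root_.one_mul]
  obtain ⟨k, hk⟩ := (RankOne16.isUnit_of_ne h0)
  set m := (((cu X)⁻¹ : (Γ(X.left, ⊤))ˣ) : Γ(X.left, ⊤)) * y' with hm
  have hM : P (D.u na) y' = P vd m := by
    rw [hvd, hm, Units.mul_inv_cancel_left]
  let q : (Γ(X.left, ⊤))ˣ := (cu X)⁻¹ * k
  have hq : (q : Γ(X.left, ⊤)) = m := by rw [Units.val_mul, hk]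
  have h4 : RankOne16.W (D.u a) vd * P vd m =
      P vd (-1 * ((q⁻¹ : (Γ(X.left, ⊤))ˣ) : Γ(X.left, ⊤))) * A D.i (coChar D a) q *
        P (D.u a) ((-m + 1) * ((q⁻¹ : (Γ(X.left, ⊤))ˣ) : Γ(X.left, ⊤)) + 1) := by
    have h5 : RankOne16.W (D.u a) vd * P vd m = P (D.u a) (-m) * RankOne16.W (D.u a) vd := by
      rw [← RankOne16.W_conj_M E m, inv_mul_cancel_right]
    rw [h5, RankOne16.W, RankOne.w, RankOne.P_add ((-m + 1) * _), ← _root_.mul_assoc,
      ← _root_.mul_assoc, ← RankOne.P_add, RankOne.P_mul_M E (-m + 1) (-1) q (by rw [hq]; ring)]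
    simp only [_root_.mul_assoc]
  set d := (-m + 1) * ((q⁻¹ : (Γ(X.left, ⊤))ˣ) : Γ(X.left, ⊤)) + 1 with hd
  -- push the positive element through
  obtain ⟨d', hd'⟩ : ∃ d', P (D.u a) d * (τX ≫ D.i) = (τX ≫ D.i) * P (D.u a) d' := by
    refine ⟨rt D τX⁻¹ a * d, ?_⟩
    rw [← conj_P, GrpObj.inv_comp, _root_.inv_inv]
    group
  have hC : InC D b nr X l (1 * (P (D.u a) d' * ((toUnit X ≫ Nw D nr l) * ((t ≫ D.i) * z)))) :=
    inC_of_pos D b nr hnr hpos' d' t hz (Subgroup.one_mem _)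
  rw [_root_.one_mul] at hC
  refine Or.inl ?_
  have hu0 : P vd (-1 * ((q⁻¹ : (Γ(X.left, ⊤))ˣ) : Γ(X.left, ⊤))) ∈ Um D b X := by
    rw [hvd]; exact P_mem_gens D (ng_mem_neg D b hapos) _
  obtain ⟨u₂, hu₂, t₂, z₂, hz₂, e₂⟩ := inC_torus D hnr (GmPts.ptOfUnit q ≫ coChar D a) (inC_torus D hnr τX hC)
  refine ⟨_, Subgroup.mul_mem _ hu0 hu₂, t₂, z₂, hz₂, ?_⟩
  rw [show P vd (-1 * ((q⁻¹ : (Γ(X.left, ⊤))ˣ) : Γ(X.left, ⊤))) * u₂ * (toUnit X ≫ Nw D nr l) * ((t₂ ≫ D.i) * z₂) =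
    P vd (-1 * ((q⁻¹ : (Γ(X.left, ⊤))ˣ) : Γ(X.left, ⊤))) * (u₂ * (toUnit X ≫ Nw D nr l) * ((t₂ ≫ D.i) * z₂)) by group,
    ← e₂]
  calc _ = RankOne16.W (D.u a) vd * ((τX ≫ D.i) * P (D.u na) y) * ((toUnit X ≫ Nw D nr l) * ((t ≫ D.i) * z)) := by
        rw [hn]; group
    _ = (RankOne16.W (D.u a) vd * P vd m) * (τX ≫ D.i) * ((toUnit X ≫ Nw D nr l) * ((t ≫ D.i) * z)) := by
        rw [h3, hM]; group
    _ = P vd (-1 * ((q⁻¹ : (Γ(X.left, ⊤))ˣ) : Γ(X.left, ⊤))) * A D.i (coChar D a) q *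
        (P (D.u a) d * (τX ≫ D.i)) * ((toUnit X ≫ Nw D nr l) * ((t ≫ D.i) * z)) := by
        rw [h4]; group
    _ = _ := by rw [hd']; simp only [RankOne.A, Category.assoc, _root_.mul_assoc]


variable {K : Type u} [Field K] [IsAlgClosed K] (x : Spec (CommRingCat.of K) ⟶ S)

/-- A simple realiser or root element moves a cell into one of two cells. -/
theorem simple_two' {a : D.idx} (ha : a ∈ b.support) {l : List D.idx} {g : RankOne16.kPt x ⟶ G}
    (hg : InC D b nr (RankOne16.kPt x) l g ∨ InC D b nr (RankOne16.kPt x) (a :: l) g) :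
    InC D b nr (RankOne16.kPt x) l ((toUnit (RankOne16.kPt x) ≫ nr a) * g) ∨
      InC D b nr (RankOne16.kPt x) (a :: l) ((toUnit (RankOne16.kPt x) ≫ nr a) * g) := by
  rcases hg with hg | hg
  · exact simple_two D b nr hnr ha x hg
  · exact (simple_two D b nr hnr ha x hg).elim Or.inr
      fun h => Or.inl (inC_congr D hnr (Order.wprod_cons_cons a l) h)

theorem simple_two_inv {a : D.idx} (ha : a ∈ b.support) {l : List D.idx} {g : RankOne16.kPt x ⟶ G}
    (hg : InC D b nr (RankOne16.kPt x) l g ∨ InC D b nr (RankOne16.kPt x) (a :: l) g) :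
    InC D b nr (RankOne16.kPt x) l ((toUnit (RankOne16.kPt x) ≫ nr a)⁻¹ * g) ∨
      InC D b nr (RankOne16.kPt x) (a :: l) ((toUnit (RankOne16.kPt x) ≫ nr a)⁻¹ * g) := by
  have hc := nrm_of_realises D hnr a
  obtain ⟨τ, hτ⟩ := hc.exists_torus D b (h := (nr a)⁻¹) (by rw [← RootPairing.Equiv.reflection_inv]; exact hc.inv)
  rw [← GrpObj.comp_inv, hτ, MonObj.comp_mul, ← Category.assoc, _root_.mul_assoc]
  exact simple_two' D b nr hnr x ha (hg.imp (inC_torus D hnr _) (inC_torus D hnr _))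

theorem root_two {a : D.idx} (ha : a ∈ b.support) (ξ : Γ((RankOne16.kPt x).left, ⊤)) {l : List D.idx}
    {g : RankOne16.kPt x ⟶ G} (hg : InC D b nr (RankOne16.kPt x) l g) :
    InC D b nr (RankOne16.kPt x) l (P (D.u a) ξ * g) ∨ InC D b nr (RankOne16.kPt x) (a :: l) (P (D.u a) ξ * g) := by
  let X := RankOne16.kPt x
  have hc := nrm_of_realises D hnr a
  obtain ⟨ν, hν⟩ := hc.inv.cj_P D b a
  rw [RootPairing.Equiv.reflection_inv, refl_smul] at hν
  have h1 := hν X ξ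
  rw [GrpObj.comp_inv, cj, _root_.inv_inv] at h1
  have e : P (D.u a) ξ * g = (toUnit X ≫ nr a) * (P (D.u (D.P.reflectionPerm a a)) (ν X * ξ) *
      ((toUnit X ≫ nr a)⁻¹ * g)) := by rw [← h1]; group
  rw [e]
  refine simple_two' D b nr hnr x ha ?_
  have hu : P (D.u (D.P.reflectionPerm a a)) (ν X * ξ) ∈ Um D b X :=
    P_mem_gens D (ng_mem_neg D b (mem_posOf_of_mem ha)) _
  refine (simple_two_inv D b nr hnr x ha (Or.inl hg)).imp ?_ ?_ <;>
  · rintro ⟨u, hu', t, z, hz, e'⟩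
    refine ⟨_, Subgroup.mul_mem _ hu hu', t, z, hz, ?_⟩
    rw [e']
    simp only [_root_.mul_assoc]

/-- The double coset of a word, on points. -/
def InB (X : Over S) (l : List D.idx) (g : X ⟶ G) : Prop :=
  ∃ b₁ ∈ borelPts D b X, ∃ b₂ ∈ borelPts D b X, g = b₁ * (toUnit X ≫ Nw D nr l) * b₂

theorem inB_congr {X : Over S} {l l' : List D.idx} (h : wprod D.P l = wprod D.P l') {g : X ⟶ G}
    (hg : InB D b nr X l g) : InB D b nr X l' g := by
  obtain ⟨b₁, h₁, b₂, h₂, rfl⟩ := hg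
  obtain ⟨τ, hτ⟩ := (h ▸ nrm_word D nr hnr l' : Nrm D (Nw D nr l') (wprod D.P l)).exists_torus D b
    (nrm_word D nr hnr l)
  refine ⟨b₁, h₁, _, Subgroup.mul_mem _ (torus_mem_borelPts D b (toUnit X ≫ τ)) h₂, ?_⟩
  rw [hτ, MonObj.comp_mul, Category.assoc]
  group

/-- **A double coset only meets the opposite cells of smaller elements.** -/
theorem meet_le : ∀ (N : ℕ) (l l' : List D.idx) (g : RankOne16.kPt x ⟶ G),
    Order.len b (RedSub.wordPerm D.P l) < N → InB D b nr (RankOne16.kPt x) l g →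
      InC D b nr (RankOne16.kPt x) l' g →
        Relation.ReflTransGen (Order.Step b) (RedSub.wordPerm D.P l') (RedSub.wordPerm D.P l)
  | 0, _, _, _, h, _, _ => absurd h (Nat.not_lt_zero _)
  | N + 1, l, l', g, hlt, hB, hC => by
    classical
    haveI := D.fintypeIdx
    haveI := D.maximalTorus.1
    let X := RankOne16.kPt x
    by_cases h1 : wprod D.P l = 1
    · obtain ⟨b₁, hb₁, b₂, hb₂, e⟩ := inB_congr D b nr hnr (l' := []) (by rw [h1]; rfl) hB
      have hg : g ∈ borelPts D b X := by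
        rw [e, show toUnit X ≫ Nw D nr [] = 1 from MonObj.comp_one _, _root_.mul_one]
        exact mul_mem hb₁ hb₂
      obtain ⟨t, z, hz, ez⟩ := hg
      have hC0 : InC D b nr X [] g := ⟨1, Subgroup.one_mem _, t, z, hz, by
        rw [ez, show toUnit X ≫ Nw D nr [] = 1 from MonObj.comp_one _, _root_.one_mul, _root_.one_mul]⟩
      rw [inC_unique D hnr x hC hC0, Order.wordPerm_congr (P := D.P) (l := l) (l' := []) (by rw [h1]; rfl)]
    obtain ⟨a, ha, hdesc⟩ := Order.exists_descent b l h1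
    have hlen := Order.len_simple' b ha l hdesc
    obtain ⟨b₁, ⟨t, z, hz, rfl⟩, b₂, hb₂, e⟩ := inB_congr D b nr hnr (Order.wprod_cons_cons a l).symm hB
    obtain ⟨w, hw, r, hr, rfl⟩ := exists_split D b {a} (RedSub.posRoots D.P b \ {a})
      (Set.union_sdiff_cancel (Set.singleton_subset_iff.2 (show a ∈ RedSub.posRoots D.P b from mem_posOf_of_mem ha))).symm hz
    obtain ⟨ξ, rfl⟩ : ∃ ξ, w = P (D.u a) ξ := by
      haveI := (D.rootHom a).1
      refine Subgroup.closure_induction ?_ ⟨0, RankOne.P_zero.symm⟩ ?_ ?_ hw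
      · rintro _ ⟨d, y, hd, rfl⟩; rw [Set.mem_singleton_iff.1 hd]; exact ⟨y, rfl⟩
      · rintro _ _ - - ⟨y1, rfl⟩ ⟨y2, rfl⟩; exact ⟨y1 + y2, (RankOne.P_add _ _).symm⟩
      · rintro _ - ⟨y1, rfl⟩; exact ⟨-y1, (RankOne.P_neg _).symm⟩
    have hr' := conj_word_mem D hnr [a] (R := RedSub.posRoots D.P b \ {a}) (R' := RedSub.posRoots D.P b) (fun c hc => by
      rw [show wprod D.P [a] = RootPairing.Equiv.reflection D.P a by simp [wprod],
        RootPairing.Equiv.reflection_inv, refl_smul, RootComb21.posRoots_eq]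
      exact reflect_mem_posOf ha (RootComb21.posRoots_eq b ▸ hc.1) hc.2 (RootComb21.root_ne_two_smul _ _)
        (RootComb21.isSimpleSys_support b)) b hr
    rw [show Nw D nr [a] = nr a by simp [Nw]] at hr'
    set r' := (toUnit X ≫ nr a)⁻¹ * r * (toUnit X ≫ nr a) with hr'def
    let g' := (toUnit X ≫ nr a)⁻¹ * (P (D.u a) (-ξ) * ((t⁻¹ ≫ D.i) * g))
    have eg : g' = r' * (toUnit X ≫ Nw D nr (a :: l)) * b₂ := by
      haveI := (D.rootHom a).1
      simp only [g', e, hr'def, RankOne.P_neg, GrpObj.inv_comp, Nw, List.map_cons, List.prod_cons, MonObj.comp_mul]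
      group
      rfl
    have hB' : InB D b nr X (a :: l) g' := ⟨r', gens_le_borelPts D b hr', b₂, hb₂, eg⟩
    have hC' : InC D b nr X l' g' ∨ InC D b nr X (a :: l') g' :=
      simple_two_inv D b nr hnr x ha (root_two D b nr hnr x ha (-ξ) (inC_torus D hnr t⁻¹ hC))
    have hstep : Order.Step b (RedSub.wordPerm D.P (a :: l)) (RedSub.wordPerm D.P l) :=
      ⟨a, mem_posOf_of_mem ha, by rw [RootComb21.wordPerm_cons', Order.wordPerm_congr (Order.wprod_cons_cons a l)],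
        hlen.symm⟩
    rcases hC' with hC' | hC'
    · exact (meet_le N (a :: l) l' g' (by omega) hB' hC').tail hstep
    · have hle := Order.lifting b ha (a :: l') (meet_le N (a :: l) (a :: l') g' (by omega) hB' hC')
      rw [RootComb21.wordPerm_cons', RootComb21.wordPerm_cons',
        Order.wordPerm_congr (Order.wprod_cons_cons a l'), Order.wordPerm_congr (Order.wprod_cons_cons a l)] at hle
      rcases hle with hle | hle
      · exact hle
      · exact hle.tail hstep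

set_option maxHeartbeats 1000000 in
/-- The double coset of a larger element contains a deleted curve through a smaller one. -/
theorem inB_curve {c : D.idx} (hc : c ∈ RedSub.posRoots D.P b) {l : List D.idx}
    (hl : (wprod D.P l)⁻¹ • c ∈ RedSub.posRoots D.P b) {a : Γ((RankOne16.kPt x).left, ⊤)} (ha : a ≠ 0)
    {b₁ b₂ : RankOne16.kPt x ⟶ G} (h₁ : b₁ ∈ borelPts D b _) (h₂ : b₂ ∈ borelPts D b _) :
    InB D b nr _ (c :: l) (b₁ * P (D.u (ng D.P c)) a * (toUnit _ ≫ Nw D nr l) * b₂) := by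
  haveI := D.maximalTorus.1
  haveI := D.fintypeIdx
  haveI := (D.rootHom c).1
  obtain ⟨vd, cu, -, hvd, E⟩ := exists_dual D c
  obtain ⟨τ, hτ⟩ := (nrm_W D c E).exists_torus D b (nrm_of_realises D hnr c)
  haveI := E.hom_av
  obtain ⟨m₀, hm₀⟩ := RankOne16.isUnit_of_ne ha
  let q : (Γ((RankOne16.kPt x).left, ⊤))ˣ := (cu (RankOne16.kPt x))⁻¹ * m₀
  have hq : P (D.u (ng D.P c)) a = P vd (q : Γ((RankOne16.kPt x).left, ⊤)) := by
    rw [hvd, Units.val_mul, Units.mul_inv_cancel_left, hm₀]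
  -- `vd(-1/m) = u(-m) W u(-1/m) A(m)⁻¹`
  have key : ∀ m : (Γ((RankOne16.kPt x).left, ⊤))ˣ, P vd (-1 * ((m⁻¹ : (Γ((RankOne16.kPt x).left, ⊤))ˣ) : Γ((RankOne16.kPt x).left, ⊤))) =
      P (D.u c) (-(m : Γ((RankOne16.kPt x).left, ⊤))) * RankOne16.W (D.u c) vd *
        ((P (D.u c) ((-(m : Γ((RankOne16.kPt x).left, ⊤)) + 1) * ((m⁻¹ : (Γ((RankOne16.kPt x).left, ⊤))ˣ) : Γ((RankOne16.kPt x).left, ⊤)) + 1))⁻¹ *
          (A D.i (coChar D c) m)⁻¹) := fun m => by
    have h5 : P (D.u c) (-(m : Γ((RankOne16.kPt x).left, ⊤))) * RankOne16.W (D.u c) vd =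
        P vd (-1 * ((m⁻¹ : (Γ((RankOne16.kPt x).left, ⊤))ˣ) : Γ((RankOne16.kPt x).left, ⊤))) * A D.i (coChar D c) m *
          P (D.u c) ((-(m : Γ((RankOne16.kPt x).left, ⊤)) + 1) * ((m⁻¹ : (Γ((RankOne16.kPt x).left, ⊤))ˣ) : Γ((RankOne16.kPt x).left, ⊤)) + 1) := by
      rw [RankOne16.W, RankOne.w, RankOne.P_add ((-(m : Γ((RankOne16.kPt x).left, ⊤)) + 1) * _), ← _root_.mul_assoc,
        ← _root_.mul_assoc, ← RankOne.P_add, RankOne.P_mul_M E (-(m : Γ((RankOne16.kPt x).left, ⊤)) + 1) (-1) m (by ring)]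
      simp only [_root_.mul_assoc]
    rw [h5]
    group
  let m : (Γ((RankOne16.kPt x).left, ⊤))ˣ := -q⁻¹
  have hm : (-1 : Γ((RankOne16.kPt x).left, ⊤)) * ((m⁻¹ : (Γ((RankOne16.kPt x).left, ⊤))ˣ) : Γ((RankOne16.kPt x).left, ⊤)) = q := by simp [m]
  have e0 := key m
  rw [hm, ← hq] at e0
  set d := (-(m : Γ((RankOne16.kPt x).left, ⊤)) + 1) * ((m⁻¹ : (Γ((RankOne16.kPt x).left, ⊤))ˣ) : Γ((RankOne16.kPt x).left, ⊤)) + 1
  have hW : RankOne16.W (D.u c) vd = (toUnit (RankOne16.kPt x) ≫ nr c) * ((toUnit (RankOne16.kPt x) ≫ τ) ≫ D.i)⁻¹ := by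
    rw [hτ, MonObj.comp_mul, RankOne16.comp_W, Category.assoc, mul_inv_cancel_right]
  -- the tail in the Borel of the smaller word
  have hn := nrm_word D nr hnr l
  have moveT : ∀ s : (RankOne16.kPt x) ⟶ D.T, (toUnit (RankOne16.kPt x) ≫ Nw D nr l)⁻¹ * (s ≫ D.i) * (toUnit (RankOne16.kPt x) ≫ Nw D nr l) ∈ borelPts D b (RankOne16.kPt x) := fun s => by
    obtain ⟨s', hs', -⟩ := hn.inv (RankOne16.kPt x) s
    rw [GrpObj.comp_inv, _root_.inv_inv] at hs'
    rw [hs']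
    exact torus_mem_borelPts D b s'
  have moveU : (toUnit (RankOne16.kPt x) ≫ Nw D nr l)⁻¹ * P (D.u c) d * (toUnit (RankOne16.kPt x) ≫ Nw D nr l) ∈ borelPts D b (RankOne16.kPt x) :=
    gens_le_borelPts D b (conj_word_mem D hnr l (R := ({c} : Set D.idx)) (R' := RedSub.posRoots D.P b)
      (fun c' hc' => by rw [Set.mem_singleton_iff.1 hc']; exact hl) b
      (P_mem_gens D (R := ({c} : Set D.idx)) (Set.mem_singleton c) d))
  have grp : ∀ n s p s' : (RankOne16.kPt x) ⟶ G, n⁻¹ * (s⁻¹ * (p⁻¹ * s'⁻¹)) * n = (n⁻¹ * s * n)⁻¹ * (n⁻¹ * p * n)⁻¹ * (n⁻¹ * s' * n)⁻¹ :=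
    fun n s p s' => by group
  have hA : A D.i (coChar D c) m = (GmPts.ptOfUnit m ≫ coChar D c) ≫ D.i := (Category.assoc _ _ _).symm
  have htail : (toUnit (RankOne16.kPt x) ≫ Nw D nr l)⁻¹ *
      (((toUnit (RankOne16.kPt x) ≫ τ) ≫ D.i)⁻¹ * ((P (D.u c) d)⁻¹ * (A D.i (coChar D c) m)⁻¹)) * (toUnit (RankOne16.kPt x) ≫ Nw D nr l) ∈
      borelPts D b (RankOne16.kPt x) := by
    rw [grp, hA]
    exact mul_mem (mul_mem (inv_mem (moveT (toUnit (RankOne16.kPt x) ≫ τ))) (inv_mem moveU))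
      (inv_mem (moveT (GmPts.ptOfUnit m ≫ coChar D c)))
  refine ⟨b₁ * P (D.u c) (-(m : Γ((RankOne16.kPt x).left, ⊤))),
    mul_mem h₁ (gens_le_borelPts D b (P_mem_gens D hc _)), _, mul_mem htail h₂, ?_⟩
  rw [e0, hW]
  simp only [Nw, List.map_cons, List.prod_cons, MonObj.comp_mul]
  group

end Groth.Agent.RedCell16
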