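import Groth.Agent.Lib.RedCell16.WeightApps
import Mathlib.Algebra.Polynomial.Laurent

/-!
# The commutator of two positive root groups in coordinates
-/

set_option autoImplicit false
set_option linter.style.haveILetI false
set_option linter.unusedSimpArgs false
set_option backward.isDefEq.respectTransparency false
set_option backward.isDefEq.respectTransparency.types false

universe u

open CategoryTheory CategoryTheory.Limits MonoidalCategory CartesianMonoidalCategory MonObj AlgebraicGeometry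

noncomputable section

namespace Groth.Agent.RedCell16

open DiagGL RootDLib
open RankOne (P)
open RankOne16 (fn spMap spMap_fn kPt geomHom)

variable {S : Scheme.{u}}

/-- Natural functions of two variables agreeing when the second one is a unit agree. -/
theorem fn_eq_of_units (N N' : ∀ X : Over S, Γ(X.left, ⊤) → Γ(X.left, ⊤) → Γ(X.left, ⊤))
    (hN : ∀ (X X' : Over S) (g : X' ⟶ X) x y, g.left.appTop (N X x y) = N X' (g.left.appTop x) (g.left.appTop y))
    (hN' : ∀ (X X' : Over S) (g : X' ⟶ X) x y, g.left.appTop (N' X x y) = N' X' (g.left.appTop x) (g.left.appTop y))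
    (h : ∀ (X : Over S) x (v : (Γ(X.left, ⊤))ˣ), N X x (v : Γ(X.left, ⊤)) = N' X x v)
    (X : Over S) (x y : Γ(X.left, ⊤)) : N X x y = N' X x y := by
  refine RankOne16.ext_of_affine fun R _ φ e => ?_
  rw [hN, hN']
  obtain ⟨x₀, hx⟩ := (fn φ).surjective (e.left.appTop x)
  obtain ⟨y₀, hy⟩ := (fn φ).surjective (e.left.appTop y)
  rw [← hx, ← hy]
  let q := spMap φ (Polynomial.C : R →+* Polynomial R)
  let ψ := Spec.map (CommRingCat.ofHom (Polynomial.C : R →+* Polynomial R)) ≫ φ
  obtain ⟨A, hA⟩ := (fn ψ).surjective (N _ (fn ψ (Polynomial.C x₀)) (fn ψ Polynomial.X))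
  obtain ⟨B, hB⟩ := (fn ψ).surjective (N' _ (fn ψ (Polynomial.C x₀)) (fn ψ Polynomial.X))
  have hAB : A = B := by
    apply Polynomial.toLaurent_injective
    apply (fn (Spec.map (CommRingCat.ofHom (Polynomial.toLaurent : Polynomial R →+* LaurentPolynomial R)) ≫ ψ)).injective
    rw [← spMap_fn ψ, ← spMap_fn ψ, hA, hB, hN, hN', spMap_fn, spMap_fn, Polynomial.toLaurent_X]
    have hu : IsUnit (LaurentPolynomial.T 1 : LaurentPolynomial R) := LaurentPolynomial.isUnit_T 1
    obtain ⟨w, hw⟩ := hu.map (fn (Spec.map (CommRingCat.ofHom (Polynomial.toLaurent : Polynomial R →+* LaurentPolynomial R)) ≫ ψ))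
    rw [← hw]
    exact h _ _ w
  have he : Spec.map (CommRingCat.ofHom (Polynomial.evalRingHom y₀)) ≫ ψ = φ := by
    rw [← Category.assoc, ← Spec.map_comp, ← CommRingCat.ofHom_comp, show
      (Polynomial.evalRingHom y₀).comp Polynomial.C = RingHom.id R from RingHom.ext fun _ => Polynomial.eval_C,
      CommRingCat.ofHom_id, Spec.map_id, Category.id_comp]
  let j : RankOne16.sp φ ⟶ RankOne16.sp ψ :=
    Over.homMk (Spec.map (CommRingCat.ofHom (Polynomial.evalRingHom y₀))) he
  have hj : ∀ p : Polynomial R, j.left.appTop (fn ψ p) = fn φ (p.eval y₀) := fun p =>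
    (congrArg (fun g : CommRingCat.of (Polynomial R) ⟶ Γ(Spec (CommRingCat.of R), ⊤) => g.hom p)
      (Scheme.ΓSpecIso_inv_naturality (CommRingCat.ofHom (Polynomial.evalRingHom y₀)))).symm
  have hpt : ∀ M : ∀ X : Over S, Γ(X.left, ⊤) → Γ(X.left, ⊤) → Γ(X.left, ⊤),
      (∀ (X X' : Over S) (g : X' ⟶ X) x y, g.left.appTop (M X x y) = M X' (g.left.appTop x) (g.left.appTop y)) →
      j.left.appTop (M _ (fn ψ (Polynomial.C x₀)) (fn ψ Polynomial.X)) = M _ (fn φ x₀) (fn φ y₀) := fun M hM => by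
    rw [hM, hj, hj, Polynomial.eval_C, Polynomial.eval_X]
  rw [← hpt N hN, ← hpt N' hN', ← hA, ← hB, hAB]

variable {G : Over S} [GrpObj G] (D : Red.SplitRed G) {n m : ℕ} (eneg : Fin n → D.idx) (epos : Fin m → D.idx)
  {b : D.P.Base} (hneg : RedSub.Enumerates (RedSub.negRoots D.P b) eneg)
  (hpos : RedSub.Enumerates (RedSub.posRoots D.P b) epos)

/-- The root `d` is a positive combination of `p` and `q`, with exponents `i`, `j`. -/
def IsComb (p q d : D.idx) (i j : ℕ) : Prop :=
  0 < i ∧ 0 < j ∧ D.P.root d = (i : ℤ) • D.P.root p + (j : ℤ) • D.P.root q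

theorem IsComb.pos {p q d : D.idx} {i j : ℕ} (h : IsComb D p q d i j)
    (hp : p ∈ RedSub.posRoots D.P b) (hq : q ∈ RedSub.posRoots D.P b) : d ∈ RedSub.posRoots D.P b := by
  show D.P.root d ∈ AddSubmonoid.closure (D.P.root '' ↑b.support)
  rw [h.2.2, natCast_zsmul, natCast_zsmul]
  exact add_mem (AddSubmonoid.nsmul_mem _ hp _) (AddSubmonoid.nsmul_mem _ hq _)

/-- The commutator of two root elements. -/
abbrev comm (p q : D.idx) {X : Over S} (x y : Γ(X.left, ⊤)) : X ⟶ G :=
  P (D.u p) x * P (D.u q) y * (P (D.u p) x)⁻¹ * (P (D.u q) y)⁻¹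

theorem comp_comm (p q : D.idx) {X X' : Over S} (g : X' ⟶ X) (x y : Γ(X.left, ⊤)) :
    g ≫ comm D p q x y = comm D p q (g.left.appTop x) (g.left.appTop y) := by
  simp only [comm, MonObj.comp_mul, GrpObj.comp_inv, RankOne.comp_P]

theorem conj_comm (p q : D.idx) {X : Over S} (t : X ⟶ D.T) (x y : Γ(X.left, ⊤)) :
    (t ≫ D.i) * comm D p q x y * (t ≫ D.i)⁻¹ = comm D p q (rt D t p * x) (rt D t q * y) := by
  simp only [comm, ← conj_P]
  group

theorem cellPt_zero_left {X : Over S} (x : Fin m → Γ(X.left, ⊤)) : cellPt D eneg epos 0 1 x = rp D epos x := by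
  haveI := D.maximalTorus.1
  rw [cellPt_eq, rp_zero_fn, MonObj.one_comp, _root_.one_mul, _root_.one_mul]

include hneg hpos in
/-- **The commutator formula** in the coordinates of the big cell. -/
theorem exists_comm_coeff [D.P.IsReduced] (p q : D.idx) (hp : p ∈ RedSub.posRoots D.P b)
    (hq : q ∈ RedSub.posRoots D.P b) :
    ∃ (i j : Fin m → ℕ) (C : ∀ X : Over S, Fin m → Γ(X.left, ⊤)),
      (∀ (X X' : Over S) (g : X' ⟶ X) l, g.left.appTop (C X l) = C X' l) ∧
      (∀ (X : Over S) l, ¬ IsComb D p q (epos l) (i l) (j l) → C X l = 0) ∧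
      ∀ (X : Over S) (x y : Γ(X.left, ⊤)), comm D p q x y = rp D epos fun l => C X l * x ^ i l * y ^ j l := by
  classical
  haveI := D.fintypeIdx
  haveI := torsionFree D.P
  haveI := (D.rootHom p).1
  haveI := (D.rootHom q).1
  by_cases hqp : q = p
  · subst hqp
    refine ⟨0, 0, fun _ _ => 0, fun _ _ _ _ => map_zero _, fun _ _ _ => rfl, fun X x y => ?_⟩
    rw [show (fun l => (0 : Γ(X.left, ⊤)) * x ^ (0 : Fin m → ℕ) l * y ^ (0 : Fin m → ℕ) l) = 0 by funext l; simp,
      rp_zero_fn, comm, ← RankOne.P_add, add_comm x y, RankOne.P_add]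
    group
  have hΔ : 0 < det D p q := det_pos D p q (fun h => hqp (D.P.root.injective h)) fun h => by
    have hq' : p ∈ RedSub.negRoots D.P b := by
      show -D.P.root p ∈ AddSubmonoid.closure _
      rw [← h]; exact hq
    exact (RootComb21.mem_negRoots_iff b p).1 hq' hp
  obtain ⟨k, hk⟩ : ∃ k : ℕ, det D p q = k := ⟨_, (Int.toNat_of_nonneg hΔ.le).symm⟩
  have hk0 : k ≠ 0 := by omega
  let W1 : WeightFam D :=
    { F := fun X z => comm D p q z (1 : Γ(X.left, ⊤))
      nat := fun X X' g a => by rw [comp_comm, map_one]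
      zero := fun X => by simp [comm, RankOne.P_zero]
      ℓ := dualFun D p q, k := k, k_ne := hk0
      conj := fun X v t a ht => by
        rw [conj_comm, rt_exists_tor D _ v t ht p k ((dualFun_self D p q).trans hk),
          rt_exists_tor D _ v t ht q 0 (dualFun_other D p q), pow_zero, _root_.one_mul] }
  let W2 : WeightFam D :=
    { F := fun X z => comm D p q (1 : Γ(X.left, ⊤)) z
      nat := fun X X' g a => by rw [comp_comm, map_one]
      zero := fun X => by simp [comm, RankOne.P_zero]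
      ℓ := dualFun D q p, k := k, k_ne := hk0
      conj := fun X v t a ht => by
        rw [conj_comm, rt_exists_tor D _ v t ht q k ((dualFun_self D q p).trans ((det_comm D p q).trans hk)),
          rt_exists_tor D _ v t ht p 0 (dualFun_other D q p), pow_zero, _root_.one_mul] }
  obtain ⟨y1, x1, h1, hn1, hy1, hx1, ha1⟩ := W1.exists_coords D eneg epos hneg hpos
  obtain ⟨y2, x2, h2, -, hy2, hx2, -⟩ := W2.exists_coords D eneg epos hneg hpos
  let iOf : D.idx → ℕ := fun d => (dualFun D p q (D.P.root d) / (k : ℤ)).toNat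
  let jOf : D.idx → ℕ := fun d => (dualFun D q p (D.P.root d) / (k : ℤ)).toNat
  have key : ∀ (X : Over S), (∀ l, y1 X l = 0) ∧ ∀ l, ¬ IsComb D p q (epos l) (iOf (epos l)) (jOf (epos l)) → x1 X l = 0 := by
    intro X
    obtain ⟨e1, -, e2⟩ := cellPt_inj D eneg epos hneg hpos ((h1 X).symm.trans (h2 X))
    have hfix := fun ℓ (hp : ℓ (D.P.root p) = 0) (hq : ℓ (D.P.root q) = 0) =>
      coord_eq_zero D eneg epos hneg hpos (y1 X) (x1 X) ℓ fun X' e v t ht => by
        rw [← h1]
        show (t ≫ D.i) * (e ≫ comm D p q (1 : Γ(X.left, ⊤)) 1) * (t ≫ D.i)⁻¹ = e ≫ comm D p q (1 : Γ(X.left, ⊤)) 1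
        rw [comp_comm, map_one, conj_comm, rt_exists_tor D ℓ v t ht p 0 hp, rt_exists_tor D ℓ v t ht q 0 hq, pow_zero,
          _root_.one_mul]
    have hcomb : ∀ (d : D.idx) (a c : ℕ), 0 < a → 0 < c → dualFun D p q (D.P.root d) = ((k * a : ℕ) : ℤ) →
        dualFun D q p (D.P.root d) = ((k * c : ℕ) : ℤ) →
        (∀ ℓ : D.M →+ ℤ, ℓ (D.P.root p) = 0 → ℓ (D.P.root q) = 0 → ℓ (D.P.root d) = 0) →
        IsComb D p q d (iOf d) (jOf d) := fun d a c ha hc e1 e2 hs => by
      have h := det_smul_eq D p q _ hs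
      rw [e1, e2, hk, Nat.cast_mul, Nat.cast_mul, mul_smul, mul_smul, ← smul_add] at h
      have hi : iOf d = a := by
        simp only [iOf]
        rw [e1, Nat.cast_mul, Int.mul_ediv_cancel_left _ (Int.natCast_ne_zero.2 hk0), Int.toNat_natCast]
      have hj : jOf d = c := by
        simp only [jOf]
        rw [e2, Nat.cast_mul, Int.mul_ediv_cancel_left _ (Int.natCast_ne_zero.2 hk0), Int.toNat_natCast]
      exact ⟨hi ▸ ha, hj ▸ hc, by rw [hi, hj]; exact zsmul_right_injective (Int.natCast_ne_zero.2 hk0) h⟩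
    refine ⟨fun l => ?_, fun l hl => ?_⟩
    · by_contra hne
      obtain ⟨a, ha, ea⟩ : ∃ a : ℕ, 0 < a ∧ dualFun D p q (D.P.root (eneg l)) = ((k * a : ℕ) : ℤ) := by
        by_contra h'; push Not at h'; exact hne (hy1 X l h')
      obtain ⟨c, hc, ec⟩ : ∃ a : ℕ, 0 < a ∧ dualFun D q p (D.P.root (eneg l)) = ((k * a : ℕ) : ℤ) := by
        by_contra h'; push Not at h'; exact hne ((congrFun e1 l).trans (hy2 X l h'))
      have hcb := hcomb _ a c ha hc ea ec fun ℓ hp hq => by by_contra h'; exact hne ((hfix ℓ hp hq).1 l h')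
      exact (RootComb21.mem_negRoots_iff b _).1 (hneg.2 ▸ ⟨l, rfl⟩) (hcb.pos D hp hq)
    · by_contra hne
      obtain ⟨a, ha, ea⟩ : ∃ a : ℕ, 0 < a ∧ dualFun D p q (D.P.root (epos l)) = ((k * a : ℕ) : ℤ) := by
        by_contra h'; push Not at h'; exact hne (hx1 X l h')
      obtain ⟨c, hc, ec⟩ : ∃ a : ℕ, 0 < a ∧ dualFun D q p (D.P.root (epos l)) = ((k * a : ℕ) : ℤ) := by
        by_contra h'; push Not at h'; exact hne ((congrFun e2 l).trans (hx2 X l h'))
      exact hl (hcomb _ a c ha hc ea ec fun ℓ hp hq => by by_contra h'; exact hne ((hfix ℓ hp hq).2 l h'))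
  let i : Fin m → ℕ := fun l => iOf (epos l)
  let j : Fin m → ℕ := fun l => jOf (epos l)
  have hline : ∀ (X : Over S) (x : Γ(X.left, ⊤)),
      comm D p q x (1 : Γ(X.left, ⊤)) = rp D epos fun l => x1 X l * x ^ i l := fun X x => by
    rw [show comm D p q x (1 : Γ(X.left, ⊤)) = _ from ha1 X x,
      show (fun l => y1 X l * x ^ (W1.ℓ (D.P.root (eneg l)) / (W1.k : ℤ)).toNat) = (0 : Fin n → Γ(X.left, ⊤)) from
        funext fun l => by rw [(key X).1 l, zero_mul]; rfl, cellPt_zero_left]
  have hcn : ∀ (X X' : Over S) (g : X' ⟶ X) l, g.left.appTop (x1 X l) = x1 X' l := fun X X' g l =>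
    congrFun (hn1 X X' g).2 l
  have hunit : ∀ (X : Over S) (x : Γ(X.left, ⊤)) (v : (Γ(X.left, ⊤))ˣ),
      comm D p q x (v : Γ(X.left, ⊤)) = rp D epos fun l => x1 X l * x ^ i l * (v : Γ(X.left, ⊤)) ^ j l := fun X x v => by
    obtain ⟨X', e, s, he, hs⟩ := exists_unit_root v k hk0
    haveI := he
    obtain ⟨t, ht⟩ := exists_tor D (dualFun D q p) s
    rw [← cancel_epi e, comp_comm, comp_rp]
    have h := conj_comm D p q t (e.left.appTop x) (1 : Γ(X'.left, ⊤))
    rw [rt_exists_tor D _ s t ht p 0 (dualFun_other D q p),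
      rt_exists_tor D _ s t ht q k ((dualFun_self D q p).trans ((det_comm D p q).trans hk)), pow_zero, _root_.one_mul,
      _root_.mul_one, ← hs] at h
    rw [← h, hline, conj_rp]
    congr 1
    funext l
    rw [map_mul, map_mul, map_pow, map_pow, hcn, hs]
    by_cases hc : IsComb D p q (epos l) (i l) (j l)
    · have hrt : rt D t (epos l) = ((s : Γ(X'.left, ⊤)) ^ k) ^ j l := by
        rw [← pow_mul]
        refine rt_exists_tor D _ s t ht _ _ ?_
        rw [hc.2.2, map_add, map_zsmul, map_zsmul, dualFun_self, dualFun_other, det_comm, hk]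
        simp; ring
      rw [hrt]; ring
    · rw [(key X').2 l hc]; simp
  have hmem : ∀ (X : Over S) (x y : Γ(X.left, ⊤)) (z : X.left),
      (comm D p q x y).left z ∈ Set.range (RedSub.cellMap D eneg epos).left := fun X x y z => by
    set K := AlgebraicClosure (X.left.residueField z)
    suffices H : (geomHom z ≫ comm D p q x y).left (IsLocalRing.closedPoint K) ∈ Set.range (RedSub.cellMap D eneg epos).left by
      rwa [Over.comp_left, Scheme.Hom.comp_apply, RankOne16.geomHom_apply] at H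
    rw [comp_comm]
    set x' := (geomHom z).left.appTop x
    set y' := (geomHom z).left.appTop y
    by_cases hy0 : y' = 0
    · rw [hy0, comm, RankOne.P_zero, inv_one, _root_.mul_one, _root_.mul_one, mul_inv_cancel]
      exact one_mem D eneg epos (X := kPt (Red.geomPt z ≫ X.hom)) _
    · obtain ⟨v, hv⟩ := RankOne16.isUnit_of_ne (K := K) hy0
      rw [← hv, hunit, ← cellPt_zero_left D eneg]
      exact cellPt_mem D eneg epos _ _ _ _
  choose Y τ Z hdec using fun (X : Over S) (x y : Γ(X.left, ⊤)) =>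
    exists_cellPt D eneg epos hneg hpos (comm D p q x y) (hmem X x y)
  have hnat : ∀ (X X' : Over S) (g : X' ⟶ X) x y, (fun l => g.left.appTop (Y X x y l)) = Y X' (g.left.appTop x) (g.left.appTop y) ∧
      g ≫ τ X x y = τ X' (g.left.appTop x) (g.left.appTop y) ∧
      (fun l => g.left.appTop (Z X x y l)) = Z X' (g.left.appTop x) (g.left.appTop y) :=
    fun X X' g x y => cellPt_inj D eneg epos hneg hpos (by rw [← comp_cellPt, ← hdec, ← hdec, comp_comm])
  have hval : ∀ (X : Over S) x (v : (Γ(X.left, ⊤))ˣ), Y X x v = 0 ∧ τ X x v = 1 ∧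
      Z X x v = fun l => x1 X l * x ^ i l * (v : Γ(X.left, ⊤)) ^ j l := fun X x v =>
    cellPt_inj D eneg epos hneg hpos (by rw [← hdec, hunit, cellPt_zero_left])
  refine ⟨i, j, x1, hcn, fun X l hl => (key X).2 l hl, fun X x y => ?_⟩
  have hY : Y X x y = 0 := funext fun l => fn_eq_of_units (fun X x y => Y X x y l) (fun _ _ _ => 0)
    (fun X X' g x y => congrFun (hnat X X' g x y).1 l) (fun _ _ _ _ _ => map_zero _)
    (fun X x v => congrFun (hval X x v).1 l) X x y
  have hτ : τ X x y = 1 := (chars D).inj fun w => by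
    rw [(chars D).one]
    exact fn_eq_of_units (fun X x y => (chars D).ch (τ X x y) w) (fun _ _ _ => 1)
      (fun X X' g x y => by rw [← (chars D).nat, (hnat X X' g x y).2.1]) (fun _ _ _ _ _ => map_one _)
      (fun X x v => by rw [(hval X x v).2.1, (chars D).one]) X x y
  have hZ : Z X x y = fun l => x1 X l * x ^ i l * y ^ j l := funext fun l =>
    fn_eq_of_units (fun X x y => Z X x y l) (fun X x y => x1 X l * x ^ i l * y ^ j l)
      (fun X X' g x y => congrFun (hnat X X' g x y).2.2 l)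
      (fun X X' g x y => by simp only [map_mul, map_pow, hcn])
      (fun X x v => congrFun (hval X x v).2.2 l) X x y
  rw [hdec X x y, hY, hτ, hZ, cellPt_zero_left]

end Groth.Agent.RedCell16
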