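import Groth.Agent.Lib.RedCell16.Pair

/-!
# Rank two computations: type A₂
-/

set_option autoImplicit false
set_option linter.style.haveILetI false
set_option linter.unusedSimpArgs false
set_option linter.unusedSectionVars false
set_option backward.isDefEq.respectTransparency false
set_option backward.isDefEq.respectTransparency.types false

universe u

open CategoryTheory CategoryTheory.Limits MonoidalCategory CartesianMonoidalCategory MonObj AlgebraicGeometry

noncomputable section

namespace Groth.Agent.RedCell16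

open DiagGL RootDLib
open RankOne (P A)

variable {S : Scheme.{u}} {G : Over S} [GrpObj G] {D : Red.SplitRed G} [D.P.IsReduced] {a b : D.idx}
  (h : PairSys D.P a b 1) (b₀ : D.P.Base)

include h b₀

/-- **The commutator in type A₂.** -/
theorem A2_comm (Eb : DualPair D b) (X : Over S) (x y : Γ(X.left, ⊤)) :
    comm D b a y x = cj (Wy D b X) (P (D.u a) (x * y)) := by
  haveI := D.fintypeIdx
  set c := D.P.reflectionPerm b a with hc
  set nb := ng D.P b with hnb
  have ra := root_coords_a a b
  have rb := root_coords_b a b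
  have rc : D.P.root c = (1 : ℤ) • D.P.root a + (1 : ℤ) • D.P.root b := (h.root_refl_b ra).trans (by norm_num)
  have rnb : D.P.root nb = (0 : ℤ) • D.P.root a + (-1 : ℤ) • D.P.root b := (root_coords_ng rb).trans (by norm_num)
  obtain ⟨ν, -, hν⟩ := exists_cj_coeff D b₀ Eb a c hc.symm
  obtain ⟨B, -, hB⟩ := h.exists_comm b₀ 1 1 (x := b) (y := a) (0, 1) (1, 0) rb ra (by decide) (by decide) ![c]
    ![(1, 1)] (fun l => by fin_cases l; exact rc) (by decide) ![1] ![1] (by decide) (by decide) (by decide)
  obtain ⟨C, -, hC⟩ := h.exists_comm b₀ 2 (-1) (x := c) (y := nb) (1, 1) (0, -1) rc rnb (by decide) (by decide) ![a]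
    ![(1, 0)] (fun l => by fin_cases l; exact ra) (by decide) ![1] ![1] (by decide) (by decide) (by decide)
  have e1 := comm_identity D (a := b) (b := a) (c := c) X (1 : Γ(X.left, ⊤)) (ν X)
    (fun u => h.commute_root b₀ rb rc (by decide) (by decide) X u _) (by rw [hν, _root_.mul_one])
  rw [hB, hC] at e1
  have e2 : rp (X := X) D ![c, a] ![B X 0, 1] = rp (X := X) D ![c, a] ![ν X, C X 0 * -ν X] := by
    simp [rp_two, rp_one] at e1 ⊢; exact e1
  have e3 := congrFun (h.rp_inj b₀ 1 0 ![c, a] ![(1, 1), (1, 0)] (fun l => by fin_cases l; exacts [rc, ra]) (by decide)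
    (by decide) (by decide) e2) 0
  simp at e3
  rw [hB, hν, rp_one]
  simp [e3]
  congr 1
  ring

theorem symm_A2 : PairSys D.P b a 1 := ⟨Or.inl rfl, h.hba, h.hab, fun ⟨d, hd⟩ => h.hsub ⟨ng D.P d, by
  rw [root_ng, hd]; abel⟩⟩

/-- The Weyl element of `a` carries `b` to `a + b` with the opposite parametrisation. -/
theorem A2_cj_a (Ea : DualPair D a) (Eb : DualPair D b) (X : Over S) (x : Γ(X.left, ⊤)) :
    cj (Wy D a X) (P (D.u b) x) = cj (Wy D b X) (P (D.u a) (-x)) := by
  haveI := (D.rootHom a).1
  have h1 := A2_comm (symm_A2 h b₀) b₀ Ea X x 1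
  have h2 := A2_comm h b₀ Eb X 1 x
  rw [_root_.mul_one] at h1
  rw [_root_.one_mul] at h2
  have h3 : comm D b a x 1 = (comm D a b 1 x)⁻¹ := by simp only [comm]; group
  rw [h2, h1] at h3
  rw [RankOne.P_neg, show cj (Wy D b X) (P (D.u a) x)⁻¹ = (cj (Wy D b X) (P (D.u a) x))⁻¹ by simp only [cj]; group, h3,
    inv_inv]

end Groth.Agent.RedCell16
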