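import Groth.Agent.Lib.RedCell16.Braid
import Groth.Agent.Lib.RedCell16.PairA2
import Groth.Agent.Lib.RedCell16.PairB2

/-!
# The squares of the braid elements
-/

set_option autoImplicit false
set_option linter.style.haveILetI false
set_option linter.unusedSimpArgs false
set_option linter.unusedSectionVars false
set_option backward.isDefEq.respectTransparency false
set_option backward.isDefEq.respectTransparency.types false

universe u

open CategoryTheory CategoryTheory.Limits MonoidalCategory CartesianMonoidalCategory MonObj AlgebraicGeometry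

noncomputable section

namespace Groth.Agent.RedCell16

open DiagGL RootDLib
open RankOne (P A)

variable {S : Scheme.{u}} {G : Over S} [GrpObj G] (D : Red.SplitRed G)

/-- `a^∨((-1)^i) b^∨((-1)^j)` -/
def Tm (a b : D.idx) (X : Over S) (i j : ℤ) : X ⟶ G :=
  Ac D a ((-1 : (Γ(X.left, ⊤))ˣ) ^ i) * Ac D b ((-1 : (Γ(X.left, ⊤))ˣ) ^ j)

theorem Tm_zero (a b : D.idx) (X : Over S) : Tm D a b X 0 0 = 1 := by
  rw [Tm, zpow_zero, Ac_one, Ac_one, _root_.one_mul]

theorem Tm_right (a b : D.idx) (X : Over S) : Tm D a b X 0 1 = Ac D b (-1) := by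
  rw [Tm, zpow_zero, zpow_one, Ac_one, _root_.one_mul]

theorem Tm_left (a b : D.idx) (X : Over S) : Tm D a b X 1 0 = Ac D a (-1) := by
  rw [Tm, zpow_zero, zpow_one, Ac_one, _root_.mul_one]

theorem Tm_add (a b : D.idx) (X : Over S) (i j i' j' : ℤ) :
    Tm D a b X i j * Tm D a b X i' j' = Tm D a b X (i + i') (j + j') := by
  rw [Tm, Tm, Tm, zpow_add, zpow_add, Ac_mul, Ac_mul, _root_.mul_assoc (Ac D a ((-1 : (Γ(X.left, ⊤))ˣ) ^ i)),
    ← _root_.mul_assoc (Ac D b ((-1 : (Γ(X.left, ⊤))ˣ) ^ j)), Ac_comm D b a]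
  simp only [_root_.mul_assoc]

variable {a b : D.idx}

theorem step_left (Ea : DualPair D a) (X : Over S) (i j k : ℤ) (hk : D.P.pairing a b = -k) :
    Wy D a X * Tm D a b X i j * Wy D a X = Tm D a b X (k * j - i + 1) j := by
  rw [show Wy D a X * Tm D a b X i j * Wy D a X = cj (Wy D a X) (Tm D a b X i j) * (Wy D a X * Wy D a X) by
    simp only [cj]; group, RankOne16.W_mul_W Ea, Tm, cj_pair D Ea _ i j k hk, ← Tm]
  show _ * Ac D a (-1) = _
  rw [← Tm_left D a b X, Tm_add, add_zero]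

theorem step_right (Eb : DualPair D b) (X : Over S) (i j k : ℤ) (hk : D.P.pairing b a = -k) :
    Wy D b X * Tm D a b X i j * Wy D b X = Tm D a b X i (k * i - j + 1) := by
  rw [show Wy D b X * Tm D a b X i j * Wy D b X = cj (Wy D b X) (Tm D a b X i j) * (Wy D b X * Wy D b X) by
    simp only [cj]; group, RankOne16.W_mul_W Eb, Tm, Ac_comm D a b, cj_pair D Eb _ j i k hk, Ac_comm D b a, ← Tm]
  show _ * Ac D b (-1) = _
  rw [← Tm_right D a b X, Tm_add, add_zero]

theorem Tm_even (a b : D.idx) (X : Over S) (i j : ℤ) : Tm D a b X (2 * i) (2 * j) = 1 := by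
  rw [Tm, zpow_mul, zpow_mul, show ((-1 : (Γ(X.left, ⊤))ˣ) ^ (2 : ℤ)) = 1 by rw [show (2 : ℤ) = ((2 : ℕ) : ℤ) from rfl, zpow_natCast, neg_one_sq],
    one_zpow, one_zpow, Ac_one, Ac_one, _root_.one_mul]

theorem Tm_odd_even (a b : D.idx) (X : Over S) (i j : ℤ) : Tm D a b X (2 * i + 1) (2 * j) = Ac D a (-1) := by
  rw [← add_zero (2 * j), ← Tm_add, Tm_even, _root_.one_mul, Tm_left]

/-- Torus elements under a word, used to check where the coroots go. -/
theorem cj_pair_left (Ea : DualPair D a) {X : Over S} (v : (Γ(X.left, ⊤))ˣ) (i j k : ℤ) (hk : D.P.pairing a b = -k) :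
    cj (Wy D a X) (Ac D a (v ^ i) * Ac D b (v ^ j)) = Ac D a (v ^ (k * j - i)) * Ac D b (v ^ j) :=
  cj_pair D Ea v i j k hk

theorem cj_pair_right (Eb : DualPair D b) {X : Over S} (v : (Γ(X.left, ⊤))ˣ) (i j k : ℤ) (hk : D.P.pairing b a = -k) :
    cj (Wy D b X) (Ac D a (v ^ i) * Ac D b (v ^ j)) = Ac D a (v ^ i) * Ac D b (v ^ (k * i - j)) := by
  rw [Ac_comm D a b, cj_pair D Eb v j i k hk, Ac_comm D b a]

end Groth.Agent.RedCell16
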