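import Groth.Agent.Lib.RedCell16.RootSub
import Groth.Agent.Lib.RankOne16.Charts
import Groth.Agent.Lib.RankOne16.Closed
import Groth.Agent.Lib.RankOne16.Bruhat

/-!
# Every root has a dual root group with the coroot as cocharacter
-/

set_option autoImplicit false
set_option linter.style.haveILetI false
set_option linter.unusedSimpArgs false
set_option backward.isDefEq.respectTransparency false
set_option backward.isDefEq.respectTransparency.types false

universe u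

open CategoryTheory CategoryTheory.Limits MonoidalCategory CartesianMonoidalCategory MonObj AlgebraicGeometry

noncomputable section

namespace Groth.Agent.RedCell16

open DiagGL RootDLib
open RankOne (P A)
open RankOne16 (cell kPt geomHom W)

variable {S : Scheme.{u}} {G : Over S} [GrpObj G] (D : Red.SplitRed G) (c : D.idx) (R : RootSub D c)

theorem RootSub.hom_i : IsMonHom R.i := R.cellular.hom_i

/-- A point of the cell normalising the torus lies in the torus. -/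
theorem RootSub.eq_torus_of_normalize {X : Over S} {pm : Red.Ga S ⟶ R.Z} {av : Red.Gm S ⟶ D.T}
    (E : RankOne.Datum R.i (rootChar D c) R.pp pm av) (hΩ : IsOpenImmersion (RankOne16.cellMap R.i R.pp pm).left)
    (y : Γ(X.left, ⊤)) (τ : X ⟶ D.T) (x : Γ(X.left, ⊤))
    (h : ∀ (X' : Over S) (e : X' ⟶ X) (t : X' ⟶ D.T), ∃ t' : X' ⟶ D.T,
      (e ≫ cell R.i R.pp pm y τ x) * (t ≫ R.i) = (t' ≫ R.i) * (e ≫ cell R.i R.pp pm y τ x)) :
    cell R.i R.pp pm y τ x = τ ≫ R.i := by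
  haveI := E.hom_i
  haveI := E.hom_pp
  haveI := E.hom_pm
  have key : ∀ (X' : Over S) (e : X' ⟶ X) (t : X' ⟶ D.T),
      rt D t c * e.left.appTop y = e.left.appTop y ∧ rt D t c * e.left.appTop x = e.left.appTop x := fun X' e t => by
    obtain ⟨t', ht⟩ := h X' e t
    rw [RankOne16.comp_cell] at ht
    set y' := e.left.appTop y
    set x' := e.left.appTop x
    set k := GmPts.unitOfPt (t ≫ rootChar D c)
    set k' := GmPts.unitOfPt (t' ≫ rootChar D c)
    have h1 : cell R.i R.pp pm y' (e ≫ τ) x' * (t ≫ R.i) =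
        cell R.i R.pp pm y' ((e ≫ τ) * t) (((k⁻¹ : (Γ(X'.left, ⊤))ˣ) : Γ(X'.left, ⊤)) * x') := by
      have hc := RankOne.conj_P E t (((k⁻¹ : (Γ(X'.left, ⊤))ˣ) : Γ(X'.left, ⊤)) * x')
      rw [Units.mul_inv_cancel_left] at hc
      rw [cell, cell, MonObj.mul_comp, ← hc]
      group
    have h2 : (t' ≫ R.i) * cell R.i R.pp pm y' (e ≫ τ) x' =
        cell R.i R.pp pm (((k'⁻¹ : (Γ(X'.left, ⊤))ˣ) : Γ(X'.left, ⊤)) * y') (t' * (e ≫ τ)) x' := by
      rw [cell, cell, MonObj.mul_comp, ← RankOne.conj_M E t']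
      group
    rw [h1, h2] at ht
    obtain ⟨e1, e2, e3⟩ := RankOne16.cell_inj hΩ ht
    have : t = t' := by rw [torus_comm D _ t] at e2; exact mul_right_cancel e2
    subst this
    have hk : rt D t c = (k : Γ(X'.left, ⊤)) := rfl
    rw [hk]
    exact ⟨by nth_rw 1 [e1]; exact Units.mul_inv_cancel_left k y', by nth_rw 1 [← e3]; exact Units.mul_inv_cancel_left k x'⟩
  rw [eq_zero_of_fixed D c y fun X' e t => (key X' e t).1, eq_zero_of_fixed D c x fun X' e t => (key X' e t).2,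
    cell, RankOne.P_zero, RankOne.P_zero, _root_.one_mul, _root_.mul_one]

/-- The reflection point conjugates the characters. -/
theorem exists_refl_pt' : ∃ n : 𝟙_ (Over S) ⟶ G, ∀ (X : Over S) (t : X ⟶ D.T), ∃ t' : X ⟶ D.T,
    (toUnit X ≫ n) * (t ≫ D.i) * (toUnit X ≫ n)⁻¹ = t' ≫ D.i ∧ ∀ m : D.M,
      (chars D).ch t' (Multiplicative.ofAdd m) =
        (chars D).ch t (Multiplicative.ofAdd (m - co D c m • D.P.root c)) := by
  obtain ⟨n, hn⟩ := D.refl c
  refine ⟨n, fun X t => ⟨t ≫ D.split.hom.hom.hom ≫ Red.DSmap S (D.P.reflection c).toLinearMap.toAddMonoidHom ≫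
    D.split.inv.hom.hom, by rw [hn X t]; simp only [Category.assoc], fun m => ?_⟩⟩
  have e : D.split.inv.hom.hom ≫ D.split.hom.hom.hom = 𝟙 _ := congrArg (fun f => f.hom.hom) D.split.inv_hom_id
  show (charsDS S D.M).ch ((t ≫ D.split.hom.hom.hom ≫ Red.DSmap S (D.P.reflection c).toLinearMap.toAddMonoidHom ≫
    D.split.inv.hom.hom) ≫ D.split.hom.hom.hom) _ = _
  simp only [Category.assoc, e, Category.comp_id]
  rw [← Category.assoc, DSmap_ch]
  show (charsDS S D.M).ch (t ≫ D.split.hom.hom.hom) (Multiplicative.ofAdd (D.P.reflection c m)) = _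
  rw [RootPairing.reflection_apply, show D.P.coroot' c m = co D c m by
    show D.P.toLinearMap m (D.P.coroot c) = _
    rw [D.pairing_eq]
    rfl]
  rfl

theorem rt_refl {X : Over S} (t t' : X ⟶ D.T) (h : ∀ m : D.M, (chars D).ch t' (Multiplicative.ofAdd m) =
    (chars D).ch t (Multiplicative.ofAdd (m - co D c m • D.P.root c))) : rt D t' c * rt D t c = 1 := by
  rw [rt_eq_ch, rt_eq_ch, h, ← map_mul, ← ofAdd_add, co_self]
  rw [show D.P.root c - (2 : ℤ) • D.P.root c + D.P.root c = 0 by rw [two_zsmul]; abel, ofAdd_zero, map_one]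

/-- The reflection point lies in the rank one subgroup. -/
theorem RootSub.exists_refl : ∃ nz : 𝟙_ (Over S) ⟶ R.Z, ∀ (X : Over S) (t : X ⟶ D.T), ∃ t' : X ⟶ D.T,
    (toUnit X ≫ nz) * (t ≫ R.i) * (toUnit X ≫ nz)⁻¹ = t' ≫ R.i ∧ ∀ m : D.M,
      (chars D).ch t' (Multiplicative.ofAdd m) =
        (chars D).ch t (Multiplicative.ofAdd (m - co D c m • D.P.root c)) := by
  haveI := D.maximalTorus.1
  haveI := R.cent.1
  haveI := R.cent.2.1
  obtain ⟨n, hn⟩ := exists_refl_pt' D c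
  obtain ⟨nz, hnz⟩ := (R.cent.2.2 _ n).2 fun X' e h => by
    obtain ⟨t', h1, h2⟩ := hn X' (h ≫ MTRigid29.mapChS (charsDS S (singM D c)) (chars D) (singRes D c))
    have e1 : e = toUnit X' := Subsingleton.elim _ _
    rw [e1, singMap, ← Category.assoc h, ← mul_inv_eq_iff_eq_mul, h1]
    congr 1
    refine (chars D).inj fun w => ?_
    rw [show w = Multiplicative.ofAdd w.toAdd from rfl, h2, ch_sing, ch_sing]
    congr 2
    apply Subtype.ext
    show proj D c (w.toAdd - co D c w.toAdd • D.P.root c) = proj D c w.toAdd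
    rw [map_sub, map_zsmul, proj_root, smul_zero, sub_zero]
  refine ⟨nz, fun X t => ?_⟩
  obtain ⟨t', h1, h2⟩ := hn X t
  refine ⟨t', (cancel_mono R.z).1 ?_, h2⟩
  rw [MonObj.mul_comp, MonObj.mul_comp, GrpObj.inv_comp, Category.assoc, Category.assoc, Category.assoc, R.i_z, hnz]

  exact h1

/-- The root groups of `±c` do not commute on any geometric fibre. -/
theorem RootSub.not_commute (s : S) : ¬ ∀ (X : Over S) (_ : X ⟶ RankOne16.sp (Red.geomPt s)) (u v : Γ(X.left, ⊤)),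
    P R.pp u * P R.pm v = P R.pm v * P R.pp u := by
  intro hcomm
  have K := R.cellular
  haveI := K.hom_i
  haveI := K.hom_pp
  haveI := K.hom_pm
  obtain ⟨nz, hnz⟩ := R.exists_refl
  let Y := kPt (Red.geomPt s)
  have hY : ∀ a b : Γ(Y.left, ⊤), P R.pp a * P R.pm b = P R.pm b * P R.pp a := hcomm Y (𝟙 _)
  obtain ⟨a, b, a', b', t, t', h⟩ := RankOne16.exists_pt_cells K.hΩ R.rig (toUnit Y ≫ nz)
  obtain ⟨e, he⟩ : ∃ e, (t'⁻¹ ≫ R.i) * P R.pm (-a') = P R.pm e * (t'⁻¹ ≫ R.i) :=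
    ⟨_, by rw [← RankOne16.conjM K.hpm t'⁻¹ (-a'), inv_mul_cancel_right]⟩
  obtain ⟨e', he'⟩ : ∃ e', (t ≫ R.i) * P R.pm e = P R.pm e' * (t ≫ R.i) :=
    ⟨_, by rw [← RankOne16.conjM K.hpm t e, inv_mul_cancel_right]⟩
  obtain ⟨d, hd⟩ : ∃ d, P R.pp (b + -b') * (t'⁻¹ ≫ R.i) = (t'⁻¹ ≫ R.i) * P R.pp d :=
    ⟨_, by rw [← RankOne16.conjP K.hpp t' (b + -b'), GrpObj.inv_comp]; simp [_root_.mul_assoc]⟩
  have key : toUnit Y ≫ nz = cell R.i R.pp R.pm (a + e') (t * t'⁻¹) d := by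
    rw [h, cell, cell, cell, _root_.mul_inv_rev, _root_.mul_inv_rev, ← RankOne.P_neg, ← RankOne.P_neg,
      ← GrpObj.inv_comp]
    calc _ = P R.pm a * (t ≫ R.i) * P R.pp (b + -b') * ((t'⁻¹ ≫ R.i) * P R.pm (-a')) := by
          rw [RankOne.P_add]; simp only [_root_.mul_assoc]
      _ = P R.pm a * (t ≫ R.i) * (P R.pp (b + -b') * P R.pm e) * (t'⁻¹ ≫ R.i) := by
          rw [he]; simp only [_root_.mul_assoc]
      _ = P R.pm a * ((t ≫ R.i) * P R.pm e) * (P R.pp (b + -b') * (t'⁻¹ ≫ R.i)) := by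
          rw [hY]; simp only [_root_.mul_assoc]
      _ = _ := by
          rw [he', hd, RankOne.P_add, MonObj.mul_comp]; simp only [_root_.mul_assoc]
  set y := a + e'
  set τ := t * t'⁻¹
  have hy : ∀ (X' : Over S) (g : X' ⟶ Y) (u : X' ⟶ D.T), ∃ u' : X' ⟶ D.T,
      (g ≫ cell R.i R.pp R.pm y τ d) * (u ≫ R.i) = (u' ≫ R.i) * (g ≫ cell R.i R.pp R.pm y τ d) ∧
        rt D u' c * rt D u c = 1 := fun X' g u => by
    obtain ⟨u', h1, h2⟩ := hnz X' u
    refine ⟨u', ?_, rt_refl D c u u' h2⟩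
    rw [← key, ← Category.assoc, Subsingleton.elim (g ≫ toUnit Y) (toUnit X')]
    exact mul_inv_eq_iff_eq_mul.1 h1
  obtain ⟨v, hv⟩ := RankOne16.exists_zpow_ne_one (K := AlgebraicClosure (S.residueField s)) (Red.geomPt s) 4 (by norm_num)
  obtain ⟨u, hu⟩ := exists_tor D (co D c) v
  obtain ⟨u', h1, h2⟩ := hy Y (𝟙 Y) u
  have hru : rt D u c = (v : Γ(Y.left, ⊤)) ^ 2 := rt_exists_tor D (co D c) v u hu c 2 (co_self D c)
  -- compare torus components
  rw [Category.id_comp] at h1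
  set k := GmPts.unitOfPt (u ≫ rootChar D c)
  set k' := GmPts.unitOfPt (u' ≫ rootChar D c)
  have h3 : cell R.i R.pp R.pm y τ d * (u ≫ R.i) =
      cell R.i R.pp R.pm y (τ * u) (((k⁻¹ : (Γ(Y.left, ⊤))ˣ) : Γ(Y.left, ⊤)) * d) := by
    have hc := RankOne16.conjP K.hpp u (((k⁻¹ : (Γ(Y.left, ⊤))ˣ) : Γ(Y.left, ⊤)) * d)
    rw [Units.mul_inv_cancel_left] at hc
    rw [cell, cell, MonObj.mul_comp τ, ← hc]
    group
  have h4 : (u' ≫ R.i) * cell R.i R.pp R.pm y τ d =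
      cell R.i R.pp R.pm (((k'⁻¹ : (Γ(Y.left, ⊤))ˣ) : Γ(Y.left, ⊤)) * y) (u' * τ) d := by
    rw [cell, cell, MonObj.mul_comp u', ← RankOne16.conjM K.hpm u']
    group
  rw [h3, h4] at h1
  obtain ⟨-, e2, -⟩ := RankOne16.cell_inj K.hΩ h1
  rw [torus_comm D _ u] at e2
  rw [← mul_right_cancel e2, hru] at h2
  refine hv ?_
  rw [show (4 : ℤ) = ((4 : ℕ) : ℤ) from rfl, zpow_natCast]
  refine Units.ext ?_
  rw [Units.val_pow_eq_pow_val, Units.val_one, ← h2]
  ring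

set_option maxHeartbeats 800000 in
/-- **Every root has a dual root group, with the coroot as cocharacter.** -/
theorem exists_dual [D.P.IsReduced] : ∃ (vd : Red.Ga S ⟶ G) (cu : ∀ X : Over S, (Γ(X.left, ⊤))ˣ),
    (∀ (X X' : Over S) (g : X' ⟶ X), Units.map g.left.appTop.hom.toMonoidHom (cu X) = cu X') ∧
    (∀ (X : Over S) (y : Γ(X.left, ⊤)), P vd y = P (D.u (D.P.reflectionPerm c c)) ((cu X : Γ(X.left, ⊤)) * y)) ∧
    RankOne.Datum D.i (rootChar D c) (D.u c) vd (coChar D c) := by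
  haveI := D.maximalTorus.1
  haveI := (D.rootHom c).1
  haveI := (D.rootHom (D.P.reflectionPerm c c)).1
  obtain ⟨R⟩ := nonempty_rootSub D c
  haveI := R.cent.1
  haveI := R.cent.2.1
  have K := R.cellular
  haveI := K.hom_i
  haveI := K.hom_pp
  haveI := K.hom_pm
  obtain ⟨a, av, hc, hav, hsq, -, hco⟩ := K.exists_rule R.not_commute
  let c₁ : 𝟙_ (Over S) ⟶ Red.Gm S := (GmPts.ptOfUnit (a _))⁻¹
  let σ := RankOne16.scale c₁
  have hσ : ∀ {X : Over S} (y : X ⟶ Red.Ga S),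
      Red.gaFn (y ≫ σ) = (((a X)⁻¹ : (Γ(X.left, ⊤))ˣ) : Γ(X.left, ⊤)) * Red.gaFn y := fun {X} y => by
    rw [RankOne16.gaFn_scale, RankOne16.cU_inv, RankOne16.cU, GmPts.ptOfUnit_comp, GmPts.unitOfPt_ptOfUnit]
    rw [show Units.map (toUnit X).left.appTop.hom.toMonoidHom (a _) = a X from hc _ X (toUnit X)]
  haveI : IsMonHom σ := TorsorSch25.isMonHom_of_points σ fun X x y => GaPts.gaFn_injective
    (show Red.gaFn ((x * y) ≫ σ) = Red.gaFn (x ≫ σ * (y ≫ σ)) by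
      rw [GaPts.gaFn_mul, hσ, hσ, hσ, GaPts.gaFn_mul, mul_add])
  let pm := σ ≫ R.pm
  have hP : ∀ {X : Over S} (y : Γ(X.left, ⊤)), P pm y = P R.pm ((((a X)⁻¹ : (Γ(X.left, ⊤))ˣ) : Γ(X.left, ⊤)) * y) :=
    fun {X} y => by
      show GaPts.ptOfFn y ≫ σ ≫ R.pm = _
      rw [← Category.assoc, RankOne.comp_eq_P, hσ, GaPts.gaFn_ptOfFn]
  have E : RankOne.Datum R.i (rootChar D c) R.pp pm av := by
    refine ⟨inferInstance, inferInstance, inferInstance, hav, K.hpp, fun X t y => ?_, ?_, fun X x y hu => ?_⟩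
    · obtain ⟨y', h1, h2⟩ := K.hpm X t (y ≫ σ)
      refine ⟨GaPts.ptOfFn ((a X : Γ(X.left, ⊤)) * Red.gaFn y'), ?_, ?_⟩
      · rw [← Category.assoc, ← Category.assoc, ← h1]
        congr 1
        apply GaPts.gaFn_injective
        show Red.gaFn _ = Red.gaFn _
        rw [hσ, GaPts.gaFn_ptOfFn, Units.inv_mul_cancel_left]
      · rw [GaPts.gaFn_ptOfFn, _root_.mul_assoc, h2, hσ, Units.mul_inv_cancel_left]
    · apply (GmPts.equiv _).injective
      show GmPts.unitOfPt (av ≫ rootChar D c) = GmPts.unitOfPt ((𝟙 (Red.Gm S)) ^ 2)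
      have h1 := hsq _ (GmPts.unitOfPt (𝟙 (Red.Gm S)))
      rw [GmPts.ptOfUnit_unitOfPt, Category.id_comp] at h1
      rw [h1, pow_two, GmPts.unitOfPt_mul]
    · obtain ⟨z, hz⟩ := hu
      have hz' : (z : Γ(X.left, ⊤)) = 1 + (a X : Γ(X.left, ⊤)) * Red.gaFn x * Red.gaFn (y ≫ σ) := by
        rw [hz, hσ, mul_right_comm, Units.mul_inv_cancel_left, mul_comm (Red.gaFn y)]
      refine ⟨GaPts.ptOfFn (Red.gaFn x * ((z⁻¹ : (Γ(X.left, ⊤))ˣ) : Γ(X.left, ⊤))),
        GaPts.ptOfFn (Red.gaFn y * ((z⁻¹ : (Γ(X.left, ⊤))ˣ) : Γ(X.left, ⊤))), GmPts.ptOfUnit z,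
        by rw [GmPts.gmFn_ptOfUnit, hz],
        by rw [GaPts.gaFn_ptOfFn, GmPts.gmFn_ptOfUnit, Units.inv_mul_cancel_right],
        by rw [GaPts.gaFn_ptOfFn, GmPts.gmFn_ptOfUnit, Units.inv_mul_cancel_right], ?_⟩
      have h := hco X _ _ z hz'
      rw [RankOne16.Co, cell] at h
      rw [RankOne.comp_eq_P R.pp x, RankOne.comp_eq_P pm y, hP, ← hσ, h]
      show _ = P pm _ * _ * _
      rw [hP, hσ, _root_.mul_assoc (((a X)⁻¹ : (Γ(X.left, ⊤))ˣ) : Γ(X.left, ⊤)), Category.assoc]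
      rfl
  have hΩ : IsOpenImmersion (RankOne16.cellMap R.i R.pp pm).left := by
    haveI := K.hΩ
    haveI : IsIso σ := RankOne16.isIso_scale c₁
    let e : (Red.Ga S ⊗ D.T) ⊗ Red.Ga S ⟶ (Red.Ga S ⊗ D.T) ⊗ Red.Ga S := (σ ⊗ₘ 𝟙 _) ⊗ₘ (𝟙 _)
    haveI : IsIso e := inferInstance
    haveI : IsIso e.left := ((Over.forget _).mapIso (asIso e)).isIso_hom
    have he : RankOne16.cellMap R.i R.pp pm = e ≫ RankOne16.cellMap R.i R.pp R.pm := by
      show ((σ ≫ R.pm ⊗ₘ R.i) ⊗ₘ R.pp) ≫ _ = ((σ ⊗ₘ 𝟙 _) ⊗ₘ (𝟙 _)) ≫ ((R.pm ⊗ₘ R.i) ⊗ₘ R.pp) ≫ _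
      rw [← Category.assoc (((σ ⊗ₘ 𝟙 _) ⊗ₘ (𝟙 _))), MonoidalCategory.tensorHom_comp_tensorHom,
        MonoidalCategory.tensorHom_comp_tensorHom, Category.id_comp, Category.id_comp]
    rw [he, Over.comp_left]
    infer_instance
  haveI := E.hom_pm
  haveI := E.hom_av
  have hT := D.maximalTorus.2.2.1
  obtain ⟨nz, hnz⟩ := R.exists_refl
  -- the reflection point is the Weyl element up to the torus
  let g : 𝟙_ (Over S) ⟶ R.Z := (W R.pp pm)⁻¹ * nz
  have hgconj : ∀ (X : Over S) (e : X ⟶ 𝟙_ (Over S)) (t : X ⟶ D.T), ∃ t' : X ⟶ D.T,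
      (e ≫ g) * (t ≫ R.i) = (t' ≫ R.i) * (e ≫ g) ∧ rt D t' c = rt D t c ∧ ∀ t₁ : X ⟶ D.T,
      ((∀ m : D.M, (chars D).ch t₁ (Multiplicative.ofAdd m) =
        (chars D).ch t (Multiplicative.ofAdd (m - co D c m • D.P.root c))) →
      t' = (GmPts.ptOfUnit (GmPts.unitOfPt (t₁ ≫ rootChar D c)) ≫ av)⁻¹ * t₁) := fun X e t => by
    obtain ⟨t₁, h1, h2⟩ := hnz X t
    let t' := (GmPts.ptOfUnit (GmPts.unitOfPt (t₁ ≫ rootChar D c)) ≫ av)⁻¹ * t₁
    have hW2 : Commute (W R.pp pm * (W R.pp pm : X ⟶ R.Z)) (t₁ ≫ R.i) := by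
      show _ * _ = _ * _
      rw [RankOne16.W_mul_W E, A, ← Category.assoc, ← MonObj.mul_comp, ← MonObj.mul_comp, torus_comm]
    have h3 : (W R.pp pm)⁻¹ * (t₁ ≫ R.i) * (W R.pp pm : X ⟶ R.Z) = t' ≫ R.i := by
      have h4 := RankOne16.W_conj_T E t₁
      rw [show t' ≫ R.i = (A R.i av (GmPts.unitOfPt (t₁ ≫ rootChar D c)))⁻¹ * (t₁ ≫ R.i) by
        rw [MonObj.mul_comp, GrpObj.inv_comp, A, Category.assoc], ← h4]
      calc _ = (W R.pp pm)⁻¹ * ((t₁ ≫ R.i) * (W R.pp pm * W R.pp pm)) * (W R.pp pm : X ⟶ R.Z)⁻¹ := by group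
        _ = (W R.pp pm)⁻¹ * ((W R.pp pm * W R.pp pm) * (t₁ ≫ R.i)) * (W R.pp pm : X ⟶ R.Z)⁻¹ := by rw [hW2.eq]
        _ = _ := by group
    refine ⟨t', ?_, ?_, fun t₂ h => ?_⟩
    · rw [← mul_inv_eq_iff_eq_mul, ← h3, ← h1, Subsingleton.elim e (toUnit X)]
      simp only [g, MonObj.comp_mul, GrpObj.comp_inv, RankOne16.comp_W]
      group
    · have hr := rt_refl D c t t₁ h2
      have e1 : rt D t₁ c = (GmPts.unitOfPt (t₁ ≫ rootChar D c) : Γ(X.left, ⊤)) := rfl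
      set w := GmPts.unitOfPt (t₁ ≫ rootChar D c)
      have e2 : rt D ((GmPts.ptOfUnit w ≫ av)⁻¹) c * ((w * w : (Γ(X.left, ⊤))ˣ) : Γ(X.left, ⊤)) = 1 := by
        rw [← RankOne.unitOfPt_av E w]
        show rt D _ c * rt D (GmPts.ptOfUnit w ≫ av) c = 1
        rw [rt_eq_ch, rt_eq_ch, ← (chars D).mul, inv_mul_cancel, (chars D).one]
      show rt D ((GmPts.ptOfUnit w ≫ av)⁻¹ * t₁) c = _
      rw [rt_eq_ch, (chars D).mul, ← rt_eq_ch, ← rt_eq_ch]
      rw [Units.val_mul] at e2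
      rw [e1] at hr ⊢
      linear_combination (rt D t c) * e2 - (rt D ((GmPts.ptOfUnit w ≫ av)⁻¹) c * (w : Γ(X.left, ⊤))) * hr
    · have : t₂ = t₁ := (chars D).inj fun m => by
        rw [show m = Multiplicative.ofAdd m.toAdd from rfl, h, h2]
      rw [this]
  have hgin : RankOne16.InCell (i := R.i) (pp := R.pp) (pm := pm) g := RankOne16.inCell_of_geom g fun p => by
    let Y := kPt (Red.geomPt p ≫ (𝟙_ (Over S)).hom)
    rcases RankOne16.bruhat E hΩ R.rig (geomHom p ≫ g) with ⟨t, x, h⟩ | ⟨x, t, x', h⟩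
    · rw [show (t ≫ R.i) * P R.pp x = cell R.i R.pp pm 0 t x by rw [cell, RankOne.P_zero, _root_.one_mul]] at h
      rw [h]
      exact RankOne16.inCell_cell _ _ _
    exfalso
    obtain ⟨v, hv⟩ := RankOne16.exists_zpow_ne_one (K := AlgebraicClosure ((𝟙_ (Over S)).left.residueField p))
      (Red.geomPt p ≫ (𝟙_ (Over S)).hom) 4 (by norm_num)
    obtain ⟨s, hs⟩ := exists_tor D (co D c) v
    obtain ⟨s', h1, h2, -⟩ := hgconj Y (geomHom p) s
    rw [h] at h1
    have hrs : rt D s c = (v : Γ(Y.left, ⊤)) ^ 2 := rt_exists_tor D (co D c) v s hs c 2 (co_self D c)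
    set k := GmPts.unitOfPt (s ≫ rootChar D c)
    set k' := GmPts.unitOfPt (s' ≫ rootChar D c)
    set sW : Y ⟶ D.T := (GmPts.ptOfUnit k ≫ av)⁻¹ * s
    have hsW : W R.pp pm * (s ≫ R.i) = (sW ≫ R.i) * (W R.pp pm : Y ⟶ R.Z) := by
      rw [← mul_inv_eq_iff_eq_mul, RankOne16.W_conj_T E s]; simp only [sW, k, MonObj.mul_comp, GrpObj.inv_comp, A, Category.assoc]
    have hPs : P R.pp x' * (s ≫ R.i) = (s ≫ R.i) * P R.pp (((k⁻¹ : (Γ(Y.left, ⊤))ˣ) : Γ(Y.left, ⊤)) * x') := by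
      have hc := RankOne.conj_P E s (((k⁻¹ : (Γ(Y.left, ⊤))ˣ) : Γ(Y.left, ⊤)) * x')
      rw [Units.mul_inv_cancel_left] at hc
      rw [← hc]; group
    have hPs' : (s' ≫ R.i) * P R.pp x = P R.pp ((k' : Γ(Y.left, ⊤)) * x) * (s' ≫ R.i) := by
      rw [← RankOne.conj_P E s' x]; group
    have hWP : ∀ z, W R.pp pm * P R.pp z = P pm (-z) * (W R.pp pm : Y ⟶ R.Z) := fun z => by
      rw [← RankOne16.W_conj_P E z]; group
    set z' := ((k⁻¹ : (Γ(Y.left, ⊤))ˣ) : Γ(Y.left, ⊤)) * x'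
    have lhs : P R.pp x * (t ≫ R.i) * W R.pp pm * P R.pp x' * (s ≫ R.i) =
        P R.pp x * ((t * sW) ≫ R.i) * P pm (-z') * W R.pp pm := by
      rw [MonObj.mul_comp]
      calc _ = P R.pp x * (t ≫ R.i) * (W R.pp pm * (s ≫ R.i)) * P R.pp z' := by
            rw [_root_.mul_assoc (P R.pp x * (t ≫ R.i) * W R.pp pm) (P R.pp x'), hPs]; simp only [_root_.mul_assoc]
        _ = P R.pp x * (t ≫ R.i) * (sW ≫ R.i) * (W R.pp pm * P R.pp z') := by
            rw [hsW]; simp only [_root_.mul_assoc]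
        _ = _ := by rw [hWP]; simp only [_root_.mul_assoc]
    have rhs : (s' ≫ R.i) * (P R.pp x * (t ≫ R.i) * W R.pp pm * P R.pp x') =
        P R.pp ((k' : Γ(Y.left, ⊤)) * x) * ((s' * t) ≫ R.i) * P pm (-x') * W R.pp pm := by
      rw [MonObj.mul_comp]
      calc _ = ((s' ≫ R.i) * P R.pp x) * (t ≫ R.i) * (W R.pp pm * P R.pp x') := by simp only [_root_.mul_assoc]
        _ = _ := by rw [hPs', hWP]; simp only [_root_.mul_assoc]
    rw [lhs, rhs] at h1
    have h3 := congrArg (fun q => q⁻¹) (mul_right_cancel h1)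
    simp only [_root_.mul_inv_rev, ← RankOne.P_neg, ← GrpObj.inv_comp] at h3
    rw [← _root_.mul_assoc, ← _root_.mul_assoc] at h3
    obtain ⟨-, e2, -⟩ := RankOne16.cell_inj hΩ h3
    rw [torus_comm D t⁻¹, mul_left_inj, inv_inj] at e2
    have e3 : rt D sW c * rt D s c = 1 := by
      have hav' : ((k * k : (Γ(Y.left, ⊤))ˣ) : Γ(Y.left, ⊤)) = rt D (GmPts.ptOfUnit k ≫ av) c := by
        rw [← RankOne.unitOfPt_av E k]; rfl
      have e4 : rt D ((GmPts.ptOfUnit k ≫ av)⁻¹) c * rt D (GmPts.ptOfUnit k ≫ av) c = 1 := by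
        rw [rt_eq_ch, rt_eq_ch, ← (chars D).mul, inv_mul_cancel, (chars D).one]
      have hk : rt D s c = (k : Γ(Y.left, ⊤)) := rfl
      rw [rt_eq_ch, (chars D).mul, ← rt_eq_ch, ← rt_eq_ch]
      rw [← hav', Units.val_mul] at e4
      rw [hk]
      linear_combination e4
    rw [e2, h2, hrs] at e3
    refine hv ?_
    rw [show (4 : ℤ) = ((4 : ℕ) : ℤ) from rfl, zpow_natCast]
    refine Units.ext ?_
    rw [Units.val_pow_eq_pow_val, Units.val_one, ← e3]
    ring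
  obtain ⟨y, τ, x, hg⟩ : ∃ y τ x, g = cell R.i R.pp pm y τ x := by
    haveI := hΩ
    exact RankOne16.exists_cell hΩ g hgin
  have hgT : g = τ ≫ R.i := by
    rw [hg]
    refine R.eq_torus_of_normalize D c E hΩ y τ x fun X e t => ?_
    obtain ⟨t', h1, -⟩ := hgconj X e t
    exact ⟨t', by rw [← hg]; exact h1⟩
  have hav_eq : av = coChar D c := by
    suffices H : ∀ (X : Over S) (w : (Γ(X.left, ⊤))ˣ), GmPts.ptOfUnit w ≫ av = GmPts.ptOfUnit w ≫ coChar D c by
      have h := H _ (GmPts.unitOfPt (𝟙 (Red.Gm S)))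
      rwa [GmPts.ptOfUnit_unitOfPt, Category.id_comp, Category.id_comp] at h
    intro X w
    obtain ⟨X', e, v, he, hv⟩ := exists_unit_root w 2 two_ne_zero
    haveI := he
    rw [← cancel_epi e, ← Category.assoc, ← Category.assoc, GmPts.ptOfUnit_comp]
    have hw : Units.map e.left.appTop.hom.toMonoidHom w = v ^ 2 := Units.ext (by rw [Units.val_pow_eq_pow_val]; exact hv)
    rw [hw]
    obtain ⟨t₁, ht₁⟩ := exists_tor D (co D c) v
    obtain ⟨t, ht⟩ := (chars D).surj (T := X') (((chars D).ch t₁).comp (AddMonoidHom.toMultiplicative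
      (D.P.reflection c).toLinearMap.toAddMonoidHom))
    have hts : ∀ m : D.M, (chars D).ch t₁ (Multiplicative.ofAdd m) =
        (chars D).ch t (Multiplicative.ofAdd (m - co D c m • D.P.root c)) := fun m => by
      rw [ht]
      show _ = (chars D).ch t₁ (Multiplicative.ofAdd (D.P.reflection c (m - co D c m • D.P.root c)))
      congr 2
      have hr : ∀ m, D.P.reflection c m = m - co D c m • D.P.root c := fun m => by
        rw [RootPairing.reflection_apply]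
        congr 2
        show D.P.toLinearMap m (D.P.coroot c) = _
        rw [D.pairing_eq]
        rfl
      rw [hr, map_sub, map_zsmul, co_self, smul_eq_mul, sub_smul]
      rw [mul_smul, two_zsmul, smul_add]
      abel
    obtain ⟨t', h1, -, h3⟩ := hgconj X' (toUnit X') t
    rw [hgT, ← Category.assoc, ← MonObj.mul_comp, ← MonObj.mul_comp] at h1
    have htt : t' = t := by
      have hmono : Mono R.i := by
        haveI := D.maximalTorus.2.1
        exact mono_of_mono_fac R.i_z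
      have := (cancel_mono R.i).1 h1
      rw [torus_comm D _ t] at this
      exact (mul_right_cancel this).symm
    have h4 := h3 t₁ hts
    rw [htt] at h4
    have hk : GmPts.unitOfPt (t₁ ≫ rootChar D c) = v ^ 2 := Units.ext (by
      rw [Units.val_pow_eq_pow_val]; exact rt_exists_tor D (co D c) v t₁ ht₁ c 2 (co_self D c))
    rw [hk, eq_inv_mul_iff_mul_eq] at h4
    refine (chars D).inj fun m => ?_
    have h5 := congrArg (fun q => (chars D).ch q m) h4
    simp only [(chars D).mul] at h5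
    rw [show m = Multiplicative.ofAdd m.toAdd from rfl] at h5 ⊢
    rw [ch_coChar, GmPts.unitOfPt_ptOfUnit]
    have hinv : ∀ z : D.M, (chars D).ch t₁ (Multiplicative.ofAdd z) = ((v ^ co D c z : (Γ(X'.left, ⊤))ˣ) : Γ(X'.left, ⊤)) :=
      fun z => ht₁ z
    have ht' : (chars D).ch t (Multiplicative.ofAdd m.toAdd) = ((v ^ (-co D c m.toAdd) : (Γ(X'.left, ⊤))ˣ) : Γ(X'.left, ⊤)) := by
      rw [ht]
      show (chars D).ch t₁ (Multiplicative.ofAdd (D.P.reflection c m.toAdd)) = _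
      rw [RootPairing.reflection_apply, show D.P.coroot' c m.toAdd = co D c m.toAdd by
        show D.P.toLinearMap m.toAdd (D.P.coroot c) = _; rw [D.pairing_eq]; rfl, hinv, map_sub, map_zsmul, co_self]
      congr 2
      simp; ring
    rw [ht', hinv] at h5
    rw [(Units.eq_mul_inv_iff_mul_eq _).2 h5]
    rw [← Units.val_mul, ← zpow_neg, neg_neg, ← zpow_add, ← zpow_natCast, ← zpow_mul]
    congr 2
    push_cast
    ring
  refine ⟨pm ≫ R.z, fun X => (a X)⁻¹, fun X X' g => by rw [map_inv, hc], fun X y => ?_, ?_⟩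
  · show GaPts.ptOfFn y ≫ pm ≫ R.z = _
    rw [← Category.assoc]
    show P pm y ≫ R.z = _
    rw [hP, RankOne.P, Category.assoc, R.pm_z]
    rfl
  · subst hav_eq
    refine ⟨inferInstance, inferInstance, inferInstance, inferInstance, fun X t x => (D.rootHom c).2.2 X t x,
      fun X t y => ?_, E.h2, fun X x y hu => ?_⟩
    · obtain ⟨y', h1, h2⟩ := E.hpm X t y
      refine ⟨y', ?_, h2⟩
      have h := congrArg (fun q => q ≫ R.z) h1
      simpa only [MonObj.mul_comp, GrpObj.inv_comp, Category.assoc, R.i_z] using h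
    · obtain ⟨x', y', z, h1, h2, h3, h4⟩ := E.hF X x y hu
      refine ⟨x', y', z, h1, h2, h3, ?_⟩
      have h := congrArg (fun q => q ≫ R.z) h4
      simpa only [MonObj.mul_comp, Category.assoc, R.i_z, R.pp_z] using h

end Groth.Agent.RedCell16
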