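import Groth.Agent.Lib.RedCell16.Dual
import Mathlib.Algebra.Polynomial.Laurent

/-!
# A root group has at most one dual

If `vd` and `vd₀` are both dual to `v`, then `d(y) = vd(y) vd₀(y)⁻¹` satisfies
`d(y / (1 + x y)) = v(x) d(y) v(-x)`; it is then a morphism of the affine line extending to the projective line.
-/

set_option autoImplicit false
set_option linter.style.haveILetI false
set_option linter.unusedSimpArgs false
set_option backward.isDefEq.respectTransparency false
set_option backward.isDefEq.respectTransparency.types false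

universe u

open CategoryTheory CategoryTheory.Limits MonoidalCategory CartesianMonoidalCategory MonObj AlgebraicGeometry

noncomputable section

namespace Groth.Agent.RedCell16

open RankOne (P A)
open RankOne16 (fn spMap spMap_fn sp)

theorem eq_C_of_laurent {R : Type u} [CommRing R] (f g : Polynomial R)
    (h : Polynomial.toLaurent f = LaurentPolynomial.invert (Polynomial.toLaurent g)) :
    f = Polynomial.C (f.eval 0) := by
  have key : ∀ g : Polynomial R, LaurentPolynomial.trunc (LaurentPolynomial.invert (Polynomial.toLaurent g)) =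
      Polynomial.C (g.coeff 0) := fun g => by
    induction g using Polynomial.induction_on' with
    | add p q hp hq => rw [map_add, map_add, map_add, hp, hq, Polynomial.coeff_add, map_add]
    | monomial n r =>
      rw [Polynomial.toLaurent_C_mul_T, map_mul, LaurentPolynomial.invert_T, LaurentPolynomial.invert_C,
        LaurentPolynomial.trunc_C_mul_T]
      rcases Nat.eq_zero_or_pos n with rfl | hn
      · simp
      · rw [if_neg (by omega), Polynomial.coeff_monomial, if_neg (by omega), map_zero]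
  have h2 := congrArg LaurentPolynomial.trunc h
  rw [LaurentPolynomial.leftInverse_trunc_toLaurent, key] at h2
  rw [h2, Polynomial.eval_C]

variable {S : Scheme.{u}}

/-- A morphism of the affine line into an affine `S`-scheme which extends to infinity is constant. -/
theorem const_of_laurent {G : Over S} (hG : IsAffineHom G.hom) {R : Type u} [CommRing R]
    (φ : Spec (CommRingCat.of R) ⟶ S)
    (q p : sp (Spec.map (CommRingCat.ofHom (Polynomial.C : R →+* Polynomial R)) ≫ φ) ⟶ G)
    (h : Spec.map (CommRingCat.ofHom (Polynomial.toLaurent : Polynomial R →+* LaurentPolynomial R)) ≫ q.left =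
      Spec.map (CommRingCat.ofHom ((LaurentPolynomial.invert (R := R) : LaurentPolynomial R →+* LaurentPolynomial R).comp
        Polynomial.toLaurent)) ≫ p.left) :
    q.left = Spec.map (CommRingCat.ofHom Polynomial.C) ≫ Spec.map (CommRingCat.ofHom (Polynomial.evalRingHom (0 : R))) ≫ q.left := by
  haveI := hG
  let C' := Spec.map (CommRingCat.ofHom (Polynomial.C : R →+* Polynomial R))
  let Y := pullback φ G.hom
  haveI : IsAffine Y := isAffine_of_isAffineHom (pullback.fst φ G.hom)
  let qY : Spec (CommRingCat.of (Polynomial R)) ⟶ Y := pullback.lift C' q.left (Over.w q).symm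
  let pY : Spec (CommRingCat.of (Polynomial R)) ⟶ Y := pullback.lift C' p.left (Over.w p).symm
  let L1 := Spec.map (CommRingCat.ofHom (Polynomial.toLaurent : Polynomial R →+* LaurentPolynomial R))
  let L2 := Spec.map (CommRingCat.ofHom ((LaurentPolynomial.invert (R := R) : LaurentPolynomial R →+* LaurentPolynomial R).comp
        Polynomial.toLaurent))
  have hC : L1 ≫ C' = L2 ≫ C' := by
    simp only [L1, L2, C', ← Spec.map_comp, ← CommRingCat.ofHom_comp]
    congr 2
    refine RingHom.ext fun r => ?_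
    simp [LaurentPolynomial.invert_C]
  have hY : L1 ≫ qY = L2 ≫ pY := by
    apply pullback.hom_ext
    · simp only [qY, pY, Category.assoc, pullback.lift_fst, hC]
    · simp only [qY, pY, Category.assoc, pullback.lift_snd]; exact h
  obtain ⟨f, hf⟩ : ∃ f, Spec.map f = qY ≫ Y.isoSpec.hom := ⟨_, Spec.map_preimage _⟩
  obtain ⟨g, hg⟩ : ∃ g, Spec.map g = pY ≫ Y.isoSpec.hom := ⟨_, Spec.map_preimage _⟩
  have hfg : f ≫ CommRingCat.ofHom (Polynomial.toLaurent : Polynomial R →+* LaurentPolynomial R) =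
      g ≫ CommRingCat.ofHom ((LaurentPolynomial.invert (R := R) : LaurentPolynomial R →+* LaurentPolynomial R).comp
        Polynomial.toLaurent) := by
    apply Spec.map_injective
    rw [Spec.map_comp, Spec.map_comp, hf, hg]
    exact (Category.assoc _ _ _).symm.trans ((congrArg (· ≫ Y.isoSpec.hom) hY).trans (Category.assoc _ _ _))
  have hconst : f = f ≫ CommRingCat.ofHom (Polynomial.evalRingHom (0 : R)) ≫ CommRingCat.ofHom Polynomial.C := by
    refine CommRingCat.hom_ext (RingHom.ext fun z => ?_)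
    exact eq_C_of_laurent (f.hom z) (g.hom z) (congrArg (fun k => k.hom z) hfg)
  have h2 : qY = C' ≫ Spec.map (CommRingCat.ofHom (Polynomial.evalRingHom (0 : R))) ≫ qY := by
    rw [← cancel_mono Y.isoSpec.hom, Category.assoc, Category.assoc, ← hf, ← Spec.map_comp, ← Spec.map_comp, Category.assoc, ← hconst]
  have h3 := congrArg (· ≫ pullback.snd φ G.hom) h2
  simp only [qY, Category.assoc, pullback.lift_snd] at h3
  exact h3

variable {G : Over S} [GrpObj G]

/-- **The dual of a root group is unique.** -/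
theorem dual_unique (hG : IsAffineHom G.hom) {T : Over S} (i : T ⟶ G) (av : Red.Gm S ⟶ T) (v vd vd₀ : Red.Ga S ⟶ G)
    [IsMonHom v] [IsMonHom vd] [IsMonHom vd₀]
    (h1 : ∀ (X : Over S) (x y : X ⟶ Red.Ga S), IsUnit (1 + Red.gaFn x * Red.gaFn y) →
      ∃ (x' y' : X ⟶ Red.Ga S) (z : X ⟶ Red.Gm S), Red.gmFn z = 1 + Red.gaFn x * Red.gaFn y ∧
        Red.gaFn x' * Red.gmFn z = Red.gaFn x ∧ Red.gaFn y' * Red.gmFn z = Red.gaFn y ∧
        (x ≫ v) * (y ≫ vd) = (y' ≫ vd) * (z ≫ av ≫ i) * (x' ≫ v))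
    (h0 : ∀ (X : Over S) (x y : X ⟶ Red.Ga S), IsUnit (1 + Red.gaFn x * Red.gaFn y) →
      ∃ (x' y' : X ⟶ Red.Ga S) (z : X ⟶ Red.Gm S), Red.gmFn z = 1 + Red.gaFn x * Red.gaFn y ∧
        Red.gaFn x' * Red.gmFn z = Red.gaFn x ∧ Red.gaFn y' * Red.gmFn z = Red.gaFn y ∧
        (x ≫ v) * (y ≫ vd₀) = (y' ≫ vd₀) * (z ≫ av ≫ i) * (x' ≫ v)) : vd = vd₀ := by
  let d : ∀ X : Over S, Γ(X.left, ⊤) → (X ⟶ G) := fun X y => P vd y * (P vd₀ y)⁻¹
  have hd : ∀ (X X' : Over S) (g : X' ⟶ X) y, g ≫ d X y = d X' (g.left.appTop y) := fun X X' g y => by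
    simp only [d, MonObj.comp_mul, GrpObj.comp_inv, RankOne.comp_P]
  have star : ∀ (X : Over S) (x y : Γ(X.left, ⊤)) (u : (Γ(X.left, ⊤))ˣ), (u : Γ(X.left, ⊤)) = 1 + x * y →
      d X (y * ((u⁻¹ : (Γ(X.left, ⊤))ˣ) : Γ(X.left, ⊤))) = P v x * d X y * (P v x)⁻¹ := fun X x y u hu => by
    obtain ⟨x', y', z, hz, hx, hy, e1⟩ := h1 X (GaPts.ptOfFn x) (GaPts.ptOfFn y)
      (by rw [GaPts.gaFn_ptOfFn, GaPts.gaFn_ptOfFn, ← hu]; exact u.isUnit)
    obtain ⟨x'', y'', z', hz', hx', hy', e0⟩ := h0 X (GaPts.ptOfFn x) (GaPts.ptOfFn y)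
      (by rw [GaPts.gaFn_ptOfFn, GaPts.gaFn_ptOfFn, ← hu]; exact u.isUnit)
    simp only [GaPts.gaFn_ptOfFn] at hz hx hy hz' hx' hy'
    rw [hz, ← hu] at hx hy
    rw [hz', ← hu] at hx' hy'
    have ez : z' = z := GmPts.gmFn_injective (hz'.trans hz.symm)
    have ex : x'' = x' := GaPts.gaFn_injective (u.isUnit.mul_right_cancel (hx'.trans hx.symm))
    rw [ez, ex] at e0
    rw [RankOne.comp_eq_P vd y', (Units.eq_mul_inv_iff_mul_eq u).mpr hy] at e1
    rw [RankOne.comp_eq_P vd₀ y'', (Units.eq_mul_inv_iff_mul_eq u).mpr hy'] at e0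
    show P vd _ * (P vd₀ _)⁻¹ = P v x * (P vd y * (P vd₀ y)⁻¹) * (P v x)⁻¹
    rw [show P vd (y * ((u⁻¹ : (Γ(X.left, ⊤))ˣ) : Γ(X.left, ⊤))) = P v x * P vd y * (x' ≫ v)⁻¹ * (z ≫ av ≫ i)⁻¹ from by
        rw [show P v x * P vd y = _ from e1]; group,
      show P vd₀ (y * ((u⁻¹ : (Γ(X.left, ⊤))ˣ) : Γ(X.left, ⊤))) = P v x * P vd₀ y * (x' ≫ v)⁻¹ * (z ≫ av ≫ i)⁻¹ from by
        rw [show P v x * P vd₀ y = _ from e0]; group]
    group
  have hT : ∀ (R : Type u) [CommRing R] (φ : Spec (CommRingCat.of R) ⟶ S),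
      d (sp (Spec.map (CommRingCat.ofHom (Polynomial.C : R →+* Polynomial R)) ≫ φ)) (fn _ Polynomial.X) = 1 := by
    intro R _ φ
    set ψ := Spec.map (CommRingCat.ofHom (Polynomial.C : R →+* Polynomial R)) ≫ φ
    let p : sp ψ ⟶ G := P v (fn ψ Polynomial.X - 1) * d (sp ψ) 1 * (P v (fn ψ Polynomial.X - 1))⁻¹
    set τ := Spec.map (CommRingCat.ofHom (Polynomial.toLaurent : Polynomial R →+* LaurentPolynomial R)) ≫ ψ with hτ
    let g1 : sp τ ⟶ sp ψ := spMap ψ _
    let g2 : sp τ ⟶ sp ψ := Over.homMk (Spec.map (CommRingCat.ofHom ((LaurentPolynomial.invert (R := R) :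
      LaurentPolynomial R →+* LaurentPolynomial R).comp Polynomial.toLaurent))) (by
        show _ ≫ ψ = τ
        rw [hτ]
        show _ ≫ _ ≫ φ = _ ≫ _ ≫ φ
        rw [← Category.assoc, ← Category.assoc, ← Spec.map_comp, ← Spec.map_comp, ← CommRingCat.ofHom_comp,
          ← CommRingCat.ofHom_comp]
        congr 3
        refine RingHom.ext fun r => ?_
        simp [LaurentPolynomial.invert_C])
    have hg2 : ∀ r : Polynomial R, g2.left.appTop (fn ψ r) = fn τ (LaurentPolynomial.invert (Polynomial.toLaurent r)) :=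
      fun r => (congrArg (fun k : CommRingCat.of (Polynomial R) ⟶ Γ(Spec (CommRingCat.of (LaurentPolynomial R)), ⊤) => k.hom r)
        (Scheme.ΓSpecIso_inv_naturality (CommRingCat.ofHom ((LaurentPolynomial.invert (R := R) :
          LaurentPolynomial R →+* LaurentPolynomial R).comp Polynomial.toLaurent)))).symm
    have heq : g1 ≫ d (sp ψ) (fn ψ Polynomial.X) = g2 ≫ p := by
      simp only [p, MonObj.comp_mul, GrpObj.comp_inv, RankOne.comp_P, map_sub, map_one, hd, hg2, g1, spMap_fn,
        Polynomial.toLaurent_X, LaurentPolynomial.invert_T]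
      obtain ⟨w, hw⟩ := ((LaurentPolynomial.isUnit_T (R := R) (-1)).map (fn τ))
      have hs := star _ (fn τ (LaurentPolynomial.T (-1)) - 1) 1 w (by rw [hw]; ring)
      rw [← hs, _root_.one_mul]
      congr 1
      refine (Units.eq_inv_of_mul_eq_one_left ?_)
      rw [hw, spMap_fn, Polynomial.toLaurent_X, ← map_mul, ← LaurentPolynomial.T_add]
      simp
    have hc := const_of_laurent hG φ _ p (congrArg CommaMorphism.left heq)
    have h0' : Spec.map (CommRingCat.ofHom (Polynomial.evalRingHom (0 : R))) ≫ (d (sp ψ) (fn ψ Polynomial.X)).left =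
        (1 : sp φ ⟶ G).left := by
      have he : Spec.map (CommRingCat.ofHom (Polynomial.evalRingHom (0 : R))) ≫ ψ = φ := by
        rw [← Category.assoc, ← Spec.map_comp, ← CommRingCat.ofHom_comp, show
          (Polynomial.evalRingHom (0 : R)).comp Polynomial.C = RingHom.id R from RingHom.ext fun _ => Polynomial.eval_C,
          CommRingCat.ofHom_id, Spec.map_id, Category.id_comp]
      let j : sp φ ⟶ sp ψ := Over.homMk (Spec.map (CommRingCat.ofHom (Polynomial.evalRingHom (0 : R)))) he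
      have hj : j.left.appTop (fn ψ Polynomial.X) = fn φ ((Polynomial.X : Polynomial R).eval 0) :=
        (congrArg (fun g : CommRingCat.of (Polynomial R) ⟶ Γ(Spec (CommRingCat.of R), ⊤) => g.hom Polynomial.X)
          (Scheme.ΓSpecIso_inv_naturality (CommRingCat.ofHom (Polynomial.evalRingHom (0 : R))))).symm
      show (j ≫ d (sp ψ) (fn ψ Polynomial.X)).left = _
      rw [hd, hj, Polynomial.eval_X, map_zero]
      simp only [d, RankOne.P_zero, inv_one, _root_.mul_one]
    rw [h0'] at hc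
    apply Over.OverMorphism.ext
    rw [hc]
    show (spMap φ (Polynomial.C : R →+* Polynomial R) ≫ (1 : sp φ ⟶ G)).left = _
    rw [MonObj.comp_one]
  suffices H : ∀ (X : Over S) (y : Γ(X.left, ⊤)), d X y = 1 by
    have h := H (Red.Ga S) (Red.gaFn (𝟙 (Red.Ga S)))
    rw [show d _ _ = _ from rfl, mul_inv_eq_one, ← RankOne.comp_eq_P, ← RankOne.comp_eq_P, Category.id_comp,
      Category.id_comp] at h
    exact h
  intro X y
  let 𝒰 := X.left.affineCover
  apply Over.OverMorphism.ext
  refine 𝒰.hom_ext _ _ fun k => ?_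
  let φ := 𝒰.f k ≫ X.hom
  obtain ⟨R, e, he⟩ : ∃ (R : CommRingCat.{u}) (e : Spec R ⟶ 𝒰.X k), IsIso e :=
    ⟨_, (𝒰.X k).isoSpec.inv, inferInstance⟩
  rw [← cancel_epi e]
  let χ : Spec (CommRingCat.of R) ⟶ S := e ≫ φ
  let gk : sp χ ⟶ X := Over.homMk (e ≫ 𝒰.f k) (Category.assoc _ _ _)
  suffices hh : gk ≫ d X y = gk ≫ (1 : X ⟶ G) by
    exact ((Category.assoc _ _ _).symm.trans (congrArg CommaMorphism.left hh)).trans (Category.assoc _ _ _)
  obtain ⟨r, hr⟩ := (fn χ).surjective (gk.left.appTop y)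
  have he' : Spec.map (CommRingCat.ofHom (Polynomial.evalRingHom r)) ≫
      (Spec.map (CommRingCat.ofHom (Polynomial.C : R →+* Polynomial R)) ≫ χ) = χ := by
    rw [← Category.assoc, ← Spec.map_comp, ← CommRingCat.ofHom_comp, show
      (Polynomial.evalRingHom r).comp Polynomial.C = RingHom.id R from RingHom.ext fun _ => Polynomial.eval_C,
      CommRingCat.ofHom_id, Spec.map_id, Category.id_comp]
  let j : sp χ ⟶ sp (Spec.map (CommRingCat.ofHom (Polynomial.C : R →+* Polynomial R)) ≫ χ) :=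
    Over.homMk (Spec.map (CommRingCat.ofHom (Polynomial.evalRingHom r))) he'
  have hj : j.left.appTop (fn _ Polynomial.X) = fn χ ((Polynomial.X : Polynomial R).eval r) :=
    (congrArg (fun g : CommRingCat.of (Polynomial R) ⟶ Γ(Spec (CommRingCat.of R), ⊤) => g.hom Polynomial.X)
      (Scheme.ΓSpecIso_inv_naturality (CommRingCat.ofHom (Polynomial.evalRingHom r)))).symm
  rw [hd, ← hr, MonObj.comp_one]
  have h := congrArg (j ≫ ·) (hT R χ)
  simp only [hd, hj, Polynomial.eval_X, MonObj.comp_one] at h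
  exact h

end Groth.Agent.RedCell16
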