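import Groth.Agent.Lib.RedCell16.BruhatCells
import Groth.Agent.Lib.RedCell16.Centre
import Groth.Agent.Lib.RedCell16.Descent
import Groth.Agent.Lib.RootD.Transfer

/-!
# An inner automorphism respecting a pinning is trivial
-/

set_option autoImplicit false
set_option linter.style.haveILetI false
set_option linter.unusedSimpArgs false
set_option backward.isDefEq.respectTransparency false
set_option backward.isDefEq.respectTransparency.types false

universe u

open CategoryTheory CategoryTheory.Limits MonoidalCategory CartesianMonoidalCategory MonObj AlgebraicGeometry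

noncomputable section

namespace Groth.Agent.RedCell16

open DiagGL RootDLib
open RankOne (P)

variable {S : Scheme.{u}} {G : Over S} [GrpObj G] (D : Red.SplitRed G) [D.P.IsReduced] (b : D.P.Base)
variable {n m : ℕ} (eneg : Fin n → D.idx) (epos : Fin m → D.idx)
  (hneg : RedSub.Enumerates (RedSub.negRoots D.P b) eneg) (hpos : RedSub.Enumerates (RedSub.posRoots D.P b) epos)

include hneg hpos in
/-- Root elements of two different roots differ. -/
theorem P_eq_imp {X : Over S} (a c : D.idx) (y : Γ(X.left, ⊤)) (h : P (D.u c) y = P (D.u a) (1 : Γ(X.left, ⊤)))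
    (h10 : (1 : Γ(X.left, ⊤)) ≠ 0) : c = a := by
  haveI := D.fintypeIdx
  by_contra hne
  have mem : ∀ d : D.idx, (∃ i, eneg i = d) ∨ ∃ i, epos i = d := fun d => by
    by_cases hd : d ∈ RedSub.posRoots D.P b
    · exact Or.inr (hpos.2.ge hd)
    · exact Or.inl (hneg.2.ge ((RootComb21.mem_negRoots_iff b d).2 hd))
  classical
  rcases mem a with ⟨i, rfl⟩ | ⟨i, rfl⟩ <;> rcases mem c with ⟨k, rfl⟩ | ⟨k, rfl⟩
  · have h1 := cellPt_single_neg D eneg epos (X := X) (Pi.single k y) k fun j hj => Pi.single_eq_of_ne hj _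
    have h2 := cellPt_single_neg D eneg epos (X := X) (Pi.single i 1) i fun j hj => Pi.single_eq_of_ne hj _
    rw [Pi.single_eq_same] at h1 h2
    have h3 := congrFun (cellPt_inj D eneg epos hneg hpos (h1.trans (h.trans h2.symm))).1 i
    rw [Pi.single_eq_same, Pi.single_eq_of_ne (fun e => hne (by rw [e]))] at h3
    exact h10 h3.symm
  · have h1 := cellPt_single_pos D eneg epos (X := X) (Pi.single k y) k fun j hj => Pi.single_eq_of_ne hj _
    have h2 := cellPt_single_neg D eneg epos (X := X) (Pi.single i 1) i fun j hj => Pi.single_eq_of_ne hj _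
    rw [Pi.single_eq_same] at h1 h2
    have h3 := congrFun (cellPt_inj D eneg epos hneg hpos (h1.trans (h.trans h2.symm))).1 i
    rw [Pi.single_eq_same, Pi.zero_apply] at h3
    exact h10 h3.symm
  · have h1 := cellPt_single_neg D eneg epos (X := X) (Pi.single k y) k fun j hj => Pi.single_eq_of_ne hj _
    have h2 := cellPt_single_pos D eneg epos (X := X) (Pi.single i 1) i fun j hj => Pi.single_eq_of_ne hj _
    rw [Pi.single_eq_same] at h1 h2
    have h3 := congrFun (cellPt_inj D eneg epos hneg hpos (h1.trans (h.trans h2.symm))).2.2 i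
    rw [Pi.single_eq_same, Pi.zero_apply] at h3
    exact h10 h3.symm
  · have h1 := cellPt_single_pos D eneg epos (X := X) (Pi.single k y) k fun j hj => Pi.single_eq_of_ne hj _
    have h2 := cellPt_single_pos D eneg epos (X := X) (Pi.single i 1) i fun j hj => Pi.single_eq_of_ne hj _
    rw [Pi.single_eq_same] at h1 h2
    have h3 := congrFun (cellPt_inj D eneg epos hneg hpos (h1.trans (h.trans h2.symm))).2.2 i
    rw [Pi.single_eq_same, Pi.single_eq_of_ne (fun e => hne (by rw [e]))] at h3
    exact h10 h3.symm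

include hneg hpos in
/-- Root elements are injective. -/
theorem P_inj_one {X : Over S} (a : D.idx) (y : Γ(X.left, ⊤)) (h : P (D.u a) y = P (D.u a) (1 : Γ(X.left, ⊤))) :
    y = 1 := by
  haveI := D.fintypeIdx
  classical
  by_cases hd : a ∈ RedSub.posRoots D.P b
  · obtain ⟨i, rfl⟩ := hpos.2.ge hd
    have h1 := cellPt_single_pos D eneg epos (X := X) (Pi.single i y) i fun j hj => Pi.single_eq_of_ne hj _
    have h2 := cellPt_single_pos D eneg epos (X := X) (Pi.single i 1) i fun j hj => Pi.single_eq_of_ne hj _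
    rw [Pi.single_eq_same] at h1 h2
    simpa using congrFun (cellPt_inj D eneg epos hneg hpos (h1.trans (h.trans h2.symm))).2.2 i
  · obtain ⟨i, rfl⟩ := hneg.2.ge ((RootComb21.mem_negRoots_iff b a).2 hd)
    have h1 := cellPt_single_neg D eneg epos (X := X) (Pi.single i y) i fun j hj => Pi.single_eq_of_ne hj _
    have h2 := cellPt_single_neg D eneg epos (X := X) (Pi.single i 1) i fun j hj => Pi.single_eq_of_ne hj _
    rw [Pi.single_eq_same] at h1 h2
    simpa using congrFun (cellPt_inj D eneg epos hneg hpos (h1.trans (h.trans h2.symm))).1 i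

variable (g : 𝟙_ (Over S) ⟶ G)
    (hT : ∀ (X : Over S) (t : X ⟶ D.T), ∃ t' : X ⟶ D.T,
      (toUnit X ≫ g) * (t ≫ D.i) * (toUnit X ≫ g)⁻¹ = t' ≫ D.i)
    (hu : ∀ a ∈ b.support, ∀ (X : Over S) (x : X ⟶ Red.Ga S),
      (toUnit X ≫ g) * (x ≫ D.u a) * (toUnit X ≫ g)⁻¹ = x ≫ D.u a)

include hneg hpos hT hu in
/-- At a geometric point the element lies in the big cell. -/
theorem geom_mem_cell {K : Type u} [Field K] [IsAlgClosed K] (x : Spec (CommRingCat.of K) ⟶ S) :
    (toUnit (RankOne16.kPt x) ≫ g).left (IsLocalRing.closedPoint K) ∈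
      Set.range (RedSub.cellMap D eneg epos).left := by
  haveI := D.maximalTorus.1
  obtain ⟨nr, hnr⟩ := exists_realises D
  obtain ⟨l, hl⟩ := cov_all D b nr hnr x (toUnit (RankOne16.kPt x) ≫ g)
  obtain ⟨d, hd⟩ := exists_translate D hnr hl eneg epos hneg hpos
  obtain ⟨y, t, z, rfl⟩ := exists_mkDom D d
  change _ = _ * cellPt D eneg epos y t z at hd
  set N := toUnit (RankOne16.kPt x) ≫ Nw D nr l with hN
  have hc : cellPt D eneg epos y t z = N⁻¹ * (toUnit (RankOne16.kPt x) ≫ g) := by
    rw [hd, inv_mul_cancel_left]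
  have hnorm : ∀ (X' : Over S) (e : X' ⟶ RankOne16.kPt x) (t₀ : X' ⟶ D.T), ∃ t' : X' ⟶ D.T,
      (e ≫ cellPt D eneg epos y t z) * (t₀ ≫ D.i) * (e ≫ cellPt D eneg epos y t z)⁻¹ = t' ≫ D.i := by
    intro X' e t₀
    obtain ⟨t₁, h1⟩ := hT X' t₀
    obtain ⟨t₂, h2, -⟩ := (nrm_word D nr hnr l).inv X' t₁
    refine ⟨t₂, ?_⟩
    rw [← h2, ← h1, hc, hN, MonObj.comp_mul, GrpObj.comp_inv, toUnit_comp, toUnit_comp, GrpObj.comp_inv]
    group
  obtain ⟨hy, hz⟩ := cellPt_mem_torus_of_normalize D eneg epos hneg hpos y t z hnorm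
  subst hy hz
  rw [cellPt_torus] at hd
  haveI : Nontrivial Γ((RankOne16.kPt x).left, ⊤) :=
    (Scheme.ΓSpecIso (CommRingCat.of K)).commRingCatIsoToRingEquiv.toEquiv.nontrivial
  have hw : wprod D.P l = 1 := by
    refine eq_one_of_isPos b (wprod_mem_weyl l) fun a ha => ?_
    obtain ⟨ν, hν⟩ := (nrm_word D nr hnr l).cj_P D b a
    have h1 := hu a ha _ (GaPts.ptOfFn (1 : Γ((RankOne16.kPt x).left, ⊤)))
    rw [show GaPts.ptOfFn (1 : Γ((RankOne16.kPt x).left, ⊤)) ≫ D.u a = P (D.u a) 1 from rfl] at h1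
    rw [hd, mul_inv_rev] at h1
    have h2 := conj_P D t a (1 : Γ((RankOne16.kPt x).left, ⊤))
    have h3 : cj N (P (D.u a) (rt D t a * 1)) = P (D.u a) 1 := by
      rw [← h2]
      show N * ((t ≫ D.i) * P (D.u a) 1 * (t ≫ D.i)⁻¹) * N⁻¹ = _
      refine Eq.trans ?_ h1
      group
    rw [hν] at h3
    rw [P_eq_imp D b eneg epos hneg hpos a _ _ h3 one_ne_zero]
    exact RootPairing.Base.isPos_of_mem_support ha
  have hl0 : InC D b nr (RankOne16.kPt x) [] (toUnit (RankOne16.kPt x) ≫ g) :=
    inC_congr D hnr (by rw [hw]; rfl) hl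
  obtain ⟨y', t', z', e⟩ := inC_one D hnr hl0 eneg epos hneg hpos
  rw [e]
  exact cellPt_mem D eneg epos y' t' z' _

include hneg hpos hT hu in
/-- The element is central. -/
theorem central_of_pinned (X : Over S) (y : X ⟶ G) : (toUnit X ≫ g) * y * (toUnit X ≫ g)⁻¹ = y := by
  haveI := D.fintypeIdx
  haveI := D.maximalTorus.1
  obtain ⟨y₀, τ, x₀, hg⟩ := exists_cellPt D eneg epos hneg hpos g fun p => by
    have h := geom_mem_cell D b eneg epos hneg hpos g hT hu (Red.geomPt p ≫ (𝟙_ (Over S)).hom)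
    rw [show toUnit (RankOne16.kPt (Red.geomPt p ≫ (𝟙_ (Over S)).hom)) = RankOne16.geomHom p from toUnit_unique _ _,
      Over.comp_left, Scheme.Hom.comp_apply, RankOne16.geomHom_apply] at h
    exact h
  obtain ⟨hy, hx⟩ := cellPt_mem_torus_of_normalize D eneg epos hneg hpos y₀ τ x₀ fun X' e t => by
    rw [Subsingleton.elim e (toUnit X'), ← hg]
    exact hT X' t
  rw [hy, hx, cellPt_torus] at hg
  have hsimple : ∀ a ∈ b.support, rt D τ a = 1 := fun a ha => by
    have h1 := hu a ha _ (GaPts.ptOfFn (1 : Γ((𝟙_ (Over S)).left, ⊤)))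
    rw [show toUnit (𝟙_ (Over S)) = 𝟙 _ from toUnit_unique _ _, Category.id_comp, hg] at h1
    have h2 : P (D.u a) (rt D τ a * 1) = P (D.u a) 1 := (conj_P D τ a 1).symm.trans h1
    exact (_root_.mul_one _).symm.trans (P_inj_one D b eneg epos hneg hpos a _ h2)
  have hall : ∀ c, rt D τ c = 1 := fun c => by
    let K : AddSubgroup D.M :=
      { carrier := {w | (chars D).ch τ (Multiplicative.ofAdd w) = 1}
        add_mem' := fun {a a'} h h' => by
          show (chars D).ch τ (Multiplicative.ofAdd (a + a')) = 1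
          rw [ofAdd_add, _root_.map_mul, h, h', _root_.one_mul]
        zero_mem' := by show (chars D).ch τ (Multiplicative.ofAdd 0) = 1; rw [ofAdd_zero, _root_.map_one]
        neg_mem' := fun {a} h => by
          show (chars D).ch τ (Multiplicative.ofAdd (-a)) = 1
          have := congrArg (fun v => (chars D).ch τ v) (add_neg_cancel a |> congrArg Multiplicative.ofAdd)
          simp only [ofAdd_add, _root_.map_mul, ofAdd_zero, _root_.map_one] at this
          rw [show (chars D).ch τ (Multiplicative.ofAdd a) = 1 from h, _root_.one_mul] at this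
          exact this }
    rw [rt_eq_ch]
    show D.P.root c ∈ K
    have hle : AddSubmonoid.closure (D.P.root '' (b.support : Set D.idx)) ≤ K.toAddSubmonoid := by
      rw [AddSubmonoid.closure_le]
      rintro _ ⟨a, ha, rfl⟩
      show _ = _
      rw [← rt_eq_ch]
      exact hsimple a ha
    rcases b.root_mem_or_neg_mem c with h | h
    · exact hle h
    · exact neg_mem_iff.1 (hle h)
  rw [show toUnit X ≫ g = toUnit X ≫ τ ≫ D.i by rw [hg],
    commute_of_rt_eq_one D eneg epos hneg hpos τ hall X (toUnit X) y, mul_inv_cancel_right]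

end Groth.Agent.RedCell16
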