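import Groth.Agent.Lib.RedCell16.Open
import Groth.Agent.Lib.RankOne16.Gen
import Groth.Agent.Lib.RankOne.Basic
import Groth.Agent.Lib.AttrBorel21.PowGa

/-!
# Coordinates on the big cell of a split reductive group
-/

set_option autoImplicit false
set_option linter.style.haveILetI false
set_option linter.unusedSimpArgs false
set_option backward.isDefEq.respectTransparency false
set_option backward.isDefEq.respectTransparency.types false

universe u

open CategoryTheory CategoryTheory.Limits MonoidalCategory CartesianMonoidalCategory MonObj AlgebraicGeometry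

noncomputable section

namespace Groth.Agent.RedCell16

open DiagGL
open AttrBorel21 (powPt powFn powPt_powFn powFn_powPt powPt_comp powPt_prodMap)

variable {S : Scheme.{u}} {G : Over S} [GrpObj G] (D : Red.SplitRed G)

/-- The value of a root at a point of the torus. -/
def rt {X : Over S} (s : X ⟶ D.T) (c : D.idx) : Γ(X.left, ⊤) :=
  Red.gmFn (s ≫ D.split.hom.hom.hom ≫ Red.chi S (D.P.root c))

theorem rt_comp {X Y : Over S} (g : Y ⟶ X) (s : X ⟶ D.T) (c : D.idx) :
    rt D (g ≫ s) c = g.left.appTop (rt D s c) := by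
  rw [rt, Category.assoc, GmPts.gmFn_comp, rt]

theorem rt_eq_ch {X : Over S} (s : X ⟶ D.T) (c : D.idx) :
    rt D s c = (chars D).ch s (Multiplicative.ofAdd (D.P.root c)) := chars_chi D s _

/-- The product of root elements. -/
def rp {X : Over S} {m : ℕ} (e : Fin m → D.idx) (v : Fin m → Γ(X.left, ⊤)) : X ⟶ G :=
  powPt m v ≫ RedSub.prodMap (Red.Ga S) m fun k => D.u (e k)

theorem rp_succ {X : Over S} {m : ℕ} (e : Fin (m + 1) → D.idx) (v : Fin (m + 1) → Γ(X.left, ⊤)) :
    rp D e v = RankOne.P (D.u (e 0)) (v 0) * rp D (fun k => e k.succ) (fun k => v k.succ) :=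
  powPt_prodMap m v _

theorem rp_zero_fn {X : Over S} : ∀ {m : ℕ} (e : Fin m → D.idx), rp D e (0 : Fin m → Γ(X.left, ⊤)) = 1
  | 0, _ => MonObj.comp_one _
  | m + 1, e => by
    haveI := (D.rootHom (e 0)).1
    rw [rp_succ, Pi.zero_apply, RankOne.P_zero, _root_.one_mul]
    exact rp_zero_fn _

theorem comp_rp {X Y : Over S} (g : Y ⟶ X) {m : ℕ} (e : Fin m → D.idx) (v : Fin m → Γ(X.left, ⊤)) :
    g ≫ rp D e v = rp D e fun k => g.left.appTop (v k) := by
  rw [rp, ← Category.assoc, powPt_comp, rp]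

theorem conj_P {X : Over S} (s : X ⟶ D.T) (c : D.idx) (a : Γ(X.left, ⊤)) :
    (s ≫ D.i) * RankOne.P (D.u c) a * (s ≫ D.i)⁻¹ = RankOne.P (D.u c) (rt D s c * a) := by
  obtain ⟨y, hy, hv⟩ := (D.rootHom c).2.2 X s (GaPts.ptOfFn a)
  rw [GaPts.gaFn_ptOfFn] at hv
  rw [RankOne.comp_eq_P (D.u c) y, hv] at hy
  exact hy.symm

theorem conj_rp {X : Over S} (s : X ⟶ D.T) : ∀ {m : ℕ} (e : Fin m → D.idx) (v : Fin m → Γ(X.left, ⊤)),
    (s ≫ D.i) * rp D e v * (s ≫ D.i)⁻¹ = rp D e fun k => rt D s (e k) * v k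
  | 0, _, _ => by
    show (s ≫ D.i) * (_ ≫ 1) * _ = _ ≫ 1
    rw [MonObj.comp_one, MonObj.comp_one, _root_.mul_one, mul_inv_cancel]
  | m + 1, e, v => by
    rw [rp_succ, rp_succ, ← conj_P, ← conj_rp s (fun k => e k.succ) fun k => v k.succ]
    group

variable {n m : ℕ} (eneg : Fin n → D.idx) (epos : Fin m → D.idx)

/-- A point of the domain of the cell. -/
def mkDom {X : Over S} (y : Fin n → Γ(X.left, ⊤)) (t : X ⟶ D.T) (x : Fin m → Γ(X.left, ⊤)) :
    X ⟶ RedSub.pow (Red.Ga S) n ⊗ (D.T ⊗ RedSub.pow (Red.Ga S) m) :=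
  lift (powPt n y) (lift t (powPt m x))

theorem exists_mkDom {X : Over S} (z : X ⟶ RedSub.pow (Red.Ga S) n ⊗ (D.T ⊗ RedSub.pow (Red.Ga S) m)) :
    ∃ y t x, z = mkDom D y t x :=
  ⟨powFn n (z ≫ fst _ _), z ≫ snd _ _ ≫ fst _ _, powFn m (z ≫ snd _ _ ≫ snd _ _), by
    rw [mkDom, powPt_powFn, powPt_powFn]
    refine CartesianMonoidalCategory.hom_ext _ _ (by simp) (CartesianMonoidalCategory.hom_ext _ _ ?_ ?_) <;> simp⟩

/-- A point of the cell. -/
def cellPt {X : Over S} (y : Fin n → Γ(X.left, ⊤)) (t : X ⟶ D.T) (x : Fin m → Γ(X.left, ⊤)) : X ⟶ G :=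
  mkDom D y t x ≫ RedSub.cellMap D eneg epos

theorem cellPt_eq {X : Over S} (y : Fin n → Γ(X.left, ⊤)) (t : X ⟶ D.T) (x : Fin m → Γ(X.left, ⊤)) :
    cellPt D eneg epos y t x = rp D eneg y * ((t ≫ D.i) * rp D epos x) := by
  rw [cellPt, mkDom, RedSub.cellMap]
  simp only [MonObj.comp_mul, lift_fst_assoc, lift_snd_assoc, rp]

theorem cellPt_torus {X : Over S} (t : X ⟶ D.T) : cellPt D eneg epos 0 t 0 = t ≫ D.i := by
  rw [cellPt_eq, rp_zero_fn, rp_zero_fn, _root_.one_mul, _root_.mul_one]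

theorem cellPt_one {X : Over S} : cellPt D eneg epos 0 (1 : X ⟶ D.T) 0 = 1 := by
  haveI := D.maximalTorus.1
  rw [cellPt_torus, MonObj.one_comp]

theorem comp_cellPt {X Y : Over S} (g : Y ⟶ X) (y : Fin n → Γ(X.left, ⊤)) (t : X ⟶ D.T) (x : Fin m → Γ(X.left, ⊤)) :
    g ≫ cellPt D eneg epos y t x =
      cellPt D eneg epos (fun k => g.left.appTop (y k)) (g ≫ t) (fun k => g.left.appTop (x k)) := by
  rw [cellPt_eq, cellPt_eq, MonObj.comp_mul, MonObj.comp_mul, comp_rp, comp_rp, Category.assoc]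

theorem torus_comm {X : Over S} (s t : X ⟶ D.T) : s * t = t * s :=
  (chars D).inj fun a => by rw [(chars D).mul, (chars D).mul, mul_comm]

theorem cellPt_conj {X : Over S} (s : X ⟶ D.T) (y : Fin n → Γ(X.left, ⊤)) (t : X ⟶ D.T) (x : Fin m → Γ(X.left, ⊤)) :
    (s ≫ D.i) * cellPt D eneg epos y t x * (s ≫ D.i)⁻¹ =
      cellPt D eneg epos (fun k => rt D s (eneg k) * y k) t (fun k => rt D s (epos k) * x k) := by
  haveI := D.maximalTorus.1
  rw [cellPt_eq, cellPt_eq, ← conj_rp, ← conj_rp]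
  have e : (s ≫ D.i) * (t ≫ D.i) = (t ≫ D.i) * (s ≫ D.i) := by
    rw [← MonObj.mul_comp, ← MonObj.mul_comp, torus_comm]
  calc (s ≫ D.i) * (rp D eneg y * ((t ≫ D.i) * rp D epos x)) * (s ≫ D.i)⁻¹
      = ((s ≫ D.i) * rp D eneg y * (s ≫ D.i)⁻¹) * (((s ≫ D.i) * (t ≫ D.i)) * rp D epos x * (s ≫ D.i)⁻¹) := by group
    _ = _ := by rw [e]; group

variable {b : D.P.Base} (hneg : RedSub.Enumerates (RedSub.negRoots D.P b) eneg)
  (hpos : RedSub.Enumerates (RedSub.posRoots D.P b) epos)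

include hneg hpos

theorem cellPt_inj {X : Over S} {y y' : Fin n → Γ(X.left, ⊤)} {t t' : X ⟶ D.T} {x x' : Fin m → Γ(X.left, ⊤)}
    (h : cellPt D eneg epos y t x = cellPt D eneg epos y' t' x') : y = y' ∧ t = t' ∧ x = x' := by
  haveI := isOpenImmersion_cellMap D b eneg epos hneg hpos
  haveI : Mono (RedSub.cellMap D eneg epos) := Over.mono_of_mono_left _
  rw [cellPt, cellPt, cancel_mono] at h
  have h1 := congrArg (fun z => z ≫ fst _ _) h
  have h2 := congrArg (fun z => z ≫ snd _ _ ≫ fst _ _) h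
  have h3 := congrArg (fun z => z ≫ snd _ _ ≫ snd _ _) h
  simp only [mkDom, lift_fst, lift_snd_assoc, lift_snd] at h1 h2 h3
  exact ⟨by rw [← powFn_powPt (S := S) n y, h1, powFn_powPt], h2,
    by rw [← powFn_powPt (S := S) m x, h3, powFn_powPt]⟩

theorem exists_cellPt {X : Over S} (g : X ⟶ G)
    (h : ∀ p, g.left p ∈ Set.range (RedSub.cellMap D eneg epos).left) :
    ∃ y t x, g = cellPt D eneg epos y t x := by
  haveI := isOpenImmersion_cellMap D b eneg epos hneg hpos
  let l := IsOpenImmersion.lift (RedSub.cellMap D eneg epos).left g.left (by rintro _ ⟨p, rfl⟩; exact h p)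
  let z : X ⟶ RedSub.pow (Red.Ga S) n ⊗ (D.T ⊗ RedSub.pow (Red.Ga S) m) := Over.homMk l (by
    rw [← Over.w (RedSub.cellMap D eneg epos), ← Category.assoc, IsOpenImmersion.lift_fac, Over.w g])
  have hz : z ≫ RedSub.cellMap D eneg epos = g := Over.OverMorphism.ext (by
    rw [Over.comp_left]; exact IsOpenImmersion.lift_fac _ _ _)
  obtain ⟨y, t, x, e⟩ := exists_mkDom D z
  exact ⟨y, t, x, by rw [cellPt, ← e, hz]⟩

omit hneg hpos in
theorem cellPt_mem {X : Over S} (y : Fin n → Γ(X.left, ⊤)) (t : X ⟶ D.T) (x : Fin m → Γ(X.left, ⊤)) (p : X.left) :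
    (cellPt D eneg epos y t x).left p ∈ Set.range (RedSub.cellMap D eneg epos).left :=
  ⟨(mkDom D y t x).left p, by rw [cellPt, Over.comp_left, Scheme.Hom.comp_apply]⟩

omit hneg hpos in
theorem one_mem {X : Over S} (p : X.left) : (1 : X ⟶ G).left p ∈ Set.range (RedSub.cellMap D eneg epos).left := by
  rw [← cellPt_one D eneg epos]; exact cellPt_mem D eneg epos _ _ _ p

omit hneg hpos in
theorem unit_mem (s : S) : η[G].left s ∈ Set.range (RedSub.cellMap D eneg epos).left := by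
  have h := one_mem D eneg epos (X := 𝟙_ (Over S)) s
  rwa [Hom.one_def, show toUnit (𝟙_ (Over S)) = 𝟙 _ from toUnit_unique _ _, Category.id_comp] at h

/-- **Homomorphisms agreeing on the big cell are equal.** -/
theorem hom_ext_cell {H : Over S} [GrpObj H] (f g : G ⟶ H) [IsMonHom f] [IsMonHom g]
    (h : RedSub.cellMap D eneg epos ≫ f = RedSub.cellMap D eneg epos ≫ g) : f = g := by
  haveI := isOpenImmersion_cellMap D b eneg epos hneg hpos
  obtain ⟨X', e, a, c, he, -, -, ha, hc, hg⟩ := RankOne16.exists_cover_div (RankOne16.Rig.of_isReductive D.reductive)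
    (RedSub.cellMap D eneg epos).left.opensRange (fun s => unit_mem D eneg epos s) (𝟙 G)
  haveI := he
  rw [← cancel_epi e, ← Category.comp_id e, hg, MonObj.mul_comp, MonObj.mul_comp, GrpObj.inv_comp, GrpObj.inv_comp]
  obtain ⟨y, t, x, rfl⟩ := exists_cellPt D eneg epos hneg hpos a ha
  obtain ⟨y', t', x', rfl⟩ := exists_cellPt D eneg epos hneg hpos c hc
  simp only [cellPt, Category.assoc, h]

end Groth.Agent.RedCell16
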