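import Groth.Agent.Lib.RedCell16.Centre
import Groth.Agent.Lib.RankOne16.Closed
import Groth.Agent.S8446

/-!
# Roots of a split reductive group as rank one data
-/

set_option autoImplicit false
set_option linter.style.haveILetI false
set_option linter.unusedSimpArgs false
set_option backward.isDefEq.respectTransparency false
set_option backward.isDefEq.respectTransparency.types false

universe u

open CategoryTheory CategoryTheory.Limits MonoidalCategory CartesianMonoidalCategory MonObj AlgebraicGeometry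

noncomputable section

namespace Groth.Agent.RedCell16

open DiagGL
open RankOne (P)

variable {S : Scheme.{u}} {G : Over S} [GrpObj G] (D : Red.SplitRed G)

/-- A root as a character of the torus. -/
abbrev rootChar (c : D.idx) : D.T ⟶ Red.Gm S := D.split.hom.hom.hom ≫ Red.chi S (D.P.root c)

set_option synthInstance.maxHeartbeats 40000 in
instance isMonHom_rootChar (c : D.idx) : IsMonHom (rootChar D c) :=
  TorsorSch25.isMonHom_of_points (G := D.T) (G' := Red.Gm S) (rootChar D c) fun X s t => GmPts.gmFn_injective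
    (show Red.gmFn _ = Red.gmFn _ by
      rw [GmPts.gmFn_mul]
      show rt D (s * t) c = rt D s c * rt D t c
      rw [rt_eq_ch, rt_eq_ch, rt_eq_ch, (chars D).mul])

/-- A root is non-trivial on every geometric fibre. -/
theorem rootChar_ne_one (c : D.idx) (s : S) : (Over.pullback (Red.geomPt s)).map (rootChar D c) ≠ 1 := by
  intro h
  let ψ := Red.geomPt s
  obtain ⟨X', e, t, he, hu⟩ := exists_cover_rt D (X := RankOne16.kPt ψ) c
  let A : Over (Spec (CommRingCat.of (AlgebraicClosure (S.residueField s)))) := Over.mk e.left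
  let j : (Over.map ψ).obj A ⟶ X' := Over.homMk (𝟙 X'.left) (by
    show 𝟙 _ ≫ X'.hom = e.left ≫ ψ
    rw [Category.id_comp, ← Over.w e]
    rfl)
  let adj := Over.mapPullbackAdj ψ
  have h1 : (j ≫ t) ≫ rootChar D c = 1 := by
    apply (adj.homEquiv A (Red.Gm S)).injective
    rw [adj.homEquiv_naturality_right, h, MonObj.comp_one]
    exact (MonoidHom.map_one (RankOne16.bcHom ψ (Red.Gm S) A)).symm
  have h2 : rt D (j ≫ t) c = 1 := by
    show Red.gmFn ((j ≫ t) ≫ rootChar D c) = 1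
    rw [h1, GmPts.gmFn_one]
  rw [rt_comp] at h2
  have hj : j.left.appTop (rt D t c) = rt D t c := by
    show (𝟙 X'.left : X'.left ⟶ X'.left).appTop (rt D t c) = _
    simp
  erw [hj] at h2
  rw [h2, sub_self, isUnit_zero_iff] at hu
  haveI := he
  have h01 := RankOne16.fn_injective_of_epi e (1 : Γ((RankOne16.kPt ψ).left, ⊤)) 0 (by
    rw [map_one, map_zero]; exact hu.symm)
  obtain ⟨v, hv⟩ := RankOne16.exists_zpow_ne_one (K := AlgebraicClosure (S.residueField s)) ψ 1 one_ne_zero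
  haveI := subsingleton_of_zero_eq_one h01.symm
  exact hv (Units.ext (Subsingleton.elim _ _))

theorem mono_u (c : D.idx) : Mono (D.u c) := by
  haveI := (D.rootHom c).2.1
  exact Over.mono_of_mono_left _

theorem conj_neg (c : D.idx) (X : Over S) (t : X ⟶ D.T) (y : X ⟶ Red.Ga S) : ∃ y' : X ⟶ Red.Ga S,
    y' ≫ D.u (D.P.reflectionPerm c c) = (t ≫ D.i) * (y ≫ D.u (D.P.reflectionPerm c c)) * (t ≫ D.i)⁻¹ ∧
      Red.gaFn y' * Red.gmFn (t ≫ rootChar D c) = Red.gaFn y := by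
  obtain ⟨y', h1, h2⟩ := (D.rootHom (D.P.reflectionPerm c c)).2.2 X t y
  refine ⟨y', h1, ?_⟩
  have e : D.P.root (D.P.reflectionPerm c c) + D.P.root c = 0 := by simp
  rw [h2, mul_right_comm]
  show rt D t _ * rt D t c * _ = _
  rw [rt_eq_ch, rt_eq_ch, ← map_mul, ← ofAdd_add, e, ofAdd_zero, map_one, _root_.one_mul]

theorem rp_one {X : Over S} (e : Fin 1 → D.idx) (v : Fin 1 → Γ(X.left, ⊤)) : rp D e v = P (D.u (e 0)) (v 0) := by
  rw [rp_succ, Subsingleton.elim (fun k : Fin 0 => v k.succ) 0, rp_zero_fn, _root_.mul_one]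

section One

variable {b : D.P.Base} (eneg epos : Fin 1 → D.idx)
  (hneg : RedSub.Enumerates (RedSub.negRoots D.P b) eneg) (hpos : RedSub.Enumerates (RedSub.posRoots D.P b) epos)

theorem cell_eq_cellPt {X : Over S} (y : Γ(X.left, ⊤)) (t : X ⟶ D.T) (x : Γ(X.left, ⊤)) :
    RankOne16.cell D.i (D.u (epos 0)) (D.u (eneg 0)) y t x = cellPt D eneg epos (fun _ => y) t (fun _ => x) := by
  rw [cellPt_eq, rp_one, rp_one, RankOne16.cell, _root_.mul_assoc]

include hneg hpos in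
theorem isOpenImmersion_cellMap₁ :
    IsOpenImmersion (RankOne16.cellMap D.i (D.u (epos 0)) (D.u (eneg 0))).left := by
  let Ω := (Red.Ga S ⊗ D.T) ⊗ Red.Ga S
  let j1 : Ω ⟶ RedSub.pow (Red.Ga S) 1 ⊗ (D.T ⊗ RedSub.pow (Red.Ga S) 1) :=
    mkDom D (fun _ => Red.gaFn (fst (Red.Ga S ⊗ D.T) (Red.Ga S) ≫ fst _ _))
      (fst (Red.Ga S ⊗ D.T) (Red.Ga S) ≫ snd _ _) (fun _ => Red.gaFn (snd (Red.Ga S ⊗ D.T) (Red.Ga S)))
  let κ : RedSub.pow (Red.Ga S) 1 ⊗ (D.T ⊗ RedSub.pow (Red.Ga S) 1) ⟶ Ω :=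
    lift (lift (fst _ _ ≫ fst _ _) (snd _ _ ≫ fst _ _)) (snd _ _ ≫ snd _ _ ≫ fst _ _)
  have hp : ∀ {X : Over S} (v : Fin 1 → Γ(X.left, ⊤)), AttrBorel21.powPt (S := S) 1 v ≫ fst _ _ = GaPts.ptOfFn (v 0) :=
    fun v => by simp [AttrBorel21.powPt]
  have h1 : j1 ≫ κ = 𝟙 Ω := by
    apply CartesianMonoidalCategory.hom_ext
    · apply CartesianMonoidalCategory.hom_ext
      · simp only [j1, κ, mkDom, Category.assoc, lift_fst, lift_fst_assoc, lift_snd, lift_snd_assoc, hp,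
          Category.id_comp]
        exact GaPts.gaFn_injective (GaPts.gaFn_ptOfFn _)
      · simp [j1, κ, mkDom]
    · simp only [j1, κ, mkDom, Category.assoc, lift_fst, lift_fst_assoc, lift_snd, lift_snd_assoc, hp,
        Category.id_comp]
      exact GaPts.gaFn_injective (GaPts.gaFn_ptOfFn _)
  have h2 : κ ≫ j1 = 𝟙 _ := by
    obtain ⟨y, t, x, h⟩ := exists_mkDom D (𝟙 (RedSub.pow (Red.Ga S) 1 ⊗ (D.T ⊗ RedSub.pow (Red.Ga S) 1)))
    have e1 : ∀ k, y k = y 0 := fun k => by rw [Subsingleton.elim k 0]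
    rw [← Category.id_comp κ, h]
    simp only [j1, κ, mkDom, comp_lift, comp_lift_assoc, Category.assoc, lift_fst_assoc, lift_snd_assoc,
      AttrBorel21.powPt_comp, lift_fst, lift_snd, ← GaPts.gaFn_comp, hp, GaPts.gaFn_ptOfFn]
    congr 1
  haveI : IsIso j1 := ⟨κ, h1, h2⟩
  haveI : IsIso j1.left := ((Over.forget _).mapIso (asIso j1)).isIso_hom
  have he : RankOne16.cellMap D.i (D.u (epos 0)) (D.u (eneg 0)) = j1 ≫ RedSub.cellMap D eneg epos := by
    have h := cell_eq_cellPt D eneg epos (X := Ω) (Red.gaFn (fst (Red.Ga S ⊗ D.T) (Red.Ga S) ≫ fst _ _))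
      (fst (Red.Ga S ⊗ D.T) (Red.Ga S) ≫ snd _ _) (Red.gaFn (snd (Red.Ga S ⊗ D.T) (Red.Ga S)))
    rw [RankOne16.cell_eq, GaPts.gaFn_injective (GaPts.gaFn_ptOfFn (Red.gaFn (fst (Red.Ga S ⊗ D.T) (Red.Ga S) ≫ fst _ _))),
      GaPts.gaFn_injective (GaPts.gaFn_ptOfFn (Red.gaFn (snd (Red.Ga S ⊗ D.T) (Red.Ga S))))] at h
    rw [cellPt, show lift (lift (fst (Red.Ga S ⊗ D.T) (Red.Ga S) ≫ fst _ _) (fst (Red.Ga S ⊗ D.T) (Red.Ga S) ≫ snd _ _))
      (snd (Red.Ga S ⊗ D.T) (Red.Ga S)) = 𝟙 Ω by ext <;> simp [Ω], Category.id_comp] at h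
    exact h
  haveI := isOpenImmersion_cellMap D b eneg epos hneg hpos
  rw [he, Over.comp_left]
  infer_instance

include hneg hpos in
/-- **A rank one split group as a rank one datum.** -/
theorem exists_datum₁ (hop : eneg 0 = D.P.reflectionPerm (epos 0) (epos 0)) :
    ∃ (σ : Red.Ga S ⟶ Red.Ga S) (av : Red.Gm S ⟶ D.T), IsIso σ ∧
      RankOne.Datum D.i (rootChar D (epos 0)) (σ ≫ D.u (epos 0)) (D.u (eneg 0)) av ∧
      IsOpenImmersion (RankOne16.cellMap D.i (σ ≫ D.u (epos 0)) (D.u (eneg 0))).left := by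
  haveI := D.maximalTorus.1
  haveI := D.maximalTorus.2.1
  haveI : Mono D.i := Over.mono_of_mono_left _
  haveI := (D.rootHom (epos 0)).1
  haveI := (D.rootHom (eneg 0)).1
  haveI := mono_u D (epos 0)
  haveI := mono_u D (eneg 0)
  have hpp : ∀ (X : Over S) (t : X ⟶ D.T) (x : X ⟶ Red.Ga S), ∃ x' : X ⟶ Red.Ga S,
      x' ≫ D.u (epos 0) = (t ≫ D.i) * (x ≫ D.u (epos 0)) * (t ≫ D.i)⁻¹ ∧
        Red.gaFn x' = Red.gmFn (t ≫ rootChar D (epos 0)) * Red.gaFn x :=
    fun X t x => (D.rootHom (epos 0)).2.2 X t x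
  have hpm : ∀ (X : Over S) (t : X ⟶ D.T) (y : X ⟶ Red.Ga S), ∃ y' : X ⟶ Red.Ga S,
      y' ≫ D.u (eneg 0) = (t ≫ D.i) * (y ≫ D.u (eneg 0)) * (t ≫ D.i)⁻¹ ∧
        Red.gaFn y' * Red.gmFn (t ≫ rootChar D (epos 0)) = Red.gaFn y := by
    rw [hop]; exact conj_neg D (epos 0)
  have K : RankOne16.Cellular D.i (rootChar D (epos 0)) (D.u (epos 0)) (D.u (eneg 0)) :=
    ⟨inferInstance, inferInstance, inferInstance, inferInstance, D.maximalTorus.2.2.1, rootChar_ne_one D (epos 0),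
      hpp, hpm, isOpenImmersion_cellMap₁ D eneg epos hneg hpos⟩
  have hnc : ∀ s : S, ¬ ∀ (X : Over S) (_ : X ⟶ RankOne16.sp (Red.geomPt s)) (u v : Γ(X.left, ⊤)),
      P (D.u (epos 0)) u * P (D.u (eneg 0)) v = P (D.u (eneg 0)) v * P (D.u (epos 0)) u := by
    intro s h
    obtain ⟨X, x, y, hne⟩ := Groth.Agent.S8446.result S G D.T D.i D.reductive D.maximalTorus (rootChar D (epos 0))
      (rootChar_ne_one D (epos 0)) (D.u (epos 0)) (D.u (eneg 0)) hpp hpm
      (isOpenImmersion_cellMap₁ D eneg epos hneg hpos) s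
    refine hne ?_
    let ψ := Red.geomPt s
    let adj := Over.mapPullbackAdj ψ
    let X₀ := (Over.map ψ).obj X
    obtain ⟨x₀, hx₀⟩ := (adj.homEquiv X (Red.Ga S)).surjective x
    obtain ⟨y₀, hy₀⟩ := (adj.homEquiv X (Red.Ga S)).surjective y
    have hx : x ≫ (Over.pullback ψ).map (D.u (epos 0)) = RankOne16.bcHom ψ G X (x₀ ≫ D.u (epos 0)) := by
      rw [← hx₀]; exact (adj.homEquiv_naturality_right x₀ (D.u (epos 0))).symm
    have hy : y ≫ (Over.pullback ψ).map (D.u (eneg 0)) = RankOne16.bcHom ψ G X (y₀ ≫ D.u (eneg 0)) := by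
      rw [← hy₀]; exact (adj.homEquiv_naturality_right y₀ (D.u (eneg 0))).symm
    rw [hx, hy, ← MonoidHom.map_mul, ← MonoidHom.map_mul, RankOne.comp_eq_P (D.u (epos 0)) x₀,
      RankOne.comp_eq_P (D.u (eneg 0)) y₀, h X₀ (Over.homMk X.hom) (Red.gaFn x₀) (Red.gaFn y₀)]
  obtain ⟨σ, av, hσ, hD, hΩ⟩ := RankOne16.exists_datum K hnc
  exact ⟨σ, av, hσ, hD, hΩ⟩

end One

end Groth.Agent.RedCell16
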