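import Groth.Agent.Lib.RedCell16.RankOne
import Groth.Agent.Lib.RootD.Basic
import Groth.Agent.Lib.RootComb21.Basic

/-!
# Separating roots by cocharacters
-/

set_option autoImplicit false
set_option linter.style.haveILetI false
set_option backward.isDefEq.respectTransparency false
set_option backward.isDefEq.respectTransparency.types false

universe u

open CategoryTheory CategoryTheory.Limits MonoidalCategory CartesianMonoidalCategory MonObj AlgebraicGeometry

noncomputable section

namespace Groth.Agent.RedCell16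

open DiagGL RootDLib

variable {S : Scheme.{u}} {G : Over S} [GrpObj G] (D : Red.SplitRed G)

/-- The coroot as a functional on the characters. -/
def co (c : D.idx) : D.M →+ ℤ := (D.P.coroot c).toAddMonoidHom

theorem co_root (c d : D.idx) : co D c (D.P.root d) = D.P.pairing d c := by
  show D.P.coroot c (D.P.root d) = D.P.toLinearMap (D.P.root d) (D.P.coroot c)
  rw [D.pairing_eq]
  rfl

theorem co_self (c : D.idx) : co D c (D.P.root c) = 2 := by
  rw [co_root, RootPairing.pairing_same]

/-- Functionals separate the characters. -/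
theorem eq_zero_of_functionals (x : D.M) (h : ∀ g : D.M →+ ℤ, g x = 0) : x = 0 := by
  haveI := D.freeM
  let B := Module.Free.chooseBasis ℤ D.M
  exact B.repr.map_eq_zero_iff.1 (Finsupp.ext fun i => h ((B.coord i).toAddMonoidHom))

/-- A character killed by the functionals killing a root is a rational multiple of it. -/
theorem two_smul_eq (c : D.idx) (x : D.M) (h : ∀ ℓ : D.M →+ ℤ, ℓ (D.P.root c) = 0 → ℓ x = 0) :
    (2 : ℤ) • x = co D c x • D.P.root c := by
  rw [← sub_eq_zero]
  refine eq_zero_of_functionals D _ fun g => ?_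
  have h1 := h ((2 : ℤ) • g - g (D.P.root c) • co D c) (by
    simp [co_self]; ring)
  simp at h1 ⊢
  linear_combination h1

/-- the determinant of two roots -/
def det (a b : D.idx) : ℤ := 4 - D.P.pairing a b * D.P.pairing b a

/-- the functional dual to `a` among `a` and `b`, up to the determinant -/
def dualFun (a b : D.idx) : D.M →+ ℤ := (2 : ℤ) • co D a - D.P.pairing b a • co D b

theorem dualFun_self (a b : D.idx) : dualFun D a b (D.P.root a) = det D a b := by
  simp [dualFun, det, co_root, RootPairing.pairing_same]; ring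

theorem dualFun_other (a b : D.idx) : dualFun D a b (D.P.root b) = 0 := by
  simp [dualFun, co_root, RootPairing.pairing_same]; ring

theorem det_comm (a b : D.idx) : det D b a = det D a b := by
  simp [det]; ring

/-- A character killed by the functionals killing two roots is in their rational span. -/
theorem det_smul_eq (a b : D.idx) (x : D.M)
    (h : ∀ ℓ : D.M →+ ℤ, ℓ (D.P.root a) = 0 → ℓ (D.P.root b) = 0 → ℓ x = 0) :
    det D a b • x = dualFun D a b x • D.P.root a + dualFun D b a x • D.P.root b := by
  rw [← sub_eq_zero]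
  refine eq_zero_of_functionals D _ fun g => ?_
  have h1 := h (det D a b • g - g (D.P.root a) • dualFun D a b - g (D.P.root b) • dualFun D b a)
    (by simp [dualFun_self, dualFun_other]; ring)
    (by simp [dualFun_self, dualFun_other, det_comm]; ring)
  simp at h1 ⊢
  linear_combination h1

theorem det_pos [D.P.IsReduced] (a b : D.idx) (h1 : D.P.root b ≠ D.P.root a) (h2 : D.P.root b ≠ -D.P.root a) :
    0 < det D a b := by
  haveI := D.fintypeIdx
  have hB := form_root_pos D.P b
  set x := (2 : ℤ) • D.P.root b - D.P.pairing b a • D.P.root a with hx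
  have hx0 : x ≠ 0 := fun h => by
    rcases RootPairing.IsReduced.eq_or_eq_neg (P := D.P) b a (fun hli => by
      have := LinearIndependent.pair_iff.1 hli 2 (-D.P.pairing b a) (by rw [neg_smul, ← sub_eq_add_neg]; exact h)
      norm_num at this) with h' | h'
    exacts [h1 h', h2 h']
  have hpos := form_pos D.P (sub_mem (Submodule.smul_mem _ _ (root_mem D.P b)) (Submodule.smul_mem _ _ (root_mem D.P a))) hx0
  have e1 := two_form_root_root D.P b a
  have e2 := two_form_root_root D.P a b
  have e3 := form_comm D.P (D.P.root a) (D.P.root b)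
  simp only [hx, map_sub, map_smul, LinearMap.sub_apply, LinearMap.smul_apply, smul_eq_mul] at hpos
  rw [e3] at e2 hpos
  by_contra hc
  push Not at hc
  have : 0 < det D a b * form D.P (D.P.root b) (D.P.root b) := by
    refine hpos.trans_eq ?_
    rw [det]
    linear_combination (-D.P.pairing b a) * e1 - D.P.pairing b a * e2
  nlinarith

/-- **No root is a positive combination of two roots whose sum is not a root.** -/
theorem not_root_comb [D.P.IsReduced] (a b : D.idx) (h0 : D.P.root a + D.P.root b ≠ 0)
    (hab : D.P.root a + D.P.root b ∉ Set.range D.P.root) :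
    ∀ (i j : ℕ) (d : D.idx), 1 ≤ i → 1 ≤ j → D.P.root d ≠ (i : ℤ) • D.P.root a + (j : ℤ) • D.P.root b := by
  haveI := D.fintypeIdx
  haveI := torsionFree D.P
  suffices H : ∀ (N i j : ℕ) (d : D.idx), i + j ≤ N → 1 ≤ i → 1 ≤ j →
      D.P.root d ≠ (i : ℤ) • D.P.root a + (j : ℤ) • D.P.root b from
    fun i j d => H (i + j) i j d le_rfl
  intro N
  induction N with
  | zero => intros; omega
  | succ N ih =>
    intro i j d hN hi hj hd
    have h2 : (2 : ℤ) = (i : ℤ) * D.P.pairing a d + (j : ℤ) * D.P.pairing b d := by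
      have := congrArg (co D d) hd
      simpa [co_root, co_self, RootPairing.pairing_same] using this
    have case1 : ∀ (a b : D.idx) (i j : ℕ), i + j ≤ N + 1 → 1 ≤ i → 1 ≤ j →
        D.P.root a + D.P.root b ∉ Set.range D.P.root → D.P.root a + D.P.root b ≠ 0 →
        (∀ (i j : ℕ) (d : D.idx), i + j ≤ N → 1 ≤ i → 1 ≤ j →
          D.P.root d ≠ (i : ℤ) • D.P.root a + (j : ℤ) • D.P.root b) →
        D.P.root d = (i : ℤ) • D.P.root a + (j : ℤ) • D.P.root b → 0 < D.P.pairing a d → False := by
      intro a b i j hN hi hj hab habne ih hd hp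
      have hmul : ∀ (c : D.idx) (k : ℕ) (x : D.idx), D.P.root x = (k : ℤ) • D.P.root c → k = 1 := by
        intro c k x hx
        rcases k with _ | _ | k
        · exact absurd (hx.trans (by simp)) (root_ne_zero D.P x)
        · rfl
        · have : Fact (k + 2).AtLeastTwo := ⟨inferInstance⟩
          exact absurd ⟨x, hx.trans (natCast_zsmul _ _)⟩ (D.P.nsmul_notMem_range_root (i := c) (n := k + 1 + 1))
      by_cases hne : d = a
      · subst hne
        have e : (j : ℤ) • D.P.root b + ((i : ℤ) - 1) • D.P.root d = 0 := by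
          rw [sub_smul, one_smul]; nth_rw 2 [hd]; abel
        rcases RootPairing.IsReduced.eq_or_eq_neg (P := D.P) b d (fun hli => by
          have := LinearIndependent.pair_iff.1 hli _ _ e
          omega) with h | h
        · rw [h, ← add_smul] at e
          rcases smul_eq_zero.1 e with h' | h'
          · omega
          · exact root_ne_zero D.P d h'
        · exact habne (by rw [h]; simp)
      obtain ⟨k, hk⟩ := sub_mem_of_pairing_pos D.P ((pairing_pos_comm D.P a d).1 hp) hne
      have hk' : D.P.root k = ((i - 1 : ℕ) : ℤ) • D.P.root a + (j : ℤ) • D.P.root b := by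
        rw [hk, hd, Nat.cast_sub hi, sub_smul, Nat.cast_one, one_smul]; abel
      rcases Nat.lt_or_ge i 2 with hi2 | hi2
      · obtain rfl : i = 1 := by omega
        rw [Nat.sub_self, Nat.cast_zero, zero_smul, zero_add] at hk'
        obtain rfl := hmul b j k hk'
        exact hab ⟨d, by rw [hd]; simp⟩
      · exact ih (i - 1) j k (by omega) (by omega) hj hk'
    rcases lt_or_ge 0 (D.P.pairing a d) with hp | hp
    · exact case1 a b i j hN hi hj hab h0 ih hd hp
    · have hp' : 0 < D.P.pairing b d := by nlinarith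
      exact case1 b a j i (by omega) hj hi (by rwa [add_comm]) (by rwa [add_comm])
        (fun i j d hN hi hj => by rw [add_comm]; exact ih j i d (by omega) hj hi) (hd.trans (add_comm _ _)) hp'

/-- After a cover a cocharacter moves a root freely. -/
theorem exists_cover_co {X : Over S} (c : D.idx) (ℓ : D.M →+ ℤ) (hℓ : ℓ (D.P.root c) ≠ 0) :
    ∃ (X' : Over S) (e : X' ⟶ X) (t : X' ⟶ D.T) (v : (Γ(X'.left, ⊤))ˣ), Epi e ∧
      (∀ m, (chars D).ch t (Multiplicative.ofAdd m) = ((v ^ ℓ m : (Γ(X'.left, ⊤))ˣ) : Γ(X'.left, ⊤))) ∧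
      IsUnit (rt D t c - 1) := by
  let k := (ℓ (D.P.root c)).natAbs
  have hk : k ≠ 0 := Int.natAbs_ne_zero.2 hℓ
  obtain ⟨X', e, v, he, hv⟩ := RankOne16.exists_cover_poly X (Polynomial.X ^ k - 1)
    (by rw [Polynomial.coeff_sub, Polynomial.coeff_X_pow, if_neg (Ne.symm hk), Polynomial.coeff_one_zero]; simp)
  rw [Polynomial.eval₂_sub, Polynomial.eval₂_X_pow, Polynomial.eval₂_one] at hv
  obtain ⟨t, ht⟩ := exists_tor D ℓ v
  refine ⟨X', e, t, v, he, ht, ?_⟩
  rw [rt_eq_ch, ht]
  show IsUnit (((v ^ ℓ (D.P.root c) : (Γ(X'.left, ⊤))ˣ) : Γ(X'.left, ⊤)) - 1)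
  rcases Int.natAbs_eq (ℓ (D.P.root c)) with h | h
  · rw [h, zpow_natCast, Units.val_pow_eq_pow_val]
    exact hv
  · rw [h, zpow_neg, zpow_natCast]
    have e1 : (((v ^ k)⁻¹ : (Γ(X'.left, ⊤))ˣ) : Γ(X'.left, ⊤)) - 1 =
        (((v ^ k)⁻¹ : (Γ(X'.left, ⊤))ˣ) : Γ(X'.left, ⊤)) * -((v : Γ(X'.left, ⊤)) ^ k - 1) := by
      rw [mul_neg, mul_sub, _root_.mul_one, ← Units.val_pow_eq_pow_val, Units.inv_mul]; ring
    rw [e1]
    exact ((v ^ k)⁻¹).isUnit.mul hv.neg

end Groth.Agent.RedCell16
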