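import Groth.Agent.Lib.RedCell16.Conj
import Groth.Agent.S3006
import Groth.Agent.S3908
import Groth.Agent.Lib.TorPts21.BaseChangeTorus
import Groth.Agent.Lib.MTRigid29.MonoClosedGlobal
import Groth.Agent.Lib.MTRigid29.MapChS

/-!
# The subgroup of semisimple rank one of a root
-/

set_option autoImplicit false
set_option linter.style.haveILetI false
set_option linter.unusedSimpArgs false
set_option backward.isDefEq.respectTransparency false
set_option backward.isDefEq.respectTransparency.types false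

universe u

open CategoryTheory CategoryTheory.Limits MonoidalCategory CartesianMonoidalCategory MonObj AlgebraicGeometry

noncomputable section

namespace Groth.Agent.RedCell16

open DiagGL RootDLib
open RankOne (P)

variable {S : Scheme.{u}} {G : Over S} [GrpObj G] (D : Red.SplitRed G)

section Coord

variable {n m : ℕ} (eneg : Fin n → D.idx) (epos : Fin m → D.idx)
  {b : D.P.Base} (hneg : RedSub.Enumerates (RedSub.negRoots D.P b) eneg)
  (hpos : RedSub.Enumerates (RedSub.posRoots D.P b) epos)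

include hneg hpos in
/-- Cell points fixed by the cocharacter `ℓ` have no coordinates on roots moved by `ℓ`. -/
theorem coord_eq_zero' {X : Over S} (y : Fin n → Γ(X.left, ⊤)) (τ : X ⟶ D.T) (x : Fin m → Γ(X.left, ⊤))
    (ℓ : D.M →+ ℤ)
    (h : ∀ (X' : Over S) (e : X' ⟶ X) (v : (Γ(X'.left, ⊤))ˣ) (t : X' ⟶ D.T),
      (∀ m, (chars D).ch t (Multiplicative.ofAdd m) = ((v ^ ℓ m : (Γ(X'.left, ⊤))ˣ) : Γ(X'.left, ⊤))) →
        (t ≫ D.i) * (e ≫ cellPt D eneg epos y τ x) * (t ≫ D.i)⁻¹ = e ≫ cellPt D eneg epos y τ x) :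
    (∀ i, ℓ (D.P.root (eneg i)) ≠ 0 → y i = 0) ∧ (∀ i, ℓ (D.P.root (epos i)) ≠ 0 → x i = 0) := by
  have main : ∀ (d : D.idx), ℓ (D.P.root d) ≠ 0 → ∃ (X' : Over S) (e : X' ⟶ X) (t : X' ⟶ D.T), Epi e ∧
      IsUnit (rt D t d - 1) ∧ (fun i => rt D t (eneg i) * e.left.appTop (y i)) = (fun i => e.left.appTop (y i)) ∧
      (fun i => rt D t (epos i) * e.left.appTop (x i)) = (fun i => e.left.appTop (x i)) := fun d hd => by
    obtain ⟨X', e, t, v, he, ht, hu⟩ := exists_cover_co D d ℓ hd
    have h1 := h X' e v t ht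
    rw [comp_cellPt, cellPt_conj] at h1
    obtain ⟨h2, -, h3⟩ := cellPt_inj D eneg epos hneg hpos h1
    exact ⟨X', e, t, he, hu, h2, h3⟩
  constructor
  · intro i hi
    obtain ⟨X', e, t, he, hu, h2, -⟩ := main _ hi
    refine RankOne16.fn_injective_of_epi e _ 0 ?_
    rw [map_zero]
    exact hu.mul_right_eq_zero.1 (by rw [sub_mul, _root_.one_mul, congrFun h2 i, sub_self])
  · intro i hi
    obtain ⟨X', e, t, he, hu, -, h3⟩ := main _ hi
    refine RankOne16.fn_injective_of_epi e _ 0 ?_
    rw [map_zero]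
    exact hu.mul_right_eq_zero.1 (by rw [sub_mul, _root_.one_mul, congrFun h3 i, sub_self])

end Coord

variable (c : D.idx)

/-- Twice the projection killing the root `c` along its coroot. -/
def proj : D.M →ₗ[ℤ] D.M :=
  (2 : ℤ) • LinearMap.id - ((co D c).toIntLinearMap).smulRight (D.P.root c)

theorem proj_apply (x : D.M) : proj D c x = (2 : ℤ) • x - co D c x • D.P.root c := rfl

theorem proj_root : proj D c (D.P.root c) = 0 := by
  rw [proj_apply, co_self, sub_self]

/-- The characters of the singular torus. -/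
abbrev singM : Type := LinearMap.range (proj D c)

/-- the restriction of characters to the singular torus -/
def singRes : D.M →+ singM D c := (proj D c).rangeRestrict.toAddMonoidHom

/-- The singular torus of a root. -/
abbrev singQ : Over S := Red.DS S (singM D c)

/-- The singular torus inside the group. -/
def singMap : singQ D c ⟶ G := MTRigid29.mapChS (charsDS S (singM D c)) (chars D) (singRes D c) ≫ D.i

theorem isTorus_singQ : Red.IsTorus (singQ D c) := by
  haveI := D.finiteM
  haveI := D.freeM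
  haveI : Module.Free ℤ (singM D c) := inferInstance
  haveI : Module.Finite ℤ (singM D c) := inferInstance
  let B := Module.finBasis ℤ (singM D c)
  exact TorPts21.isTorus_of_chars (RankOne16.charsReindex (charsDS S (singM D c)) B.equivFun.symm.toAddEquiv)

theorem isMonHom_singMap : IsMonHom (singMap D c) := by
  haveI := D.maximalTorus.1
  haveI := MTRigid29.isMonHom_mapChS (charsDS S (singM D c)) (chars D) (singRes D c)
  exact inferInstanceAs (IsMonHom (_ ≫ D.i))

theorem mono_singMap : Mono (singMap D c) := by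
  haveI := D.maximalTorus.2.1
  haveI := MTRigid29.mono_mapChS (charsDS S (singM D c)) (chars D) (φ := singRes D c)
    (LinearMap.surjective_rangeRestrict (proj D c))
  exact inferInstanceAs (Mono (_ ≫ D.i))

theorem isClosedImmersion_singMap : IsClosedImmersion (singMap D c).left := by
  haveI := D.finiteM
  haveI : Module.Finite ℤ (singM D c) := inferInstance
  haveI : AddGroup.FG (singM D c) := Module.Finite.iff_addGroup_fg.1 inferInstance
  haveI := isMonHom_singMap D c
  haveI := mono_singMap D c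
  exact MTRigid29.isClosedImmersion_of_mono (MTRigid29.isMultTypeFT_of_chars (charsDS S (singM D c))) D.reductive.1
    (singMap D c)

theorem ch_sing {X : Over S} (h : X ⟶ singQ D c) (x : D.M) :
    (chars D).ch (h ≫ MTRigid29.mapChS (charsDS S (singM D c)) (chars D) (singRes D c)) (Multiplicative.ofAdd x) =
      (charsDS S (singM D c)).ch h (Multiplicative.ofAdd (singRes D c x)) :=
  MTRigid29.ch_mapChS _ _ _ h _

/-- The singular torus kills the root. -/
theorem rt_sing {X : Over S} (h : X ⟶ singQ D c) (d : D.idx) (hd : proj D c (D.P.root d) = 0) :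
    rt D (h ≫ MTRigid29.mapChS (charsDS S (singM D c)) (chars D) (singRes D c)) d = 1 := by
  rw [rt_eq_ch, ch_sing, show singRes D c (D.P.root d) = 0 from Subtype.ext hd, ofAdd_zero, map_one]

theorem proj_neg : proj D c (D.P.root (D.P.reflectionPerm c c)) = 0 := by
  simp [map_neg, proj_root]

/-- The points centralising the singular torus. -/
def Centralises {X : Over S} (g : X ⟶ G) : Prop :=
  ∀ (X' : Over S) (x : X' ⟶ X) (h : X' ⟶ singQ D c),
    (x ≫ g) * (h ≫ singMap D c) = (h ≫ singMap D c) * (x ≫ g)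

theorem centralises_P (d : D.idx) (hd : proj D c (D.P.root d) = 0) {X : Over S} (a : Γ(X.left, ⊤)) :
    Centralises D c (P (D.u d) a : X ⟶ G) := fun X' x h => by
  rw [RankOne.comp_P, singMap, ← Category.assoc]
  refine (mul_inv_eq_iff_eq_mul.1 ?_).symm
  rw [conj_P, rt_sing D c h d hd, _root_.one_mul]

theorem centralises_torus {X : Over S} (t : X ⟶ D.T) : Centralises D c (t ≫ D.i) := fun X' x h => by
  haveI := D.maximalTorus.1
  rw [singMap, ← Category.assoc x, ← Category.assoc h, ← MonObj.mul_comp, ← MonObj.mul_comp, torus_comm]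

/-- A torus point from the singular torus with values given by a functional. -/
theorem exists_sing_pt {X : Over S} (g : D.M →+ ℤ) (v : (Γ(X.left, ⊤))ˣ) (t : X ⟶ D.T)
    (ht : ∀ x, (chars D).ch t (Multiplicative.ofAdd x) =
      ((v ^ g (proj D c x) : (Γ(X.left, ⊤))ˣ) : Γ(X.left, ⊤))) :
    ∃ h : X ⟶ singQ D c, h ≫ singMap D c = t ≫ D.i := by
  obtain ⟨h, hh⟩ := (charsDS S (singM D c)).surj (T := X) ((Units.coeHom _).comp (MonoidHom.mk'
    (fun a : Multiplicative (singM D c) => v ^ g (a.toAdd : D.M)) fun a b => by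
      simp only [toAdd_mul, Submodule.coe_add, map_add, zpow_add]))
  refine ⟨h, ?_⟩
  rw [singMap, ← Category.assoc]
  congr 1
  refine (chars D).inj fun w => ?_
  rw [show w = Multiplicative.ofAdd w.toAdd from rfl, ch_sing, hh, ht]
  rfl

/-- Centralising cell points have coordinates on `±c` only. -/
theorem cell_centralises [D.P.IsReduced] {n m : ℕ} (eneg : Fin n → D.idx) (epos : Fin m → D.idx) {b : D.P.Base}
    (hneg : RedSub.Enumerates (RedSub.negRoots D.P b) eneg) (hpos : RedSub.Enumerates (RedSub.posRoots D.P b) epos)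
    {X : Over S} (y : Fin n → Γ(X.left, ⊤)) (τ : X ⟶ D.T) (x : Fin m → Γ(X.left, ⊤))
    (h : Centralises D c (cellPt D eneg epos y τ x)) :
    (∀ i, eneg i ≠ c → eneg i ≠ D.P.reflectionPerm c c → y i = 0) ∧
      (∀ i, epos i ≠ c → epos i ≠ D.P.reflectionPerm c c → x i = 0) := by
  have key : ∀ d, d ≠ c → d ≠ D.P.reflectionPerm c c → ∃ g : D.M →+ ℤ, g (proj D c (D.P.root d)) ≠ 0 :=
    fun d h1 h2 => by
    by_contra hc
    push Not at hc
    have h0 : (2 : ℤ) • D.P.root d + (-co D c (D.P.root d)) • D.P.root c = 0 := by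
      rw [neg_smul, ← sub_eq_add_neg]; exact eq_zero_of_functionals D _ hc
    rcases RootPairing.IsReduced.eq_or_eq_neg (P := D.P) d c (fun hli => by
      have := LinearIndependent.pair_iff.1 hli _ _ h0
      omega) with h' | h'
    · exact h1 (D.P.root.injective h')
    · exact h2 (root_eq_ng D.P h')
  have main := fun g : D.M →+ ℤ => coord_eq_zero' D eneg epos hneg hpos y τ x (g.comp (proj D c).toAddMonoidHom)
    fun X' e v t ht => by
      obtain ⟨q, hq⟩ := exists_sing_pt D c g v t ht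
      rw [← hq, mul_inv_eq_iff_eq_mul]
      exact (h X' e q).symm
  exact ⟨fun i h1 h2 => (key _ h1 h2).elim fun g hg => (main g).1 i hg,
    fun i h1 h2 => (key _ h1 h2).elim fun g hg => (main g).2 i hg⟩

/-- The rank one subgroup of a root: a group with the cell of `c`. -/
structure RootSub where
  /-- the group -/
  Z : Over S
  /-- its law -/
  [grp : GrpObj Z]
  /-- the inclusion -/
  z : Z ⟶ G
  cent : Red.IsCentralizerOf (singMap D c) z
  /-- the torus -/
  i : D.T ⟶ Z
  i_z : i ≫ z = D.i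
  /-- the root group -/
  pp : Red.Ga S ⟶ Z
  pp_z : pp ≫ z = D.u c
  /-- the opposite root group -/
  pm : Red.Ga S ⟶ Z
  pm_z : pm ≫ z = D.u (D.P.reflectionPerm c c)
  cellular : RankOne16.Cellular i (rootChar D c) pp pm
  rig : RankOne16.Rig Z

attribute [instance] RootSub.grp

set_option maxHeartbeats 800000 in
/-- **The rank one subgroup of a root exists.** -/
theorem nonempty_rootSub [D.P.IsReduced] : Nonempty (RootSub D c) := by
  classical
  haveI := D.fintypeIdx
  haveI := torsionFree D.P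
  haveI := D.maximalTorus.1
  haveI := D.maximalTorus.2.1
  haveI := (D.rootHom c).1
  haveI := (D.rootHom (D.P.reflectionPerm c c)).1
  haveI := D.reductive.1
  haveI := D.reductive.2.1
  haveI := isMonHom_singMap D c
  haveI : LocallyOfFinitePresentation G.hom := inferInstance
  haveI : QuasiCompact G.hom := inferInstance
  haveI : QuasiSeparated G.hom := inferInstance
  obtain ⟨⟨Z, gZ, z, hcent, -, hsm⟩, -⟩ := Groth.Agent.S3006.result S G (singQ D c) (singMap D c)
    (isClosedImmersion_singMap D c) (isTorus_singQ D c)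
  letI := gZ
  haveI := hcent.1
  haveI := hcent.2.1
  -- a base in which `c` is positive
  obtain ⟨b, hb⟩ := RootClosed19.exists_subset_posRoots (P := D.P) (S := {c})
    (by
      intro i j k hi hj hk
      rw [Set.mem_singleton_iff] at hi hj
      rw [hi, hj] at hk
      exact absurd (hk.trans (two_zsmul _).symm) (RootComb21.root_ne_two_smul c k))
    (by rintro a rfl; exact ng_ne D.P a)
  have hcpos : c ∈ RedSub.posRoots D.P b := hb rfl
  have hcneg : D.P.reflectionPerm c c ∈ RedSub.negRoots D.P b := (RootComb21.mem_negRoots_iff_ng b _).2 (by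
    rw [show RootDLib.ng D.P (D.P.reflectionPerm c c) = c by simp]
    exact hcpos)
  obtain ⟨n, m, eneg, epos, hneg, hpos⟩ := exists_enum D b
  obtain ⟨i₀, hi₀⟩ := (hneg.2.symm ▸ hcneg : D.P.reflectionPerm c c ∈ Set.range eneg)
  obtain ⟨j₀, hj₀⟩ := (hpos.2.symm ▸ hcpos : c ∈ Set.range epos)
  obtain ⟨i, hi⟩ := (hcent.2.2 D.T D.i).2 (by
    have h := centralises_torus D c (𝟙 D.T); rwa [Category.id_comp] at h)
  have hcu : ∀ d, proj D c (D.P.root d) = 0 → ∃ p : Red.Ga S ⟶ Z, p ≫ z = D.u d := fun d hd =>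
    (hcent.2.2 _ (D.u d)).2 (by
      have h := centralises_P D c d hd (Red.gaFn (𝟙 (Red.Ga S)))
      rwa [← RankOne.comp_eq_P, Category.id_comp] at h)
  obtain ⟨pp, hpp⟩ := hcu c (proj_root D c)
  obtain ⟨pm, hpm⟩ := hcu _ (proj_neg D c)
  have hhom : ∀ {A : Over S} [GrpObj A] (f : A ⟶ Z) (g : A ⟶ G) [IsMonHom g], f ≫ z = g → IsMonHom f :=
    fun {A} _ f g _ h => TorsorSch25.isMonHom_of_points f fun T a a' => (cancel_mono z).1 (by
      simp only [MonObj.mul_comp, Category.assoc, h])
  haveI : IsMonHom i := hhom i D.i hi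
  haveI : IsMonHom pp := hhom pp (D.u c) hpp
  haveI : IsMonHom pm := hhom pm (D.u (D.P.reflectionPerm c c)) hpm
  -- the cell
  have hcz : ∀ {X : Over S} (a : Γ(X.left, ⊤)) (t : X ⟶ D.T) (e : Γ(X.left, ⊤)),
      RankOne16.cell i pp pm a t e ≫ z = cellPt D eneg epos (Pi.single i₀ a) t (Pi.single j₀ e) := fun {X} a t e => by
    rw [cellPt_eq, rp_single D eneg _ i₀ (fun j hj => Pi.single_eq_of_ne hj _),
      rp_single D epos _ j₀ (fun j hj => Pi.single_eq_of_ne hj _), Pi.single_eq_same, Pi.single_eq_same, hi₀, hj₀,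
      RankOne16.cell, MonObj.mul_comp, MonObj.mul_comp, _root_.mul_assoc]
    simp only [RankOne.P, Category.assoc, hpp, hpm, hi]
  have hcentr : ∀ {X : Over S} (g : X ⟶ Z), (∀ p, g.left p ∈ z.left ⁻¹ᵁ (haveI := isOpenImmersion_cellMap D b eneg epos hneg hpos; (RedSub.cellMap D eneg epos).left.opensRange)) →
      ∃ a t e, g = RankOne16.cell i pp pm a t e := fun {X} g hg => by
    obtain ⟨y, τ, x, hy⟩ := exists_cellPt D eneg epos hneg hpos (g ≫ z) fun p => hg p
    obtain ⟨h1, h2⟩ := cell_centralises D c eneg epos hneg hpos y τ x (by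
      rw [← hy]; exact (hcent.2.2 X (g ≫ z)).1 ⟨g, rfl⟩)
    refine ⟨y i₀, τ, x j₀, (cancel_mono z).1 ?_⟩
    rw [hy, hcz]
    congr 1
    · funext k
      by_cases hk : k = i₀
      · subst hk; rw [Pi.single_eq_same]
      · rw [Pi.single_eq_of_ne hk]
        refine h1 k (fun h => (RootComb21.mem_negRoots_iff b c).1 (h ▸ hneg.2 ▸ ⟨k, rfl⟩) hcpos)
          fun h => hk (hneg.1 (h.trans hi₀.symm))
    · funext k
      by_cases hk : k = j₀
      · subst hk; rw [Pi.single_eq_same]
      · rw [Pi.single_eq_of_ne hk]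
        refine h2 k (fun h => hk (hpos.1 (h.trans hj₀.symm)))
          fun h => (RootComb21.mem_negRoots_iff b _).1 hcneg (h ▸ hpos.2 ▸ ⟨k, rfl⟩)
  haveI := isOpenImmersion_cellMap D b eneg epos hneg hpos
  let Dm := (Red.Ga S ⊗ D.T) ⊗ Red.Ga S
  let κ : Dm ⟶ Z := RankOne16.cellMap i pp pm
  let UZ : Z.left.Opens := z.left ⁻¹ᵁ (RedSub.cellMap D eneg epos).left.opensRange
  let UO : Over S := Over.mk (UZ.ι ≫ Z.hom)
  let j : UO ⟶ Z := Over.homMk UZ.ι
  haveI : IsOpenImmersion j.left := inferInstanceAs (IsOpenImmersion UZ.ι)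
  haveI : Mono j := Over.mono_of_mono_left _
  have hκ : ∀ {X : Over S} (a : Γ(X.left, ⊤)) (t : X ⟶ D.T) (e : Γ(X.left, ⊤)),
      RankOne16.cell i pp pm a t e = lift (lift (GaPts.ptOfFn a) t) (GaPts.ptOfFn e) ≫ κ := fun a t e =>
    RankOne16.cell_eq i pp pm a t e
  obtain ⟨a, t, e, hj⟩ := hcentr j fun p => p.2
  let r : UO ⟶ Dm := lift (lift (GaPts.ptOfFn a) t) (GaPts.ptOfFn e)
  have hrκ : r ≫ κ = j := by rw [hj, hκ]
  have hid : (𝟙 Dm) = lift (lift (GaPts.ptOfFn (Red.gaFn (fst (Red.Ga S ⊗ D.T) (Red.Ga S) ≫ fst _ _)))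
      (fst (Red.Ga S ⊗ D.T) (Red.Ga S) ≫ snd _ _)) (GaPts.ptOfFn (Red.gaFn (snd (Red.Ga S ⊗ D.T) (Red.Ga S)))) := by
    rw [GaPts.gaFn_injective (GaPts.gaFn_ptOfFn (Red.gaFn (fst (Red.Ga S ⊗ D.T) (Red.Ga S) ≫ fst _ _))),
      GaPts.gaFn_injective (GaPts.gaFn_ptOfFn (Red.gaFn (snd (Red.Ga S ⊗ D.T) (Red.Ga S))))]
    ext <;> simp [Dm]
  have hκmem : ∀ p, κ.left p ∈ UZ := fun p => by
    have h : κ = RankOne16.cell i pp pm _ _ _ := (Category.id_comp κ).symm.trans ((congrArg (· ≫ κ) hid).trans (hκ _ _ _).symm)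
    show z.left (κ.left p) ∈ Set.range (RedSub.cellMap D eneg epos).left
    rw [← Scheme.Hom.comp_apply, ← Over.comp_left, h, hcz]
    exact cellPt_mem D eneg epos _ _ _ p
  let e' : Dm ⟶ UO := Over.homMk (IsOpenImmersion.lift UZ.ι κ.left (by
    rintro _ ⟨p, rfl⟩; exact ⟨⟨κ.left p, hκmem p⟩, rfl⟩)) (by
      show _ ≫ UZ.ι ≫ Z.hom = _
      rw [IsOpenImmersion.lift_fac_assoc, Over.w κ])
  have he'j : e' ≫ j = κ := Over.OverMorphism.ext (IsOpenImmersion.lift_fac _ _ _)
  have hmono : ∀ {X : Over S} (f g : X ⟶ Dm), f ≫ κ = g ≫ κ → f = g := fun {X} f g h => by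
    have hf : ∀ (f : X ⟶ Dm), ∃ a t e, f = lift (lift (GaPts.ptOfFn a) t) (GaPts.ptOfFn e) := fun f =>
      ⟨Red.gaFn (f ≫ fst _ _ ≫ fst _ _), f ≫ fst _ _ ≫ snd _ _, Red.gaFn (f ≫ snd _ _), by
        rw [GaPts.gaFn_injective (GaPts.gaFn_ptOfFn (Red.gaFn (f ≫ fst _ _ ≫ fst _ _))),
          GaPts.gaFn_injective (GaPts.gaFn_ptOfFn (Red.gaFn (f ≫ snd _ _)))]
        ext <;> simp [Dm]⟩
    obtain ⟨a1, t1, e1, rfl⟩ := hf f
    obtain ⟨a2, t2, e2, rfl⟩ := hf g
    rw [← hκ, ← hκ] at h
    have h' := congrArg (· ≫ z) h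
    simp only [hcz] at h'
    obtain ⟨h1, h2, h3⟩ := cellPt_inj D eneg epos hneg hpos h'
    have h1' := congrFun h1 i₀
    have h3' := congrFun h3 j₀
    simp only [Pi.single_eq_same] at h1' h3'
    rw [h1', h2, h3']
  haveI : IsIso e' := ⟨r, hmono _ _ (by rw [Category.assoc, hrκ, he'j, Category.id_comp]),
    (cancel_mono j).1 (by rw [Category.assoc, he'j, hrκ, Category.id_comp])⟩
  haveI : IsIso e'.left := ((Over.forget _).mapIso (asIso e')).isIso_hom
  have hΩ : IsOpenImmersion κ.left := by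
    rw [← he'j, Over.comp_left]
    infer_instance
  haveI : Mono pp := by
    haveI := mono_u D c
    exact mono_of_mono_fac hpp
  haveI : Mono pm := by
    haveI := mono_u D (D.P.reflectionPerm c c)
    exact mono_of_mono_fac hpm
  have hK : RankOne16.Cellular i (rootChar D c) pp pm := by
    refine ⟨inferInstance, inferInstance, inferInstance, inferInstance, D.maximalTorus.2.2.1, rootChar_ne_one D c,
      fun X t x => ?_, fun X t y => ?_, hΩ⟩
    · obtain ⟨x', h1, h2⟩ := (D.rootHom c).2.2 X t x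
      refine ⟨x', (cancel_mono z).1 ?_, h2⟩
      simpa only [MonObj.mul_comp, GrpObj.inv_comp, Category.assoc, hi, hpp] using h1
    · obtain ⟨y', h1, h2⟩ := conj_neg D c X t y
      refine ⟨y', (cancel_mono z).1 ?_, h2⟩
      simpa only [MonObj.mul_comp, GrpObj.inv_comp, Category.assoc, hi, hpm] using h1
  have hrig : RankOne16.Rig Z := by
    refine ⟨hsm, PureSmooth29.neutralSet_eq_univ fun s => RankOne16.connectedSpace_fibre_of_geomFibre Z s ?_⟩
    obtain ⟨ha, hs, hco, -⟩ := D.reductive.2.2 s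
    haveI := ha
    haveI := hs
    haveI := hco
    haveI := mono_singMap D c
    exact Groth.Agent.S3908.result _ (Red.geomFibre s G) (Red.bc (Red.geomPt s) (singQ D c))
      ((Over.pullback (Red.geomPt s)).map (singMap D c)) (TorusHom19.isTorus_bc (isTorus_singQ D c) _)
      (Red.geomFibre s Z) ((Over.pullback (Red.geomPt s)).map z) (TorPts21.isCentralizerOf_bc (Red.geomPt s) hcent)
  exact ⟨⟨Z, z, hcent, i, hi, pp, hpp, pm, hpm, hK, hrig⟩⟩

end Groth.Agent.RedCell16
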