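import Groth.Agent.Lib.RedCell16.Unip

/-!
# The tail filtration of the positive unipotent group of a total order
-/

set_option autoImplicit false
set_option linter.style.haveILetI false
set_option linter.unusedSimpArgs false
set_option linter.unusedSectionVars false
set_option backward.isDefEq.respectTransparency false
set_option backward.isDefEq.respectTransparency.types false

universe u

open CategoryTheory CategoryTheory.Limits MonoidalCategory CartesianMonoidalCategory MonObj AlgebraicGeometry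

noncomputable section

namespace Groth.Agent.RedCell16

open DiagGL RootDLib
open RankOne (P A)

variable {S : Scheme.{u}}

section Fp

variable {H : Over S} [GrpObj H] {X : Over S}

/-- The ordered product of the values of a family of homomorphisms. -/
def Fp {k : ℕ} (f : Fin k → (Red.Ga S ⟶ H)) (v : Fin k → Γ(X.left, ⊤)) : X ⟶ H :=
  (List.ofFn fun l => P (f l) (v l)).prod

theorem Fp_succ {k : ℕ} (f : Fin (k + 1) → (Red.Ga S ⟶ H)) (v : Fin (k + 1) → Γ(X.left, ⊤)) :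
    Fp f v = P (f 0) (v 0) * Fp (fun l => f l.succ) (fun l => v l.succ) := by
  rw [Fp, Fp, List.ofFn_succ, List.prod_cons]

theorem Fp_zero {k : ℕ} (f : Fin k → (Red.Ga S ⟶ H)) (hf : ∀ l, IsMonHom (f l)) :
    Fp f (0 : Fin k → Γ(X.left, ⊤)) = 1 := by
  refine List.prod_eq_one fun x hx => ?_
  obtain ⟨l, rfl⟩ := List.mem_ofFn.1 hx
  haveI := hf l
  exact RankOne.P_zero

theorem Fp_split : ∀ {k : ℕ} (f : Fin k → (Red.Ga S ⟶ H)), (∀ l, IsMonHom (f l)) →
    ∀ (v : Fin k → Γ(X.left, ⊤)) (l₀ : Fin k), (∀ l, l < l₀ → v l = 0) →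
      Fp f v = P (f l₀) (v l₀) * Fp f (Function.update v l₀ 0)
  | 0, _, _, _, l₀, _ => l₀.elim0
  | k + 1, f, hf, v, l₀, hv => by
    refine Fin.cases (fun hv => ?_) (fun l₁ hv => ?_) l₀ hv
    · haveI := hf 0
      rw [Fp_succ f v, Fp_succ f (Function.update v 0 0), Function.update_self, RankOne.P_zero, _root_.one_mul]
      congr 2
    · haveI := hf 0
      rw [Fp_succ f v, Fp_succ f (Function.update v l₁.succ 0), hv 0 (Fin.succ_pos l₁),
        Function.update_of_ne (Fin.succ_ne_zero l₁).symm, hv 0 (Fin.succ_pos l₁), RankOne.P_zero,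
        _root_.one_mul, _root_.one_mul,
        Fp_split (fun l => f l.succ) (fun l => hf _) (fun l => v l.succ) l₁
          fun l hl => hv l.succ (Fin.succ_lt_succ_iff.2 hl)]
      congr 3
      funext l
      by_cases h : l = l₁
      · subst h; simp
      · rw [Function.update_of_ne h, Function.update_of_ne (fun h' => h (Fin.succ_injective _ h'))]

theorem Fp_single {k : ℕ} (f : Fin k → (Red.Ga S ⟶ H)) (hf : ∀ l, IsMonHom (f l)) (l₀ : Fin k)
    (a : Γ(X.left, ⊤)) : Fp f (Pi.single l₀ a) = P (f l₀) a := by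
  rw [Fp_split f hf _ l₀ fun l hl => Pi.single_eq_of_ne (M := fun _ : Fin k => Γ(X.left, ⊤)) hl.ne a, Pi.single_eq_same,
    show Function.update (Pi.single l₀ a) l₀ 0 = (0 : Fin k → Γ(X.left, ⊤)) from funext fun l => by
      by_cases h : l = l₀
      · subst h; simp
      · rw [Function.update_of_ne h, Pi.single_eq_of_ne h]; rfl,
    Fp_zero f hf, _root_.mul_one]

theorem comp_Fp {Y : Over S} (g : Y ⟶ X) : ∀ {k : ℕ} (f : Fin k → (Red.Ga S ⟶ H)) (v : Fin k → Γ(X.left, ⊤)),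
    g ≫ Fp f v = Fp f fun l => g.left.appTop (v l)
  | 0, f, v => by simp [Fp, MonObj.comp_one]
  | k + 1, f, v => by rw [Fp_succ, MonObj.comp_mul, RankOne.comp_P, comp_Fp g, ← Fp_succ f (fun l => g.left.appTop (v l))]

theorem Fp_pts {k : ℕ} (f : Fin k → (Red.Ga S ⟶ H)) (x : Fin k → (X ⟶ Red.Ga S)) :
    (List.ofFn fun l => x l ≫ f l).prod = Fp f fun l => Red.gaFn (x l) := by
  rw [Fp]
  congr 2
  funext l
  rw [RankOne.P, GaPts.gaFn_injective (GaPts.gaFn_ptOfFn (T := X) (Red.gaFn (x l)))]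

theorem Fp_append {k k' : ℕ} (f : Fin (k + k') → (Red.Ga S ⟶ H)) (v : Fin (k + k') → Γ(X.left, ⊤)) :
    Fp f v = Fp (fun l => f (Fin.castAdd k' l)) (fun l => v (Fin.castAdd k' l)) *
      Fp (fun l => f (Fin.natAdd k l)) (fun l => v (Fin.natAdd k l)) := by
  rw [Fp, Fp, Fp, ← List.prod_append, ← List.ofFn_fin_append]
  congr 2
  funext i
  refine Fin.addCases (fun j => ?_) (fun j => ?_) i <;> simp

/-- A product supported on a tail is the product along the tail. -/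
theorem Fp_tail {N i m : ℕ} (h : i + m = N) (f : Fin N → (Red.Ga S ⟶ H)) (hf : ∀ l, IsMonHom (f l))
    (v : Fin N → Γ(X.left, ⊤)) (hv : ∀ l : Fin N, (l : ℕ) < i → v l = 0) :
    Fp f v = Fp (fun l => f (Fin.cast h (Fin.natAdd i l))) fun l => v (Fin.cast h (Fin.natAdd i l)) := by
  subst h
  rw [Fp_append, show (fun l : Fin i => v (Fin.castAdd m l)) = 0 from funext fun l => hv _ l.2,
    Fp_zero _ (fun l => hf _), _root_.one_mul]
  rfl

end Fp

variable {G : Over S} [GrpObj G] (D : Red.SplitRed G)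

theorem rp_eq_Fp {X : Over S} {k : ℕ} (e : Fin k → D.idx) (v : Fin k → Γ(X.left, ⊤)) :
    rp D e v = Fp (fun l => D.u (e l)) v := rp_eq_prod D X e v

theorem rp_mem_gens_of_supp {R : Set D.idx} {X : Over S} : ∀ {k : ℕ} (e : Fin k → D.idx)
    (v : Fin k → Γ(X.left, ⊤)), (∀ l, e l ∈ R ∨ v l = 0) → rp D e v ∈ gens D R X
  | 0, e, v, _ => by
    rw [show v = 0 from funext fun i => i.elim0, rp_zero_fn]
    exact Subgroup.one_mem _
  | k + 1, e, v, h => by
    rw [rp_succ]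
    refine Subgroup.mul_mem _ ?_ (rp_mem_gens_of_supp _ _ fun l => h l.succ)
    rcases h 0 with h0 | h0
    · exact P_mem_gens D h0 _
    · haveI := (D.rootHom (e 0)).1
      rw [h0, RankOne.P_zero]
      exact Subgroup.one_mem _

theorem exists_ordBase [D.P.IsReduced] [LinearOrder D.M] [IsOrderedAddMonoid D.M] :
    ∃ b : D.P.Base, RedSub.posRoots D.P b = {a | 0 < D.P.root a} := by
  haveI := D.fintypeIdx
  obtain ⟨b₀⟩ := RootClosed19.nonempty_base (P := D.P)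
  have h0 : ∀ a, D.P.root a ≠ 0 := fun a => D.P.ne_zero a
  obtain ⟨b, hb⟩ := RootComb21.exists_posRoots_subset b₀ (S := {a : D.idx | 0 < D.P.root a})
    (fun i j k hi hj hk => by
      show 0 < D.P.root k
      rw [hk]
      exact add_pos hi hj)
    (fun a => by
      rcases lt_or_gt_of_ne (h0 a) with h | h
      · exact Or.inr (show 0 < D.P.root (ng D.P a) by rw [root_ng]; exact neg_pos.2 h)
      · exact Or.inl h)
  refine ⟨b, hb.antisymm fun c hc => ?_⟩
  by_contra hn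
  have h1 : 0 < D.P.root (ng D.P c) :=
    hb ((RootComb21.mem_negRoots_iff_ng b c).1 ((RootComb21.mem_negRoots_iff b c).2 hn))
  rw [root_ng] at h1
  exact absurd hc (not_lt.2 (neg_pos.1 h1).le)

variable [LinearOrder D.M] [IsOrderedAddMonoid D.M]

/-- An increasing enumeration of the positive roots of a total order. -/
structure IsOrdEnum {N : ℕ} (e : Fin N → D.idx) : Prop where
  inj : Function.Injective e
  range : ∀ a : D.idx, a ∈ Set.range e ↔ 0 < D.P.root a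
  mono : StrictMono fun k => D.P.root (e k)

variable {N : ℕ} (e : Fin N → D.idx)

/-- The roots of a tail. -/
def Tl (k : ℕ) : Set D.idx := {d | ∃ l : Fin N, k ≤ (l : ℕ) ∧ e l = d}

theorem Tl_anti {k k' : ℕ} (h : k ≤ k') : Tl D e k' ⊆ Tl D e k := fun _ ⟨l, hl, hd⟩ => ⟨l, h.trans hl, hd⟩

theorem Tl_zero : Tl D e 0 = Set.range e := Set.ext fun d => ⟨fun ⟨l, _, h⟩ => ⟨l, h⟩, fun ⟨l, h⟩ => ⟨l, Nat.zero_le _, h⟩⟩

variable {D e} (O : IsOrdEnum D e)

include O

theorem IsOrdEnum.comb {p q d : D.idx} {i j k : ℕ} (hp : p ∈ Set.range e) (hq : q ∈ Tl D e k)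
    (h : IsComb D p q d i j) : d ∈ Tl D e (k + 1) := by
  obtain ⟨l, hl, rfl⟩ := hq
  have hp' := (O.range p).1 hp
  have hq' := (O.range (e l)).1 ⟨l, rfl⟩
  obtain ⟨i', rfl⟩ : ∃ i', i = i' + 1 := ⟨i - 1, by have := h.1; omega⟩
  obtain ⟨j', rfl⟩ : ∃ j', j = j' + 1 := ⟨j - 1, by have := h.2.1; omega⟩
  have hd : D.P.root d = (i' • D.P.root p + D.P.root p) + (j' • D.P.root (e l) + D.P.root (e l)) := by
    rw [h.2.2, natCast_zsmul, natCast_zsmul, succ_nsmul, succ_nsmul]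
  have h1 : D.P.root (e l) < D.P.root d := by
    rw [hd]
    exact lt_add_of_pos_of_le (add_pos_of_nonneg_of_pos (nsmul_nonneg hp'.le _) hp')
      (le_add_of_nonneg_left (nsmul_nonneg hq'.le _))
  obtain ⟨l', rfl⟩ := (O.range d).2 (hq'.trans h1)
  exact ⟨l', Nat.succ_le_of_lt (lt_of_le_of_lt hl (O.mono.lt_iff_lt.1 h1)), rfl⟩

theorem IsOrdEnum.not_mem_Tl {k : ℕ} {l : Fin N} (hl : (l : ℕ) < k) : e l ∉ Tl D e k :=
  fun ⟨l', h, he⟩ => absurd h (by rw [O.inj he]; omega)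

variable [D.P.IsReduced]

theorem IsOrdEnum.enumerates {b : D.P.Base} (hb : RedSub.posRoots D.P b = {a | 0 < D.P.root a}) :
    RedSub.Enumerates (RedSub.posRoots D.P b) e :=
  ⟨O.inj, by rw [hb]; exact Set.ext O.range⟩

theorem IsOrdEnum.comm_mem {p q : D.idx} {k : ℕ} (hp : p ∈ Set.range e) (hq : q ∈ Tl D e k)
    {X : Over S} (x y : Γ(X.left, ⊤)) : comm D p q x y ∈ gens D (Tl D e (k + 1)) X := by
  obtain ⟨b, hb⟩ := exists_ordBase D
  obtain ⟨n, eneg, hneg⟩ := exists_enum_set D (RedSub.negRoots D.P b)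
  obtain ⟨i, j, C, -, hC, hc⟩ := exists_comm_coeff D eneg e hneg (O.enumerates hb) p q
    (hb ▸ (O.range p).1 hp) (hb ▸ (O.range q).1 ⟨_, hq.choose_spec.2⟩)
  rw [hc]
  refine rp_mem_gens_of_supp D e _ fun l => ?_
  by_cases hcb : IsComb D p q (e l) (i l) (j l)
  · exact Or.inl (O.comb hp hq hcb)
  · exact Or.inr (by rw [hC X l hcb, zero_mul, zero_mul])

theorem IsOrdEnum.conj_mem {k : ℕ} {X : Over S} {g w : X ⟶ G} (hg : g ∈ gens D (Set.range e) X)
    (hw : w ∈ gens D (Tl D e k) X) : g * w * g⁻¹ ∈ gens D (Tl D e k) X := by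
  suffices H : ∀ w ∈ gens D (Tl D e k) X,
      g * w * g⁻¹ ∈ gens D (Tl D e k) X ∧ g⁻¹ * w * g ∈ gens D (Tl D e k) X from (H w hw).1
  have gen : ∀ (p : D.idx) (a : Γ(X.left, ⊤)), p ∈ Set.range e → ∀ w ∈ gens D (Tl D e k) X,
      P (D.u p) a * w * (P (D.u p) a)⁻¹ ∈ gens D (Tl D e k) X := fun p a hp w hw =>
    conj_gens D _ _ (fun q hq c => by
      rw [show P (D.u p) a * P (D.u q) c * (P (D.u p) a)⁻¹ = comm D p q a c * P (D.u q) c by rw [comm]; group]
      exact mul_mem (gens_mono D (Tl_anti D e (Nat.le_succ k)) X (O.comm_mem hp hq a c)) (P_mem_gens D hq c)) hw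
  refine Subgroup.closure_induction ?_ (by simp) ?_ ?_ hg
  · rintro _ ⟨p, a, hp, rfl⟩ w hw
    haveI := (D.rootHom p).1
    refine ⟨gen p a hp w hw, ?_⟩
    have h2 := gen p (-a) hp w hw
    rwa [RankOne.P_neg, _root_.inv_inv] at h2
  · intro x y _ _ hx hy w hw
    constructor
    · rw [show x * y * w * (x * y)⁻¹ = x * (y * w * y⁻¹) * x⁻¹ by group]
      exact (hx _ (hy w hw).1).1
    · rw [show (x * y)⁻¹ * w * (x * y) = y⁻¹ * (x⁻¹ * w * x) * y by group]
      exact (hy _ (hx w hw).2).2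
  · intro x _ hx w hw
    rw [_root_.inv_inv]
    exact ⟨(hx w hw).2, (hx w hw).1⟩

theorem IsOrdEnum.central {k : ℕ} {X : Over S} {g : X ⟶ G} (hg : g ∈ gens D (Set.range e) X) {q : D.idx}
    (hq : q ∈ Tl D e k) (c : Γ(X.left, ⊤)) :
    g * P (D.u q) c * g⁻¹ * (P (D.u q) c)⁻¹ ∈ gens D (Tl D e (k + 1)) X := by
  refine Subgroup.closure_induction ?_ (by simp) ?_ ?_ hg
  · rintro _ ⟨p, a, hp, rfl⟩
    exact O.comm_mem hp hq a c
  · intro x y hxm _ hx hy
    set z := P (D.u q) c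
    rw [show x * y * z * (x * y)⁻¹ * z⁻¹ = (x * (y * z * y⁻¹ * z⁻¹) * x⁻¹) * (x * z * x⁻¹ * z⁻¹) by group]
    exact mul_mem (O.conj_mem hxm hy) hx
  · intro x hxm hx
    set z := P (D.u q) c
    rw [show x⁻¹ * z * x⁻¹⁻¹ * z⁻¹ = x⁻¹ * (x * z * x⁻¹ * z⁻¹)⁻¹ * x⁻¹⁻¹ by group]
    exact O.conj_mem (inv_mem hxm) (inv_mem hx)

theorem IsOrdEnum.mem_range_gens {k : ℕ} {X : Over S} {w : X ⟶ G} (hw : w ∈ gens D (Tl D e k) X) :
    w ∈ gens D (Set.range e) X :=
  gens_mono D (R' := Set.range e) (fun _ hd => ⟨hd.choose, hd.choose_spec.2⟩) X hw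

theorem IsOrdEnum.exists_coords {k : ℕ} {X : Over S} {w : X ⟶ G} (hw : w ∈ gens D (Tl D e k) X) :
    ∃ z : Fin N → Γ(X.left, ⊤), (∀ l : Fin N, (l : ℕ) < k → z l = 0) ∧ w = rp D e z := by
  obtain ⟨b, hb⟩ := exists_ordBase D
  obtain ⟨n, eneg, hneg⟩ := exists_enum_set D (RedSub.negRoots D.P b)
  have hR : ∀ d ∈ Tl D e k, d ∈ RedSub.posRoots D.P b := fun d ⟨l, _, h⟩ => hb ▸ (O.range d).1 ⟨l, h⟩
  have hw' : w ∈ fil D (Tl D e k) X b 0 := by
    refine (Subgroup.closure_le _).2 ?_ hw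
    rintro _ ⟨d, a, hd, rfl⟩
    exact P_mem_fil D _ X hd (height_pos D (hR d hd)).le a
  obtain ⟨z, hz, hzv⟩ := exists_rp_mul D eneg e hneg (O.enumerates hb) (Tl D e k) hR
    (fun p q d i j hp hq h => Tl_anti D e (Nat.le_succ k) (O.comb ⟨_, hp.choose_spec.2⟩ hq h))
    X e (fun d ⟨l, _, h⟩ => ⟨l, h⟩) le_rfl 0 (fun _ _ => rfl) hw'
  exact ⟨z, fun l hl => hz l fun h => O.not_mem_Tl hl h.1,
    by rw [rp_zero_fn, _root_.one_mul, zero_add] at hzv; exact hzv⟩

theorem IsOrdEnum.rp_inj {X : Over S} {v v' : Fin N → Γ(X.left, ⊤)} (h : rp D e v = rp D e v') : v = v' := by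
  obtain ⟨b, hb⟩ := exists_ordBase D
  obtain ⟨n, eneg, hneg⟩ := exists_enum_set D (RedSub.negRoots D.P b)
  exact RedCell16.rp_inj D eneg e hneg (O.enumerates hb) (RedSub.posRoots D.P b) (fun _ h => h)
    (fun p q d i j => posRoots_comb D b) X e O.inj (fun l => hb ▸ (O.range _).1 ⟨l, rfl⟩) v v' h

theorem IsOrdEnum.rp_mem {k : ℕ} {X : Over S} {v : Fin N → Γ(X.left, ⊤)}
    (hv : ∀ l : Fin N, (l : ℕ) < k → v l = 0) : rp D e v ∈ gens D (Tl D e k) X :=
  rp_mem_gens_of_supp D e v fun l => by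
    by_cases hl : (l : ℕ) < k
    · exact Or.inr (hv l hl)
    · exact Or.inl ⟨l, not_lt.1 hl, rfl⟩

omit O [D.P.IsReduced] in
/-- The product of a vector supported on a tail splits off its first factor. -/
theorem rp_split_first {X : Over S} {k : ℕ} (hk : k < N) (v : Fin N → Γ(X.left, ⊤))
    (hv : ∀ l : Fin N, (l : ℕ) < k → v l = 0) :
    rp D e v = P (D.u (e ⟨k, hk⟩)) (v ⟨k, hk⟩) * rp D e (Function.update v ⟨k, hk⟩ 0) := by
  rw [rp_eq_Fp, rp_eq_Fp]
  exact Fp_split _ (fun l => (D.rootHom (e l)).1) v ⟨k, hk⟩ fun l hl => hv l hl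

omit O [D.P.IsReduced] in
theorem supp_update {X : Over S} {k : ℕ} (hk : k < N) (v : Fin N → Γ(X.left, ⊤))
    (hv : ∀ l : Fin N, (l : ℕ) < k → v l = 0) :
    ∀ l : Fin N, (l : ℕ) < k + 1 → Function.update v ⟨k, hk⟩ 0 l = 0 := fun l hl => by
  by_cases h : l = ⟨k, hk⟩
  · subst h; simp
  · rw [Function.update_of_ne h]
    exact hv l (lt_of_le_of_ne (Nat.le_of_lt_succ hl) fun h' => h (Fin.ext h'))

/-- Conjugation by a positive element does not change the first factor of a tail. -/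
theorem IsOrdEnum.exists_conj_coords {k : ℕ} {X : Over S} {g : X ⟶ G} (hg : g ∈ gens D (Set.range e) X)
    {v : Fin N → Γ(X.left, ⊤)} (hv : ∀ l : Fin N, (l : ℕ) < k → v l = 0) :
    ∃ z : Fin N → Γ(X.left, ⊤), (∀ l : Fin N, (l : ℕ) < k → z l = 0) ∧
      rp D e z = g * rp D e v * g⁻¹ ∧ ∀ l : Fin N, (l : ℕ) = k → z l = v l := by
  by_cases hk : k < N
  · set a := P (D.u (e ⟨k, hk⟩)) (v ⟨k, hk⟩) with ha
    set r := rp D e (Function.update v ⟨k, hk⟩ 0) with hr
    have hav : a ∈ gens D (Tl D e k) X := P_mem_gens D (show e ⟨k, hk⟩ ∈ Tl D e k from ⟨⟨k, hk⟩, le_rfl, rfl⟩) _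
    have hw : a⁻¹ * (g * a * g⁻¹ * a⁻¹) * a⁻¹⁻¹ * (g * r * g⁻¹) ∈ gens D (Tl D e (k + 1)) X :=
      mul_mem (O.conj_mem (inv_mem (O.mem_range_gens hav)) (O.central hg ⟨⟨k, hk⟩, le_rfl, rfl⟩ _))
        (O.conj_mem hg (O.rp_mem (supp_update hk v hv)))
    obtain ⟨z, hz, hzw⟩ := O.exists_coords hw
    have hz' : ∀ l : Fin N, (l : ℕ) < k → Function.update z ⟨k, hk⟩ (v ⟨k, hk⟩) l = 0 := fun l hl => by
      rw [Function.update_of_ne (fun h => by rw [h] at hl; exact lt_irrefl _ hl)]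
      exact hz l (by omega)
    refine ⟨Function.update z ⟨k, hk⟩ (v ⟨k, hk⟩), hz', ?_, fun l hl => ?_⟩
    · rw [rp_split_first hk _ hz', Function.update_self, Function.update_idem,
        Function.update_eq_self_iff.2 (hz ⟨k, hk⟩ (Nat.lt_succ_self k)).symm, ← hzw, rp_split_first hk v hv, ← ha, ← hr]
      group
    · rw [show l = ⟨k, hk⟩ from Fin.ext hl, Function.update_self]
  · obtain ⟨z, hz, hzw⟩ := O.exists_coords (O.conj_mem hg (O.rp_mem hv))
    exact ⟨z, hz, hzw.symm, fun l hl => absurd (hl ▸ l.2) hk⟩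

end Groth.Agent.RedCell16
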