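import Groth.Agent.Lib.RedCell16.Tail

/-!
# The polynomial group law on the positive unipotent group
-/

set_option autoImplicit false
set_option linter.style.haveILetI false
set_option linter.unusedSimpArgs false
set_option linter.unusedSectionVars false
set_option backward.isDefEq.respectTransparency false
set_option backward.isDefEq.respectTransparency.types false

universe u

open CategoryTheory CategoryTheory.Limits MonoidalCategory CartesianMonoidalCategory MonObj AlgebraicGeometry Opposite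

noncomputable section

namespace Groth.Agent.RedCell16

open DiagGL RootDLib
open RankOne (P A)

variable {S : Scheme.{u}}

/-- Evaluation of a polynomial over the base on functions of `X`. -/
def pev {σ : Type} {X : Over S} (v : σ → Γ(X.left, ⊤)) (q : MvPolynomial σ Γ(S, ⊤)) : Γ(X.left, ⊤) :=
  MvPolynomial.eval₂ X.hom.appTop.hom v q

section ext

/-- A polynomial over the base whose values vanish everywhere is zero. -/
theorem pev_ext {σ : Type} {p q : MvPolynomial σ Γ(S, ⊤)}
    (h : ∀ (X : Over S) (v : σ → Γ(X.left, ⊤)), pev v p = pev v q) : p = q := by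
  refine MvPolynomial.ext _ _ fun d => TopCat.Presheaf.IsSheaf.section_ext S.IsSheaf fun x _ => ?_
  obtain ⟨U, hU, hxU, -⟩ := exists_isAffineOpen_mem_and_subset (x := x) (U := (⊤ : S.Opens)) trivial
  refine ⟨U, le_top, hxU, ?_⟩
  let res : Γ(S, ⊤) ⟶ Γ(S, U) := S.presheaf.map (homOfLE le_top).op
  let R : CommRingCat.{u} := CommRingCat.of (MvPolynomial σ Γ(S, U))
  let c : Γ(S, U) ⟶ R := CommRingCat.ofHom MvPolynomial.C
  let X : Over S := Over.mk (Spec.map c ≫ hU.fromSpec)
  let i : R ⟶ Γ(X.left, ⊤) := (Scheme.ΓSpecIso R).inv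
  have hX : X.hom.appTop = res ≫ c ≫ i := by
    show (Spec.map c ≫ hU.fromSpec).appTop = _
    have h0 : hU.fromSpec.appTop = res ≫ (Scheme.ΓSpecIso Γ(S, U)).inv := by
      rw [Scheme.Hom.appTop, hU.fromSpec_app_of_le ⊤ le_top]
      have : (Spec Γ(S, U)).presheaf.map
          (homOfLE (le_top : hU.fromSpec ⁻¹ᵁ ⊤ ≤ (⊤ : (Spec Γ(S, U)).Opens))).op = 𝟙 _ :=
        (Spec Γ(S, U)).presheaf.map_id _
      rw [this]
      exact _ ≫= Category.comp_id _
    rw [Scheme.Hom.comp_appTop, h0, Category.assoc]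
    exact _ ≫= (Scheme.ΓSpecIso_inv_naturality c).symm
  have key : ∀ r : MvPolynomial σ Γ(S, ⊤),
      pev (fun j => i (MvPolynomial.X j)) r = i (MvPolynomial.map res.hom r) := fun r => by
    rw [pev, hX]
    induction r using MvPolynomial.induction_on with
    | C a => simp only [MvPolynomial.eval₂_C, MvPolynomial.map_C]; rfl
    | add f g hf hg => simp only [MvPolynomial.eval₂_add, map_add, hf, hg]
    | mul_X f j hf => simp only [MvPolynomial.eval₂_mul, MvPolynomial.eval₂_X, map_mul, MvPolynomial.map_X, hf]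
  have h1 := h X fun j => i (MvPolynomial.X j)
  rw [key, key] at h1
  have h2 : MvPolynomial.map res.hom p = MvPolynomial.map res.hom q :=
    (ConcreteCategory.bijective_of_isIso i).1 h1
  have h3 := congrArg (MvPolynomial.coeff d) h2
  rw [MvPolynomial.coeff_map, MvPolynomial.coeff_map] at h3
  exact h3

end ext

theorem Fp_cut {H : Over S} [GrpObj H] {X : Over S} : ∀ {k : ℕ} (f : Fin k → (Red.Ga S ⟶ H)),
    (∀ l, IsMonHom (f l)) → ∀ (c : ℕ) (v : Fin k → Γ(X.left, ⊤)),
      Fp f v = Fp f (fun l => if (l : ℕ) < c then v l else 0) * Fp f (fun l => if (l : ℕ) < c then 0 else v l)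
  | 0, f, _, c, v => by simp [Fp]
  | k + 1, f, hf, 0, v => by
    simp only [Nat.not_lt_zero, if_false]
    rw [show (fun _ : Fin (k + 1) => (0 : Γ(X.left, ⊤))) = 0 from rfl, Fp_zero f hf, _root_.one_mul]
  | k + 1, f, hf, c + 1, v => by
    haveI := hf 0
    rw [Fp_succ f v, Fp_succ f (fun l => if (l : ℕ) < c + 1 then v l else 0),
      Fp_succ f (fun l => if (l : ℕ) < c + 1 then 0 else v l)]
    simp only [Fin.val_zero, Nat.succ_pos, if_true, RankOne.P_zero, _root_.one_mul, Fin.val_succ,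
      Nat.add_lt_add_iff_right]
    rw [_root_.mul_assoc, ← Fp_cut (fun l => f l.succ) (fun l => hf _) c (fun l => v l.succ)]

variable {G : Over S} [GrpObj G] {D : Red.SplitRed G}

variable [LinearOrder D.M] [IsOrderedAddMonoid D.M] {N : ℕ} {e : Fin N → D.idx} {σ : Type}

/-- A family of points with polynomial coordinates supported on a tail. -/
def IsPol (e : Fin N → D.idx) (k : ℕ) (w : ∀ (X : Over S), (σ → Γ(X.left, ⊤)) → (X ⟶ G)) : Prop :=
  ∃ R : Fin N → MvPolynomial σ Γ(S, ⊤), (∀ l : Fin N, (l : ℕ) < k → R l = 0) ∧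
    ∀ X v, w X v = rp D e fun l => pev v (R l)

variable [D.P.IsReduced] (O : IsOrdEnum D e)

include O

theorem IsOrdEnum.comm_pol (k : ℕ) (hk : k < N) (l : Fin N) (hl : k + 1 ≤ (l : ℕ))
    (a c : MvPolynomial σ Γ(S, ⊤)) :
    IsPol e (k + 1) (fun _ v => comm D (e ⟨k, hk⟩) (e l) (pev v a) (pev v c)) := by
  classical
  obtain ⟨b, hb⟩ := exists_ordBase D
  obtain ⟨n, eneg, hneg⟩ := exists_enum_set D (RedSub.negRoots D.P b)
  obtain ⟨i, j, C, hnat, hC, hc⟩ := exists_comm_coeff D eneg e hneg (O.enumerates hb) (e ⟨k, hk⟩) (e l)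
    (hb ▸ (O.range _).1 (Set.mem_range_self _)) (hb ▸ (O.range _).1 (Set.mem_range_self _))
  let C₀ : Fin N → Γ(S, ⊤) := C (𝟙_ (Over S))
  refine ⟨fun r => MvPolynomial.C (C₀ r) * a ^ i r * c ^ j r, fun r hr => ?_, fun X v => ?_⟩
  · have : C₀ r = 0 := hC _ r fun hcb => O.not_mem_Tl (by omega : (r : ℕ) < (l : ℕ) + 1)
      (O.comb (Set.mem_range_self _) (show e l ∈ Tl D e l from ⟨l, le_rfl, rfl⟩) hcb)
    simp only [this, map_zero, zero_mul]
  · simp only [hc]
    congr 1
    funext r
    simp only [pev, MvPolynomial.eval₂_mul, MvPolynomial.eval₂_pow, MvPolynomial.eval₂_C]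
    rw [← hnat (𝟙_ (Over S)) X (toUnit X) r]
    congr 2

theorem IsOrdEnum.mul_pol : ∀ (t k : ℕ), N ≤ k + t →
    ∀ (w w' : ∀ (X : Over S), (σ → Γ(X.left, ⊤)) → (X ⟶ G)), IsPol e k w → IsPol e k w' →
      IsPol e k fun X v => w X v * w' X v
  | 0, k, hk, w, w', ⟨R, hR, hw⟩, ⟨R', hR', hw'⟩ => by
    refine ⟨0, fun _ _ => rfl, fun X v => ?_⟩
    have hz : ∀ Q : Fin N → MvPolynomial σ Γ(S, ⊤), (∀ l : Fin N, (l : ℕ) < k → Q l = 0) →
        rp D e (fun l => pev v (Q l)) = (1 : X ⟶ G) := fun Q hQ => by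
      rw [show (fun l => pev v (Q l)) = 0 from funext fun l => by
        rw [hQ l (by omega)]; exact MvPolynomial.eval₂_zero _ _, rp_zero_fn]
    show w X v * w' X v = _
    rw [hw, hw', hz R hR, hz R' hR', hz 0 (fun _ _ => rfl), _root_.one_mul]
  | t + 1, k, hk, w, w', ⟨R, hR, hw⟩, ⟨R', hR', hw'⟩ => by
    classical
    by_cases hk' : N ≤ k + t
    · exact mul_pol t k hk' w w' ⟨R, hR, hw⟩ ⟨R', hR', hw'⟩
    have hkN : k < N := by omega
    let κ : Fin N := ⟨k, hkN⟩
    haveI := (D.rootHom (e κ)).1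
    have IH := mul_pol t (k + 1) (by omega)
    have upd : ∀ {X : Over S} (v : σ → Γ(X.left, ⊤)) (Q : Fin N → MvPolynomial σ Γ(S, ⊤)) (c : MvPolynomial σ Γ(S, ⊤)),
        Function.update (fun l => pev v (Q l)) κ (pev v c) = fun l => pev v (Function.update Q κ c l) := fun v Q c => by
      funext l; rw [Function.apply_update fun _ => pev v]
    have upd0 : ∀ {X : Over S} (v : σ → Γ(X.left, ⊤)) (Q : Fin N → MvPolynomial σ Γ(S, ⊤)),
        Function.update (fun l => pev v (Q l)) κ 0 = fun l => pev v (Function.update Q κ 0 l) := fun v Q => by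
      rw [← upd v Q 0, show pev v (0 : MvPolynomial σ Γ(S, ⊤)) = 0 from MvPolynomial.eval₂_zero _ _]
    have split : ∀ (Q : Fin N → MvPolynomial σ Γ(S, ⊤)), (∀ l : Fin N, (l : ℕ) < k → Q l = 0) →
        IsPol e (k + 1) (fun _ v => rp D e fun l => pev v (Function.update Q κ 0 l)) ∧
        ∀ (X : Over S) (v : σ → Γ(X.left, ⊤)), rp D e (fun l => pev v (Q l)) =
          P (D.u (e κ)) (pev v (Q κ)) * rp D e fun l => pev v (Function.update Q κ 0 l) := fun Q hQ => by
      refine ⟨⟨_, fun l hl => ?_, fun _ _ => rfl⟩, fun X v => ?_⟩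
      · by_cases h : l = κ
        · subst h; simp
        · rw [Function.update_of_ne h]
          exact hQ l (lt_of_le_of_ne (Nat.le_of_lt_succ hl) fun h' => h (Fin.ext h'))
      · rw [← upd0]
        exact rp_split_first hkN _ fun l hl => by rw [hQ l hl]; exact MvPolynomial.eval₂_zero _ _
    have cons : ∀ (c : MvPolynomial σ Γ(S, ⊤)) (u : ∀ (X : Over S), (σ → Γ(X.left, ⊤)) → (X ⟶ G)),
        IsPol e (k + 1) u → IsPol e k fun X v => P (D.u (e κ)) (pev v c) * u X v := by
      rintro c u ⟨Q, hQ, hu⟩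
      have hQ' : ∀ l : Fin N, (l : ℕ) < k → Function.update Q κ c l = 0 := fun l hl => by
        rw [Function.update_of_ne (fun h => by rw [h] at hl; exact lt_irrefl k hl)]
        exact hQ l (by omega)
      refine ⟨_, hQ', fun X v => ?_⟩
      simp only [hu]
      rw [(split _ hQ').2 X v, Function.update_self, Function.update_idem]
      congr 2
      rw [← hQ κ (Nat.lt_succ_self k), Function.update_eq_self]
    have conj : ∀ (d : MvPolynomial σ Γ(S, ⊤)) {n : ℕ} (em : Fin n → Fin N) (Q : Fin n → MvPolynomial σ Γ(S, ⊤)),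
        (∀ r, k + 1 ≤ (em r : ℕ) ∨ Q r = 0) → IsPol e (k + 1) fun X v =>
          (P (D.u (e κ)) (pev v d))⁻¹ * rp D (fun r => e (em r)) (fun r => pev v (Q r)) * P (D.u (e κ)) (pev v d) := by
      intro d n
      induction n with
      | zero =>
        intro em Q _
        refine ⟨0, fun _ _ => rfl, fun X v => ?_⟩
        show _ = rp D e fun _ => pev v 0
        beta_reduce
        rw [show (fun r => pev v (Q r)) = 0 from funext fun r => r.elim0, rp_zero_fn,
          show (fun _ : Fin N => pev v (0 : MvPolynomial σ Γ(S, ⊤))) = 0 from funext fun _ => MvPolynomial.eval₂_zero _ _,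
          rp_zero_fn, _root_.mul_one, inv_mul_cancel]
      | succ n ihn =>
        intro em Q hQ
        obtain ⟨Q₁, hQ₁, hu₁⟩ : IsPol e (k + 1) fun X v =>
            (P (D.u (e κ)) (pev v d))⁻¹ * P (D.u (e (em 0))) (pev v (Q 0)) * P (D.u (e κ)) (pev v d) := by
          haveI := (D.rootHom (e (em 0))).1
          rcases hQ 0 with hl | h0
          · obtain ⟨Q', hQ', hQv⟩ := IH _ _ (O.comm_pol k hkN (em 0) hl (-d) (Q 0))
              ⟨Pi.single (em 0) (Q 0), fun r hr => Pi.single_eq_of_ne (fun h => by rw [h] at hr; omega) _,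
                fun _ _ => rfl⟩
            refine ⟨Q', hQ', fun X v => ?_⟩
            rw [← hQv X v]
            show _ = comm D (e κ) (e (em 0)) (pev v (-d)) (pev v (Q 0)) * rp D e _
            rw [rp_eq_Fp, show (fun l => pev v (Pi.single (M := fun _ => MvPolynomial σ Γ(S, ⊤)) (em 0) (Q 0) l)) =
              Pi.single (M := fun _ => Γ(X.left, ⊤)) (em 0) (pev v (Q 0)) from funext fun l =>
                Pi.apply_single (fun _ => pev v) (fun _ => MvPolynomial.eval₂_zero _ _) _ _ l,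
              Fp_single _ (fun l => (D.rootHom (e l)).1),
              show pev v (-d) = -pev v d from map_neg (MvPolynomial.eval₂Hom X.hom.appTop.hom v) d,
              comm, RankOne.P_neg]
            group
          · refine ⟨0, fun _ _ => rfl, fun X v => ?_⟩
            show _ = rp D e fun _ => pev v 0
            beta_reduce
            rw [h0, show pev v (0 : MvPolynomial σ Γ(S, ⊤)) = 0 from MvPolynomial.eval₂_zero _ _,
              show (fun _ : Fin N => (0 : Γ(X.left, ⊤))) = 0 from rfl, rp_zero_fn, RankOne.P_zero,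
              _root_.mul_one, inv_mul_cancel]
        obtain ⟨Q', hQ', hQv⟩ := IH _ _ ⟨Q₁, hQ₁, hu₁⟩ (ihn (fun r => em r.succ) (fun r => Q r.succ) fun r => hQ r.succ)
        refine ⟨Q', hQ', fun X v => ?_⟩
        rw [← hQv X v]
        beta_reduce
        rw [rp_succ]
        group
    obtain ⟨ha, hwa⟩ := split R hR
    obtain ⟨hb, hwb⟩ := split R' hR'
    have hcj := conj (R' κ) id (Function.update R κ 0) fun r => by
      by_cases h : k + 1 ≤ (r : ℕ)
      · exact Or.inl h
      · right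
        by_cases h' : r = κ
        · subst h'; simp
        · rw [Function.update_of_ne h']
          exact hR r (lt_of_le_of_ne (by omega) fun h'' => h' (Fin.ext h''))
    obtain ⟨Q, hQ, hQv⟩ := cons (R κ + R' κ) _ (IH _ _ hcj hb)
    refine ⟨Q, hQ, fun X v => ?_⟩
    rw [← hQv X v]
    simp only [hw, hw', hwa X v, hwb X v, id,
      show pev v (R κ + R' κ) = pev v (R κ) + pev v (R' κ) from MvPolynomial.eval₂_add _ _, RankOne.P_add]
    group

omit O in
/-- Truncation of a vector of coordinates. -/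
def trunc {X : Over S} (k : ℕ) (v : Fin N → Γ(X.left, ⊤)) : Fin N → Γ(X.left, ⊤) :=
  fun l => if (l : ℕ) < k then v l else 0

/-- Coordinates are additive modulo a tail. -/
theorem IsOrdEnum.coord_trunc {X : Over S} (k : Fin N) {x y z z₀ : Fin N → Γ(X.left, ⊤)}
    (hz : rp D e z = rp D e x * rp D e y)
    (hz₀ : rp D e z₀ = rp D e (trunc (k : ℕ) x) * rp D e (trunc (k : ℕ) y)) :
    z k = x k + y k + z₀ k := by
  classical
  haveI := (D.rootHom (e k)).1
  let p : Γ(X.left, ⊤) → (X ⟶ G) := P (D.u (e k))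
  let U := gens D (Tl D e ((k : ℕ) + 1)) X
  have hp : ∀ a, p a ∈ gens D (Set.range e) X := fun a => P_mem_gens D (Set.mem_range_self k) a
  have hcut : ∀ v : Fin N → Γ(X.left, ⊤),
      ∃ r ∈ U, rp D e v = rp D e (trunc (k : ℕ) v) * p (v k) * r := fun v => by
    let v₁ : Fin N → Γ(X.left, ⊤) := fun l => if (l : ℕ) < (k : ℕ) then 0 else v l
    have hv₁ : ∀ l : Fin N, (l : ℕ) < (k : ℕ) → v₁ l = 0 := fun l hl => if_pos hl
    refine ⟨rp D e (Function.update v₁ k 0), O.rp_mem (supp_update k.2 v₁ hv₁), ?_⟩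
    rw [_root_.mul_assoc]
    show _ = rp D e _ * (P (D.u (e k)) (v k) * _)
    rw [show v k = v₁ k from (if_neg (lt_irrefl _)).symm, ← rp_split_first k.2 v₁ hv₁, rp_eq_Fp, rp_eq_Fp, rp_eq_Fp]
    exact Fp_cut _ (fun l => (D.rootHom (e l)).1) (k : ℕ) v
  have hall : ∀ v : Fin N → Γ(X.left, ⊤), rp D e v ∈ gens D (Set.range e) X := fun v =>
    rp_mem_gens D e v fun l => Set.mem_range_self l
  have cjU : ∀ g ∈ gens D (Set.range e) X, ∀ r ∈ U, g⁻¹ * r * g ∈ U := fun g hg r hr => by
    simpa using O.conj_mem (inv_mem hg) hr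
  obtain ⟨rx, hrx, hx⟩ := hcut x
  obtain ⟨ry, hry, hy⟩ := hcut y
  obtain ⟨r₀, hr₀, h₀⟩ := hcut z₀
  let Y := rp D e (trunc (k : ℕ) y)
  have hc : Y⁻¹ * p (x k) * Y⁻¹⁻¹ * (p (x k))⁻¹ ∈ U :=
    O.central (inv_mem (hall _)) (show e k ∈ Tl D e k from ⟨k, le_rfl, rfl⟩) _
  let h := Y⁻¹ * p (x k) * Y⁻¹⁻¹ * (p (x k))⁻¹
  let s := x k + y k
  let r := ((p s)⁻¹ * r₀ * p s) *
    ((p s)⁻¹ * h * p s * ((p (y k))⁻¹ * (Y⁻¹ * rx * Y) * p (y k)) * ry)
  have hr : r ∈ U := mul_mem (cjU _ (hp _) _ hr₀)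
    (mul_mem (mul_mem (cjU _ (hp _) _ hc) (cjU _ (hp _) _ (cjU _ (hall _) _ hrx))) hry)
  obtain ⟨u, hu, hur⟩ := O.exists_coords hr
  let w : Fin N → Γ(X.left, ⊤) := fun l => if (l : ℕ) < (k : ℕ) then z₀ l else Function.update u k (z₀ k + s) l
  have hw : rp D e z = rp D e w := by
    have e1 : rp D e w = rp D e (trunc (k : ℕ) z₀) * (p (z₀ k + s) * r) := by
      rw [rp_eq_Fp, Fp_cut _ (fun l => (D.rootHom (e l)).1) (k : ℕ) w, ← rp_eq_Fp, ← rp_eq_Fp, hur]
      congr 1
      · congr 1
        funext l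
        by_cases hl : (l : ℕ) < (k : ℕ) <;> simp only [trunc, w, hl, if_true, if_false]
      · have hv : ∀ l : Fin N, (l : ℕ) < (k : ℕ) → Function.update u k (z₀ k + s) l = 0 := fun l hl => by
          rw [Function.update_of_ne (fun h => by rw [h] at hl; exact lt_irrefl _ hl)]
          exact hu l (by omega)
        rw [show (fun l : Fin N => if (l : ℕ) < (k : ℕ) then 0 else w l) = Function.update u k (z₀ k + s) from
          funext fun l => by
            by_cases hl : (l : ℕ) < (k : ℕ)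
            · rw [if_pos hl, hv l hl]
            · simp only [w, hl, if_false], rp_split_first k.2 _ hv, Fin.eta, Function.update_self, Function.update_idem]
        congr 2
        rw [← hu k (Nat.lt_succ_self _), Function.update_eq_self]
    have e2 : rp D e (trunc (k : ℕ) z₀) = rp D e (trunc (k : ℕ) x) * Y * r₀⁻¹ * (p (z₀ k))⁻¹ := by
      rw [← hz₀, h₀]; group
    rw [e1, e2, hz, hx, hy]
    simp only [p, s, r, h, Y, RankOne.P_add]
    group
  rw [congrFun (O.rp_inj hw) k]
  simp only [w, lt_irrefl, if_false, Function.update_self, s]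
  abel

end Groth.Agent.RedCell16
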