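import Groth.Agent.Lib.RedCell16.RootFun
import Groth.Agent.Lib.RankOne16.Contract
import Groth.Agent.Lib.RankOne16.GmTorus

/-!
# One parameter families of torus weight, in the big cell
-/

set_option autoImplicit false
set_option linter.style.haveILetI false
set_option linter.unusedSimpArgs false
set_option backward.isDefEq.respectTransparency false
set_option backward.isDefEq.respectTransparency.types false

universe u

open CategoryTheory CategoryTheory.Limits MonoidalCategory CartesianMonoidalCategory MonObj AlgebraicGeometry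

noncomputable section

namespace Groth.Agent.RedCell16

open DiagGL
open RankOne (P)
open RankOne16 (sp fn spMap spMap_fn kPt geomHom poly eval_poly N_congr)

variable {S : Scheme.{u}}

section Homog

variable (N : ∀ X : Over S, Γ(X.left, ⊤) → Γ(X.left, ⊤))
  (hN : ∀ (X X' : Over S) (g : X' ⟶ X) (a : Γ(X.left, ⊤)), g.left.appTop (N X a) = N X' (g.left.appTop a))
  (k : ℕ) (hk : k ≠ 0) (e : ℤ)
  (hs : ∀ (X : Over S) (v : (Γ(X.left, ⊤))ˣ) (a : Γ(X.left, ⊤)),
    N X ((v : Γ(X.left, ⊤)) ^ k * a) = ((v ^ e : (Γ(X.left, ⊤))ˣ) : Γ(X.left, ⊤)) * N X a)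

include hN hk hs

theorem coeff_poly_eq_zero {R : Type u} [CommRing R] (φ : Spec (CommRingCat.of R) ⟶ S) (j : ℕ)
    (hj : ((k * j : ℕ) : ℤ) ≠ e) : (poly N φ).coeff j = 0 := by
  let N' : ∀ X : Over S, Γ(X.left, ⊤) → Γ(X.left, ⊤) := fun X z => N X (z ^ k)
  have hN' : ∀ (X X' : Over S) (g : X' ⟶ X) (a : Γ(X.left, ⊤)), g.left.appTop (N' X a) = N' X' (g.left.appTop a) :=
    fun X X' g a => by rw [hN, map_pow]
  have h := RankOne16.coeff_eq_zero N' hN' (RankOne16.isTorus_Gm S) (𝟙 (Red.Gm S))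
    (fun s => RankOne16.map_pow_ne_one _ 1 one_ne_zero s fun x v => ⟨GmPts.ptOfUnit v, by
      rw [Category.comp_id, GmPts.unitOfPt_ptOfUnit, pow_one]⟩) e
    (fun X t a => by
      simp only [N', Category.comp_id, mul_pow]
      exact hs X (GmPts.unitOfPt t) _) φ (k * j) hj
  have he : poly N' φ = Polynomial.expand R k (poly N φ) := by
    rw [Polynomial.expand_eq_comp_X_pow, Polynomial.comp, eval_poly N hN φ Polynomial.C]
    simp only [poly, N', map_pow]
  rw [he, mul_comm, Polynomial.coeff_expand_mul (Nat.pos_of_ne_zero hk)] at h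
  exact h

theorem homog_monomial (q : ℕ) (hq : e = ((k * q : ℕ) : ℤ)) (X : Over S) (a : Γ(X.left, ⊤)) :
    N X a = N X 1 * a ^ q := by
  refine RankOne16.ext_of_affine fun R _ φ g => ?_
  rw [map_mul, map_pow, hN, hN, map_one]
  obtain ⟨r, hr⟩ := (fn φ).surjective (g.left.appTop a)
  rw [← hr]
  have hp : poly N φ = Polynomial.monomial q ((poly N φ).coeff q) := by
    refine Polynomial.ext fun j => ?_
    rw [Polynomial.coeff_monomial]
    split_ifs with h
    · rw [h]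
    · refine coeff_poly_eq_zero N hN k hk e hs φ j fun h' => h ?_
      rw [hq] at h'
      exact ((Nat.eq_of_mul_eq_mul_left (Nat.pos_of_ne_zero hk) (by exact_mod_cast h'))).symm
  have hv : ∀ z, fn φ ((poly N φ).eval₂ (RingHom.id R) z) = N _ (fn φ z) := fun z => by
    rw [eval_poly N hN φ (RingHom.id R) z,
      N_congr N (show Spec.map (CommRingCat.ofHom (RingHom.id R)) ≫ φ = φ by
        rw [CommRingCat.ofHom_id, Spec.map_id, Category.id_comp]), RingEquiv.apply_symm_apply]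
  rw [← hv r, ← map_one (fn φ), ← hv 1, ← map_pow, ← map_mul, hp]
  simp

theorem homog_eq_zero (hne : ∀ q : ℕ, e ≠ ((k * q : ℕ) : ℤ)) (X : Over S) (a : Γ(X.left, ⊤)) : N X a = 0 := by
  refine RankOne16.ext_of_affine fun R _ φ g => ?_
  rw [hN, map_zero]
  obtain ⟨r, hr⟩ := (fn φ).surjective (g.left.appTop a)
  rw [← hr]
  have hp : poly N φ = 0 := Polynomial.ext fun j => by
    rw [Polynomial.coeff_zero]; exact coeff_poly_eq_zero N hN k hk e hs φ j fun h => hne j h.symm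
  have hv := eval_poly N hN φ (RingHom.id R) r
  rw [hp, Polynomial.eval₂_zero, N_congr N (show Spec.map (CommRingCat.ofHom (RingHom.id R)) ≫ φ = φ by
        rw [CommRingCat.ofHom_id, Spec.map_id, Category.id_comp])] at hv
  exact (fn φ).symm.injective (by rw [← hv, map_zero])

end Homog

variable {G : Over S} [GrpObj G] (D : Red.SplitRed G) {n m : ℕ} (eneg : Fin n → D.idx) (epos : Fin m → D.idx)
  {b : D.P.Base} (hneg : RedSub.Enumerates (RedSub.negRoots D.P b) eneg)
  (hpos : RedSub.Enumerates (RedSub.posRoots D.P b) epos)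

/-- A natural family of points parametrised by the functions. -/
structure WeightFam where
  /-- the family -/
  F : ∀ X : Over S, Γ(X.left, ⊤) → (X ⟶ G)
  nat : ∀ (X X' : Over S) (g : X' ⟶ X) (a : Γ(X.left, ⊤)), g ≫ F X a = F X' (g.left.appTop a)
  zero : ∀ X : Over S, F X 0 = 1
  /-- the cocharacter -/
  ℓ : D.M →+ ℤ
  /-- the weight -/
  k : ℕ
  k_ne : k ≠ 0
  conj : ∀ (X : Over S) (v : (Γ(X.left, ⊤))ˣ) (t : X ⟶ D.T) (a : Γ(X.left, ⊤)),
    (∀ m, (chars D).ch t (Multiplicative.ofAdd m) = ((v ^ ℓ m : (Γ(X.left, ⊤))ˣ) : Γ(X.left, ⊤))) →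
      F X ((v : Γ(X.left, ⊤)) ^ k * a) = (t ≫ D.i) * F X a * (t ≫ D.i)⁻¹

include hneg hpos in
theorem WeightFam.mem_cell (W : WeightFam D) (X : Over S) (a : Γ(X.left, ⊤)) (p : X.left) :
    (W.F X a).left p ∈ Set.range (RedSub.cellMap D eneg epos).left := by
  classical
  have := D.maximalTorus.1
  haveI := isOpenImmersion_cellMap D b eneg epos hneg hpos
  set K := AlgebraicClosure (X.left.residueField p)
  set x := Red.geomPt p ≫ X.hom
  suffices H : (geomHom p ≫ W.F X a).left (IsLocalRing.closedPoint K) ∈ Set.range (RedSub.cellMap D eneg epos).left by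
    rwa [Over.comp_left, Scheme.Hom.comp_apply, RankOne16.geomHom_apply] at H
  rw [W.nat]
  obtain ⟨r, hr⟩ := (fn (R := K) x).surjective ((geomHom p).left.appTop a)
  rw [← hr]
  let φ := Spec.map (CommRingCat.ofHom (Polynomial.C : K →+* Polynomial K)) ≫ x
  let univ : sp φ ⟶ G := W.F _ (fn φ Polynomial.X)
  let O : (sp φ).left.Opens := univ.left ⁻¹ᵁ (RedSub.cellMap D eneg epos).left.opensRange
  have hev : ∀ c : K, (W.F _ (fn x c)).left (IsLocalRing.closedPoint K) ∈ Set.range (RedSub.cellMap D eneg epos).left ↔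
      Spec.map (CommRingCat.ofHom (Polynomial.evalRingHom c)) (IsLocalRing.closedPoint K) ∈ O := by
    intro c
    have e : Spec.map (CommRingCat.ofHom (Polynomial.evalRingHom c)) ≫ φ = x := by
      rw [← Category.assoc, ← Spec.map_comp, ← CommRingCat.ofHom_comp, show
        (Polynomial.evalRingHom c).comp Polynomial.C = RingHom.id K from RingHom.ext fun _ => Polynomial.eval_C,
        CommRingCat.ofHom_id, Spec.map_id, Category.id_comp]
    let h : kPt x ⟶ sp φ := Over.homMk (Spec.map (CommRingCat.ofHom (Polynomial.evalRingHom c))) e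
    have he : h ≫ univ = W.F _ (fn x c) := by
      simp only [univ, W.nat]
      congr 1
      have := spMap_fn φ (Polynomial.evalRingHom c) Polynomial.X
      rw [Polynomial.coe_evalRingHom, Polynomial.eval_X] at this
      exact this
    rw [← he]
    exact Iff.rfl
  have h0 : (W.F _ (fn x (0 : K))).left (IsLocalRing.closedPoint K) ∈ Set.range (RedSub.cellMap D eneg epos).left := by
    rw [map_zero, W.zero]
    exact one_mem D eneg epos (X := kPt x) _
  by_cases hr0 : r = 0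
  · rw [hr0]; exact h0
  obtain ⟨_, ⟨h, rfl⟩, hz, hle⟩ := PrimeSpectrum.isTopologicalBasis_basic_opens.exists_subset_of_mem_open
    ((hev 0).1 h0) O.isOpen
  have hgood : ∀ c : K, h.eval c ≠ 0 → (W.F _ (fn x c)).left (IsLocalRing.closedPoint K) ∈
      Set.range (RedSub.cellMap D eneg epos).left := fun c hc =>
    (hev c).2 (hle (show h ∉ Ideal.comap (Polynomial.evalRingHom c) (IsLocalRing.maximalIdeal K) by
      rw [Ideal.mem_comap, IsLocalRing.mem_maximalIdeal, mem_nonunits_iff, isUnit_iff_ne_zero, not_not]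
      exact hc))
  have hh0 : h ≠ 0 := by
    rintro rfl
    exact hz (Ideal.zero_mem _)
  obtain ⟨c, hc⟩ := Infinite.exists_notMem_finset (insert (0 : K) h.roots.toFinset)
  rw [Finset.mem_insert, not_or, Multiset.mem_toFinset, Polynomial.mem_roots hh0] at hc
  obtain ⟨w, hw⟩ := IsAlgClosed.exists_pow_nat_eq (c / r) (Nat.pos_of_ne_zero W.k_ne)
  have hw0 : w ≠ 0 := fun h => div_ne_zero hc.1 hr0 (by rw [← hw, h, zero_pow W.k_ne])
  let v : (Γ((kPt x).left, ⊤))ˣ := Units.map (fn (R := K) x).toRingHom.toMonoidHom (Units.mk0 w hw0)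
  obtain ⟨t, ht⟩ := exists_tor D W.ℓ v
  have hvr : fn x c = (v : Γ((kPt x).left, ⊤)) ^ W.k * fn x r := by
    show fn x c = (fn x w) ^ W.k * fn x r
    rw [← map_pow, ← map_mul, hw, div_mul_cancel₀ _ hr0]
  obtain ⟨y, τ, z, hy⟩ := exists_cellPt D eneg epos hneg hpos (W.F _ (fn x c)) fun q => by
    rw [Subsingleton.elim (α := PrimeSpectrum K) q (IsLocalRing.closedPoint K)]
    exact hgood c hc.2
  rw [hvr, W.conj _ v t _ ht] at hy
  have e : W.F _ (fn x r) = (t⁻¹ ≫ D.i) * cellPt D eneg epos y τ z * (t⁻¹ ≫ D.i)⁻¹ := by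
    rw [← hy, GrpObj.inv_comp]
    simp [_root_.mul_assoc]
  show (W.F _ (fn x r)).left (IsLocalRing.closedPoint K) ∈ _
  rw [e, cellPt_conj]
  exact cellPt_mem D eneg epos _ _ _ _

include hneg hpos in
/-- **The coordinates of a family of weight.** -/
theorem WeightFam.exists_coords (W : WeightFam D) : ∃ (y : ∀ X : Over S, Fin n → Γ(X.left, ⊤))
    (x : ∀ X : Over S, Fin m → Γ(X.left, ⊤)),
    (∀ X : Over S, W.F X 1 = cellPt D eneg epos (y X) 1 (x X)) ∧
    (∀ (X X' : Over S) (g : X' ⟶ X),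
      (fun i => g.left.appTop (y X i)) = y X' ∧ (fun i => g.left.appTop (x X i)) = x X') ∧
    (∀ (X : Over S) i, (∀ q : ℕ, 0 < q → W.ℓ (D.P.root (eneg i)) ≠ ((W.k * q : ℕ) : ℤ)) → y X i = 0) ∧
    (∀ (X : Over S) i, (∀ q : ℕ, 0 < q → W.ℓ (D.P.root (epos i)) ≠ ((W.k * q : ℕ) : ℤ)) → x X i = 0) ∧
    ∀ (X : Over S) (a : Γ(X.left, ⊤)), W.F X a = cellPt D eneg epos
      (fun i => y X i * a ^ (W.ℓ (D.P.root (eneg i)) / (W.k : ℤ)).toNat) 1
      (fun i => x X i * a ^ (W.ℓ (D.P.root (epos i)) / (W.k : ℤ)).toNat) := by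
  classical
  choose Y τ Z hdec using fun (X : Over S) (a : Γ(X.left, ⊤)) =>
    exists_cellPt D eneg epos hneg hpos (W.F X a) (W.mem_cell D eneg epos hneg hpos X a)
  have hnat : ∀ (X X' : Over S) (g : X' ⟶ X) a, (fun i => g.left.appTop (Y X a i)) = Y X' (g.left.appTop a) ∧
      g ≫ τ X a = τ X' (g.left.appTop a) ∧ (fun i => g.left.appTop (Z X a i)) = Z X' (g.left.appTop a) :=
    fun X X' g a => cellPt_inj D eneg epos hneg hpos (by rw [← comp_cellPt, ← hdec, ← hdec, W.nat])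
  have hscale : ∀ (X : Over S) (v : (Γ(X.left, ⊤))ˣ) (a : Γ(X.left, ⊤)),
      (∀ i, Y X ((v : Γ(X.left, ⊤)) ^ W.k * a) i =
        ((v ^ W.ℓ (D.P.root (eneg i)) : (Γ(X.left, ⊤))ˣ) : Γ(X.left, ⊤)) * Y X a i) ∧
      τ X ((v : Γ(X.left, ⊤)) ^ W.k * a) = τ X a ∧
      ∀ i, Z X ((v : Γ(X.left, ⊤)) ^ W.k * a) i =
        ((v ^ W.ℓ (D.P.root (epos i)) : (Γ(X.left, ⊤))ˣ) : Γ(X.left, ⊤)) * Z X a i := fun X v a => by
    obtain ⟨t, ht⟩ := exists_tor D W.ℓ v
    have h := W.conj X v t a ht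
    rw [hdec, hdec, cellPt_conj] at h
    obtain ⟨h1, h2, h3⟩ := cellPt_inj D eneg epos hneg hpos h
    exact ⟨fun i => by rw [congrFun h1 i, rt_eq_ch, ht], h2, fun i => by rw [congrFun h3 i, rt_eq_ch, ht]⟩
  have hzero : ∀ X : Over S, Y X 0 = 0 ∧ τ X 0 = 1 ∧ Z X 0 = 0 := fun X =>
    cellPt_inj D eneg epos hneg hpos (by rw [← hdec, W.zero, cellPt_one])
  have hτ : ∀ (X : Over S) a, τ X a = 1 := fun X a => (chars D).inj fun m => by
    rw [(chars D).one]
    let N : ∀ X : Over S, Γ(X.left, ⊤) → Γ(X.left, ⊤) := fun X a => (chars D).ch (τ X a) m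
    have hN : ∀ (X X' : Over S) (g : X' ⟶ X) (a : Γ(X.left, ⊤)), g.left.appTop (N X a) = N X' (g.left.appTop a) :=
      fun X X' g a => by simp only [N]; rw [← (hnat X X' g a).2.1, (chars D).nat]
    have hNs : ∀ (X : Over S) (v : (Γ(X.left, ⊤))ˣ) (a : Γ(X.left, ⊤)),
        N X ((v : Γ(X.left, ⊤)) ^ W.k * a) = ((v ^ (0 : ℤ) : (Γ(X.left, ⊤))ˣ) : Γ(X.left, ⊤)) * N X a :=
      fun X v a => by simp only [N, (hscale X v a).2.1, zpow_zero, Units.val_one, _root_.one_mul]
    have h0 := homog_monomial N hN W.k W.k_ne 0 hNs 0 (by simp) X 0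
    have ha := homog_monomial N hN W.k W.k_ne 0 hNs 0 (by simp) X a
    simp only [pow_zero, _root_.mul_one] at h0 ha
    show N X a = 1
    rw [ha, ← h0]
    simp [N, (hzero X).2.1, (chars D).one]
  have key : ∀ (d : D.idx) (N : ∀ X : Over S, Γ(X.left, ⊤) → Γ(X.left, ⊤)),
      (∀ (X X' : Over S) (g : X' ⟶ X) (a : Γ(X.left, ⊤)), g.left.appTop (N X a) = N X' (g.left.appTop a)) →
      (∀ (X : Over S) (v : (Γ(X.left, ⊤))ˣ) (a : Γ(X.left, ⊤)),
        N X ((v : Γ(X.left, ⊤)) ^ W.k * a) = ((v ^ W.ℓ (D.P.root d) : (Γ(X.left, ⊤))ˣ) : Γ(X.left, ⊤)) * N X a) →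
      (∀ X, N X 0 = 0) → ∀ (X : Over S), ((∀ q : ℕ, 0 < q → W.ℓ (D.P.root d) ≠ ((W.k * q : ℕ) : ℤ)) → N X 1 = 0) ∧
        ∀ a, N X a = N X 1 * a ^ (W.ℓ (D.P.root d) / (W.k : ℤ)).toNat := by
    intro d N hN hNs hN0 X
    by_cases hq : ∃ q : ℕ, W.ℓ (D.P.root d) = ((W.k * q : ℕ) : ℤ)
    · obtain ⟨q, hq⟩ := hq
      have e : (W.ℓ (D.P.root d) / (W.k : ℤ)).toNat = q := by
        rw [hq, Nat.cast_mul, Int.mul_ediv_cancel_left _ (Int.natCast_ne_zero.2 W.k_ne), Int.toNat_natCast]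
      refine ⟨fun h => ?_, fun a => by rw [e]; exact homog_monomial N hN W.k W.k_ne _ hNs q hq X a⟩
      obtain rfl : q = 0 := by
        by_contra h'; exact h q (Nat.pos_of_ne_zero h') hq
      have h1 := homog_monomial N hN W.k W.k_ne _ hNs 0 hq X 0
      rwa [hN0, pow_zero, _root_.mul_one, eq_comm] at h1
    · push Not at hq
      exact ⟨fun _ => homog_eq_zero N hN W.k W.k_ne _ hNs hq X 1, fun a => by
        rw [homog_eq_zero N hN W.k W.k_ne _ hNs hq X a, homog_eq_zero N hN W.k W.k_ne _ hNs hq X 1, zero_mul]⟩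
  have kY := fun i => key (eneg i) (fun X a => Y X a i) (fun X X' g a => congrFun (hnat X X' g a).1 i)
    (fun X v a => (hscale X v a).1 i) (fun X => congrFun (hzero X).1 i)
  have kZ := fun i => key (epos i) (fun X a => Z X a i) (fun X X' g a => congrFun (hnat X X' g a).2.2 i)
    (fun X v a => (hscale X v a).2.2 i) (fun X => congrFun (hzero X).2.2 i)
  refine ⟨fun X => Y X 1, fun X => Z X 1, fun X => by rw [hdec, hτ], fun X X' g => ?_,
    fun X i h => (kY i X).1 h, fun X i h => (kZ i X).1 h, fun X a => ?_⟩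
  · have h := hnat X X' g 1
    rw [map_one] at h
    exact ⟨h.1, h.2.2⟩
  · rw [hdec, hτ, show Y X a = _ from funext fun i => (kY i X).2 a, show Z X a = _ from funext fun i => (kZ i X).2 a]

include hneg hpos in
/-- Elements fixed by the torus elements killing some functional live on the roots it does not separate. -/
theorem coord_eq_zero {X : Over S} (y : Fin n → Γ(X.left, ⊤)) (x : Fin m → Γ(X.left, ⊤)) (ℓ : D.M →+ ℤ)
    (h : ∀ (X' : Over S) (e : X' ⟶ X) (v : (Γ(X'.left, ⊤))ˣ) (t : X' ⟶ D.T),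
      (∀ m, (chars D).ch t (Multiplicative.ofAdd m) = ((v ^ ℓ m : (Γ(X'.left, ⊤))ˣ) : Γ(X'.left, ⊤))) →
        (t ≫ D.i) * (e ≫ cellPt D eneg epos y 1 x) * (t ≫ D.i)⁻¹ = e ≫ cellPt D eneg epos y 1 x) :
    (∀ i, ℓ (D.P.root (eneg i)) ≠ 0 → y i = 0) ∧ (∀ i, ℓ (D.P.root (epos i)) ≠ 0 → x i = 0) := by
  have main : ∀ (d : D.idx), ℓ (D.P.root d) ≠ 0 → ∃ (X' : Over S) (e : X' ⟶ X) (t : X' ⟶ D.T), Epi e ∧
      IsUnit (rt D t d - 1) ∧ (fun i => rt D t (eneg i) * e.left.appTop (y i)) = (fun i => e.left.appTop (y i)) ∧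
      (fun i => rt D t (epos i) * e.left.appTop (x i)) = (fun i => e.left.appTop (x i)) := fun d hd => by
    obtain ⟨X', e, t, v, he, ht, hu⟩ := exists_cover_co D d ℓ hd
    have h1 := h X' e v t ht
    rw [comp_cellPt, cellPt_conj] at h1
    obtain ⟨h2, -, h3⟩ := cellPt_inj D eneg epos hneg hpos h1
    exact ⟨X', e, t, he, hu, h2, h3⟩
  constructor
  · intro i hi
    obtain ⟨X', e, t, he, hu, h2, -⟩ := main _ hi
    refine RankOne16.fn_injective_of_epi e _ 0 ?_
    rw [map_zero]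
    exact hu.mul_right_eq_zero.1 (by rw [sub_mul, _root_.one_mul, congrFun h2 i, sub_self])
  · intro i hi
    obtain ⟨X', e, t, he, hu, -, h3⟩ := main _ hi
    refine RankOne16.fn_injective_of_epi e _ 0 ?_
    rw [map_zero]
    exact hu.mul_right_eq_zero.1 (by rw [sub_mul, _root_.one_mul, congrFun h3 i, sub_self])

theorem rp_single {X : Over S} : ∀ {l : ℕ} (e : Fin l → D.idx) (v : Fin l → Γ(X.left, ⊤)) (i : Fin l),
    (∀ j, j ≠ i → v j = 0) → rp D e v = P (D.u (e i)) (v i)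
  | 0, _, _, i, _ => i.elim0
  | l + 1, e, v, i, h => by
    haveI := (D.rootHom (e 0)).1
    rw [rp_succ]
    rcases Fin.eq_zero_or_eq_succ i with rfl | ⟨j, rfl⟩
    · rw [show (fun k : Fin l => v k.succ) = 0 from funext fun k => h _ (Fin.succ_ne_zero k), rp_zero_fn,
        _root_.mul_one]
    · rw [h 0 (Fin.succ_ne_zero j).symm, RankOne.P_zero, _root_.one_mul]
      exact rp_single (fun k => e k.succ) (fun k => v k.succ) j fun k hk => h _ (by simpa using hk)

theorem cellPt_single_neg {X : Over S} (y : Fin n → Γ(X.left, ⊤)) (i : Fin n) (h : ∀ j, j ≠ i → y j = 0) :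
    cellPt D eneg epos y 1 0 = P (D.u (eneg i)) (y i) := by
  haveI := D.maximalTorus.1
  rw [cellPt_eq, rp_zero_fn, MonObj.one_comp, _root_.one_mul, _root_.mul_one, rp_single D eneg y i h]

theorem cellPt_single_pos {X : Over S} (x : Fin m → Γ(X.left, ⊤)) (i : Fin m) (h : ∀ j, j ≠ i → x j = 0) :
    cellPt D eneg epos 0 1 x = P (D.u (epos i)) (x i) := by
  haveI := D.maximalTorus.1
  rw [cellPt_eq, rp_zero_fn, MonObj.one_comp, _root_.one_mul, _root_.one_mul, rp_single D epos x i h]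

end Groth.Agent.RedCell16
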