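import Groth.Agent.Lib.RedCell16.Coxeter
import Groth.Agent.Lib.TitsDecH28.Coxeter
import Groth.Agent.S8459
import Groth.Agent.S8460
import Groth.Agent.S8461
import Groth.Agent.S8462

/-!
# Words in the Weyl elements: signs on the simple root groups
-/

set_option autoImplicit false
set_option linter.style.haveILetI false
set_option linter.unusedSimpArgs false
set_option linter.unusedSectionVars false
set_option backward.isDefEq.respectTransparency false
set_option backward.isDefEq.respectTransparency.types false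

universe u

open CategoryTheory CategoryTheory.Limits MonoidalCategory CartesianMonoidalCategory MonObj AlgebraicGeometry

noncomputable section

namespace Groth.Agent.RedCell16

open DiagGL RootDLib
open RankOne (P A)

variable {S : Scheme.{u}} {G : Over S} [GrpObj G] (D : Red.SplitRed G)

/-- The Weyl element over the base. -/
abbrev W₁ (c : D.idx) : 𝟙_ (Over S) ⟶ G := Wy D c (𝟙_ (Over S))

/-- The product of the Weyl elements of a word. -/
abbrev Wd (l : List D.idx) : 𝟙_ (Over S) ⟶ G := (l.map (W₁ D)).prod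

/-- `g` carries the root group of `c` to that of `d` up to a sign. -/
def Sgn (g : 𝟙_ (Over S) ⟶ G) (c d : D.idx) : Prop :=
  ∃ ε : ℤ, (ε = 1 ∨ ε = -1) ∧ ∀ (X : Over S) (x : Γ(X.left, ⊤)),
    cj (toUnit X ≫ g) (P (D.u c) x) = P (D.u d) ((ε : Γ(X.left, ⊤)) * x)

theorem comp_W₁ (c : D.idx) (X : Over S) : toUnit X ≫ W₁ D c = Wy D c X := comp_Wy D c _

theorem comp_Ac (c : D.idx) {X : Over S} :
    toUnit X ≫ (Ac D c (-1) : 𝟙_ (Over S) ⟶ G) = Ac D c (-1) := by
  rw [Ac, RankOne16.comp_A]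
  congr 1
  apply Units.ext
  simp

theorem cj_Ac_P (c d : D.idx) {X : Over S} (v : (Γ(X.left, ⊤))ˣ) (x : Γ(X.left, ⊤)) :
    cj (Ac D c v) (P (D.u d) x) =
      P (D.u d) (((v ^ D.P.pairing d c : (Γ(X.left, ⊤))ˣ) : Γ(X.left, ⊤)) * x) := by
  haveI := D.maximalTorus.1
  rw [cj, Ac, A, ← Category.assoc, conj_P, refl_root]

theorem neg_one_sq_int {X : Over S} (k : ℤ) :
    ∃ ε : ℤ, (ε = 1 ∨ ε = -1) ∧ (((-1 : (Γ(X.left, ⊤))ˣ) ^ k : (Γ(X.left, ⊤))ˣ) : Γ(X.left, ⊤)) = ε ∧
      (ε = 1 ↔ Even k) := by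
  rcases Int.even_or_odd k with h | h
  · exact ⟨1, Or.inl rfl, by rw [h.neg_one_zpow]; simp, by simp [h]⟩
  · exact ⟨-1, Or.inr rfl, by rw [h.neg_one_zpow]; simp, by simp [Int.not_even_iff_odd.2 h]⟩

namespace Sgn

variable {D}

theorem one (c : D.idx) : Sgn D 1 c c := ⟨1, Or.inl rfl, fun X x => by simp [cj, MonObj.comp_one]⟩

theorem mul {g h : 𝟙_ (Over S) ⟶ G} {c d e : D.idx} (hg : Sgn D g d e) (hh : Sgn D h c d) : Sgn D (g * h) c e := by
  obtain ⟨ε, hε, hg⟩ := hg
  obtain ⟨δ, hδ, hh⟩ := hh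
  refine ⟨ε * δ, by rcases hε with rfl | rfl <;> rcases hδ with rfl | rfl <;> simp, fun X x => ?_⟩
  rw [MonObj.comp_mul, ← cj_cj, hh, hg, Int.cast_mul, _root_.mul_assoc]

theorem inv {g : 𝟙_ (Over S) ⟶ G} {c d : D.idx} (hg : Sgn D g c d) : Sgn D g⁻¹ d c := by
  obtain ⟨ε, hε, hg⟩ := hg
  refine ⟨ε, hε, fun X x => ?_⟩
  have h := hg X ((ε : Γ(X.left, ⊤)) * x)
  rw [← _root_.mul_assoc, ← Int.cast_mul, show ε * ε = 1 by rcases hε with rfl | rfl <;> simp, Int.cast_one,
    _root_.one_mul] at h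
  rw [← h, cj_cj, GrpObj.comp_inv, _root_.inv_mul_cancel]
  simp [cj]

/-- The sign of the square of a Weyl element. -/
theorem ac (c d : D.idx) : Sgn D (Ac D c (-1)) d d := by
  rcases Int.even_or_odd (D.P.pairing d c) with h | h
  · exact ⟨1, Or.inl rfl, fun X x => by rw [comp_Ac, cj_Ac_P, h.neg_one_zpow]; simp⟩
  · exact ⟨-1, Or.inr rfl, fun X x => by rw [comp_Ac, cj_Ac_P, h.neg_one_zpow]; simp⟩

end Sgn

/-- The elements preserving every root group up to sign. -/
def sgnGrp : Subgroup (𝟙_ (Over S) ⟶ G) where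
  carrier := {g | ∀ c, Sgn D g c c}
  mul_mem' hg hh c := (hg c).mul (hh c)
  one_mem' c := Sgn.one c
  inv_mem' hg c := (hg c).inv

theorem mem_sgnGrp {g : 𝟙_ (Over S) ⟶ G} : g ∈ sgnGrp D ↔ ∀ c, Sgn D g c c := Iff.rfl

theorem ac_mem (c : D.idx) : Ac D c (-1) ∈ sgnGrp D := Sgn.ac c

theorem sgn_congr {g h : 𝟙_ (Over S) ⟶ G} (hk : g⁻¹ * h ∈ sgnGrp D) {c d : D.idx} (hg : Sgn D g c d) :
    Sgn D h c d := by
  have := hg.mul (hk c)
  rwa [mul_inv_cancel_left] at this

variable [D.P.IsReduced]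

/-- Conjugation by a Weyl element preserves `sgnGrp`. -/
theorem cj_W₁_mem (b₀ : D.P.Base) {a : D.idx} (E : DualPair D a) {k : 𝟙_ (Over S) ⟶ G} (hk : k ∈ sgnGrp D) :
    W₁ D a * k * (W₁ D a)⁻¹ ∈ sgnGrp D := by
  intro c
  set c' := D.P.reflectionPerm a c with hc'
  have hcc : D.P.reflectionPerm a c' = c := by rw [hc', D.P.reflectionPerm_self]
  obtain ⟨ν, hν⟩ := exists_weyl_conj D a E b₀ c'
  rw [hcc] at hν
  obtain ⟨ε, hε, hk⟩ := hk c'
  refine ⟨ε, hε, fun X x => ?_⟩
  have h1 : ∀ y, cj (Wy D a X) (P (D.u c') ((((ν X)⁻¹ : (Γ(X.left, ⊤))ˣ) : Γ(X.left, ⊤)) * y)) = P (D.u c) y :=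
    fun y => (hν X y).symm
  have h2 : cj (Wy D a X)⁻¹ (P (D.u c) x) = P (D.u c') ((((ν X)⁻¹ : (Γ(X.left, ⊤))ˣ) : Γ(X.left, ⊤)) * x) := by
    rw [← h1 x, cj_cj, _root_.inv_mul_cancel]; simp [cj]
  rw [MonObj.comp_mul, MonObj.comp_mul, GrpObj.comp_inv, comp_W₁, ← cj_cj, ← cj_cj, h2, hk, mul_left_comm, h1]

theorem W₁_mem_normalizer (b₀ : D.P.Base) {a : D.idx} (E : DualPair D a) :
    W₁ D a ∈ Subgroup.normalizer (sgnGrp D : Set (𝟙_ (Over S) ⟶ G)) := by
  rw [Subgroup.mem_normalizer_iff]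
  intro k
  refine ⟨cj_W₁_mem D b₀ E, fun hk => ?_⟩
  have hsq : W₁ D a * W₁ D a ∈ sgnGrp D := by rw [RankOne16.W_mul_W E]; exact ac_mem D a
  have := mul_mem (mul_mem (inv_mem hsq) (cj_W₁_mem D b₀ E hk)) hsq
  convert this using 1
  group

/-! ### Coordinates under the rank two Weyl group -/

/-- A step in coordinates: `false` is the reflection in `a`, `true` the one in `b`. -/
def stp (p q A B : ℤ) : Bool → ℤ × ℤ → ℤ × ℤ
  | false, (i, j) => (p * j - i - A, j)
  | true, (i, j) => (i, q * i - j - B)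

/-- A word in coordinates. -/
def fl (p q A B : ℤ) (l : List Bool) (v : ℤ × ℤ) : ℤ × ℤ := l.foldr (stp p q A B) v

/-- The alternating word `(ab)ⁿ`, possibly followed by `a`. -/
def alt (n : ℕ) (s : Bool) : List Bool :=
  (List.replicate n [false, true]).flatten ++ if s then [false] else []

/-- The length of the braid. -/
def braidLen (p q : ℤ) : ℕ :=
  if p * q = 0 then 2 else if p * q = 1 then 3 else if p * q = 2 then 4 else 6

/-- The reduced word fixing `a`. -/
def fixWord (p q : ℤ) : List Bool :=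
  if p * q = 0 then [true] else if p * q = 2 then [true, false, true] else [true, false, true, false, true]

/-- The possible pairs of opposite pairings of two simple roots. -/
def Pairs (p q : ℤ) : Prop :=
  p = 0 ∧ q = 0 ∨ p = 1 ∧ q = 1 ∨ p = 2 ∧ q = 1 ∨ p = 1 ∧ q = 2 ∨ p = 3 ∧ q = 1 ∨ p = 1 ∧ q = 3

theorem braid_period {p q : ℤ} (h : Pairs p q) (A B i j : ℤ) :
    fl p q A B (alt (braidLen p q) false) (i, j) = (i, j) := by
  rcases h with ⟨rfl, rfl⟩ | ⟨rfl, rfl⟩ | ⟨rfl, rfl⟩ | ⟨rfl, rfl⟩ | ⟨rfl, rfl⟩ | ⟨rfl, rfl⟩ <;>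
    simp [braidLen, alt, fl, stp, List.replicate_succ] <;> ring_nf <;> trivial

theorem fix_table {p q : ℤ} (h : Pairs p q) (A B : ℤ) (hne : p * q ≠ 1) :
    fl p q A B (alt (braidLen p q / 2) true) (0, 0) = fl p q A B (fixWord p q) (0, 0) := by
  rcases h with ⟨rfl, rfl⟩ | ⟨rfl, rfl⟩ | ⟨rfl, rfl⟩ | ⟨rfl, rfl⟩ | ⟨rfl, rfl⟩ | ⟨rfl, rfl⟩ <;>
    first
    | omega
    | (simp [braidLen, fixWord, alt, fl, stp, List.replicate_succ]; try ring_nf; try trivial)

set_option synthInstance.maxSize 2000 in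
theorem image_table {p q : ℤ} (h : Pairs p q) : ∀ n < braidLen p q, ∀ s : Bool,
    (fl p q 0 0 (alt n s) (1, 0) = (1, 0) ∨ fl p q 0 0 (alt n s) (1, 0) = (0, 1)) →
    (n = 0 ∧ s = false) ∨
    (p * q = 1 ∧ n = 1 ∧ s = false ∧ fl p q 0 0 (alt n s) (1, 0) = (0, 1)) ∨
    (p * q ≠ 1 ∧ n = braidLen p q / 2 ∧ s = true ∧ fl p q 0 0 (alt n s) (1, 0) = (1, 0)) := by
  rcases h with ⟨rfl, rfl⟩ | ⟨rfl, rfl⟩ | ⟨rfl, rfl⟩ | ⟨rfl, rfl⟩ | ⟨rfl, rfl⟩ | ⟨rfl, rfl⟩ <;>
    decide

section Pair

variable {D}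
variable {a b : D.idx} {p q : ℤ}

/-- The roots named by a Boolean word. -/
abbrev nm (a b : D.idx) (l : List Bool) : List D.idx := l.map fun x => if x then b else a

theorem nm_cons (a b : D.idx) (s : Bool) (l : List Bool) : nm a b (s :: l) = (if s then b else a) :: nm a b l := rfl

theorem nm_append (a b : D.idx) (l l' : List Bool) : nm a b (l ++ l') = nm a b l ++ nm a b l' := List.map_append

theorem coords_step (hp : D.P.pairing b a = -p) (hq : D.P.pairing a b = -q) (x : D.M) (s : Bool) {c : D.idx}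
    {v : ℤ × ℤ} (hc : D.P.root c = x + v.1 • D.P.root a + v.2 • D.P.root b) :
    D.P.root (D.P.reflectionPerm (if s then b else a) c) =
      x + (stp p q (D.P.coroot' a x) (D.P.coroot' b x) s v).1 • D.P.root a +
        (stp p q (D.P.coroot' a x) (D.P.coroot' b x) s v).2 • D.P.root b := by
  obtain ⟨i, j⟩ := v
  cases s <;>
  · simp only [root_refl, ← RootPairing.root_coroot'_eq_pairing, hc, map_add, map_zsmul, stp, Bool.false_eq_true,
      if_false, if_true, smul_eq_mul]
    simp only [RootPairing.root_coroot'_eq_pairing, RootPairing.pairing_same, hp, hq]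
    module

theorem coords_word (hp : D.P.pairing b a = -p) (hq : D.P.pairing a b = -q) (x : D.M) {c : D.idx} {v : ℤ × ℤ}
    (hc : D.P.root c = x + v.1 • D.P.root a + v.2 • D.P.root b) (l : List Bool) :
    D.P.root (wprod D.P (nm a b l) • c) =
      x + (fl p q (D.P.coroot' a x) (D.P.coroot' b x) l v).1 • D.P.root a +
        (fl p q (D.P.coroot' a x) (D.P.coroot' b x) l v).2 • D.P.root b := by
  induction l with
  | nil => simpa [fl] using hc
  | cons s l ih =>
    rw [nm_cons, wprod_cons, mul_smul, refl_smul]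
    exact coords_step hp hq x s ih

theorem wprod_mem_weyl (l : List D.idx) : wprod D.P l ∈ D.P.weylGroup := by
  rw [weylGroup_eq_closure]
  exact wprod_mem fun _ _ => Set.mem_univ _

/-- Two words agreeing in coordinates are equal. -/
theorem wprod_nm_ext (hp : D.P.pairing b a = -p) (hq : D.P.pairing a b = -q) {l l' : List Bool}
    (h : ∀ A B : ℤ, fl p q A B l (0, 0) = fl p q A B l' (0, 0)) : wprod D.P (nm a b l) = wprod D.P (nm a b l') := by
  haveI := D.fintypeIdx
  refine weyl_ext (wprod_mem_weyl _) (wprod_mem_weyl _) fun c => D.P.root.injective ?_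
  have hc : D.P.root c = D.P.root c + ((0, 0) : ℤ × ℤ).1 • D.P.root a + ((0, 0) : ℤ × ℤ).2 • D.P.root b := by simp
  rw [coords_word hp hq _ hc, coords_word hp hq _ hc, h]

theorem coords_eq (b₀ : D.P.Base) (ha : a ∈ b₀.support) (hb : b ∈ b₀.support) (hne : a ≠ b) {i j i' j' : ℤ}
    (h : i • D.P.root a + j • D.P.root b = i' • D.P.root a + j' • D.P.root b) : (i, j) = (i', j') := by
  obtain ⟨e1, e2⟩ := (LinearIndepOn.pair_iff D.P.root hne).1
    (b₀.linearIndepOn_root.mono (show ({a, b} : Set D.idx) ⊆ b₀.support by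
      intro x hx
      rcases hx with rfl | rfl <;> assumption)) (i - i') (j - j') (by
    rw [sub_smul, sub_smul, sub_add_sub_comm, h, sub_self])
  exact Prod.ext (by omega) (by omega)

theorem alt_succ (a b : D.idx) (n : ℕ) :
    wprod D.P (nm a b (alt n false)) = (RootPairing.Equiv.reflection D.P a * RootPairing.Equiv.reflection D.P b) ^ n := by
  induction n with
  | zero => simp [alt]
  | succ n ih =>
    have : alt (n + 1) false = [false, true] ++ alt n false := by simp [alt, List.replicate_succ]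
    rw [this, nm_append, wprod_append, ih, pow_succ']
    simp

theorem alt_true (a b : D.idx) (n : ℕ) :
    wprod D.P (nm a b (alt n true)) = (RootPairing.Equiv.reflection D.P a * RootPairing.Equiv.reflection D.P b) ^ n * RootPairing.Equiv.reflection D.P a := by
  rw [← alt_succ, show alt n true = alt n false ++ [false] by simp [alt], nm_append, wprod_append]
  simp

theorem braid_pow (hp : D.P.pairing b a = -p) (hq : D.P.pairing a b = -q) (h : Pairs p q) :
    (RootPairing.Equiv.reflection D.P a * RootPairing.Equiv.reflection D.P b) ^ braidLen p q = 1 := by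
  rw [← alt_succ, show (1 : D.P.Aut) = wprod D.P (nm a b []) from rfl]
  exact wprod_nm_ext hp hq fun A B => by rw [braid_period h]; rfl

theorem braidLen_pos (p q : ℤ) : 0 < braidLen p q := by
  unfold braidLen
  split_ifs <;> norm_num

theorem braidLen_dvd (b₀ : D.P.Base) (ha : a ∈ b₀.support) (hb : b ∈ b₀.support) (hne : a ≠ b)
    (hp : D.P.pairing b a = -p) (hq : D.P.pairing a b = -q) (h : Pairs p q) {t : ℕ}
    (ht : (RootPairing.Equiv.reflection D.P a * RootPairing.Equiv.reflection D.P b) ^ t = 1) : braidLen p q ∣ t := by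
  set r := RootPairing.Equiv.reflection D.P a * RootPairing.Equiv.reflection D.P b with hr
  have hm : r ^ (t % braidLen p q) = 1 := by
    rw [← ht]
    conv_rhs => rw [← Nat.mod_add_div t (braidLen p q), pow_add, pow_mul, braid_pow hp hq h, one_pow, _root_.mul_one]
  have hlt := Nat.mod_lt t (braidLen_pos p q)
  have hc : D.P.root a = 0 + ((1, 0) : ℤ × ℤ).1 • D.P.root a + ((1, 0) : ℤ × ℤ).2 • D.P.root b := by simp
  have e := coords_word hp hq 0 hc (alt (t % braidLen p q) false)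
  rw [alt_succ, hm, one_smul, map_zero, map_zero, zero_add] at e
  have e' := coords_eq b₀ ha hb hne (i := 1) (j := 0) (by simpa using e)
  rcases image_table h _ hlt false (Or.inl e'.symm) with ⟨h0, -⟩ | ⟨-, -, -, h1⟩ | ⟨-, -, h2, -⟩
  · exact Nat.dvd_of_mod_eq_zero h0
  · rw [h1] at e'; simp at e'
  · simp at h2

/-- Words in two reflections reduce to alternating words. -/
theorem dihedral_form (a b : D.idx) : ∀ l : List D.idx, (∀ x ∈ l, x = a ∨ x = b) →
    ∃ z : ℤ, wprod D.P l = (RootPairing.Equiv.reflection D.P a * RootPairing.Equiv.reflection D.P b) ^ z ∨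
      wprod D.P l = (RootPairing.Equiv.reflection D.P a * RootPairing.Equiv.reflection D.P b) ^ z * RootPairing.Equiv.reflection D.P a := by
  set s := RootPairing.Equiv.reflection D.P a
  set t := RootPairing.Equiv.reflection D.P b
  set r := s * t with hr
  have hs : s * s = 1 := refl_mul_self a
  have hsi : s⁻¹ = s := RootPairing.Equiv.reflection_inv D.P a
  have hti : t⁻¹ = t := RootPairing.Equiv.reflection_inv D.P b
  have hconj : ∀ z : ℤ, s * r ^ z = r ^ (-z) * s := fun z => by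
    have h1 : s * r * s⁻¹ = r⁻¹ := by
      rw [hr, ← _root_.mul_assoc, hs, _root_.one_mul, _root_.mul_inv_rev, hsi, hti]
    have h2 := conj_zpow (i := z) (a := s) (b := r)
    rw [h1, inv_zpow'] at h2
    rw [h2, inv_mul_cancel_right]
  have ht : t = s * r := by rw [hr, ← _root_.mul_assoc, hs, _root_.one_mul]
  intro l hl
  induction l with
  | nil => exact ⟨0, Or.inl (by simp)⟩
  | cons x l ih =>
    obtain ⟨z, hz⟩ := ih fun y hy => hl y (List.mem_cons_of_mem x hy)
    obtain ⟨i, hi⟩ : ∃ i : ℤ, RootPairing.Equiv.reflection D.P x = s * r ^ i := by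
      rcases hl x List.mem_cons_self with rfl | rfl
      · exact ⟨0, by simp [s]⟩
      · exact ⟨1, by rw [zpow_one, ← ht]⟩
    rw [wprod_cons, hi]
    rcases hz with hz | hz <;> rw [hz]
    · exact ⟨-(i + z), Or.inr (by rw [_root_.mul_assoc, ← zpow_add, hconj])⟩
    · refine ⟨-(i + z), Or.inl ?_⟩
      rw [_root_.mul_assoc, ← _root_.mul_assoc (r ^ i), ← zpow_add, ← _root_.mul_assoc, hconj, _root_.mul_assoc, hs,
        _root_.mul_one]

end Pair

end Groth.Agent.RedCell16
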